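import Mathlib

set_option autoImplicit false

namespace Cfsg.Agent.H27.Apx
open Finset Polynomial
open scoped IsMulCommutative commutatorElement

theorem geom {p : ℕ} [hp : Fact p.Prime] (e : ℕ) :
    (∑ i ∈ range (p ^ e), X ^ i : (ZMod p)[X]) = (X - 1) ^ (p ^ e - 1) := by
  have h0 : (X - 1 : (ZMod p)[X]) ≠ 0 := by simpa using X_sub_C_ne_zero (1 : ZMod p)
  apply mul_right_cancel₀ h0
  rw [geom_sum_mul, ← pow_succ, Nat.sub_add_cancel (Nat.one_le_pow _ _ hp.out.pos), sub_pow_char_pow, one_pow]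

theorem unip0 {K V : Type*} [Group K] [AddCommGroup V] [Finite V] {p : ℕ} [hp : Fact p.Prime]
    [Module (ZMod p) V] (ι : V → K) (hι : Function.Injective ι) (hadd : ∀ x y, ι (x + y) = ι x * ι y)
    {a : ℕ} (ha : Nat.card V = p ^ a) {g : K} {j : ℕ} (hg : g ^ p ^ j = 1) (s : Module.End (ZMod p) V)
    (hs1 : ∀ x, ι (s x) = g * ι x * g⁻¹) :
    (∀ e, a + 1 ≤ p ^ e → ∀ n, (ι n * g) ^ p ^ e = g ^ p ^ e) ∧ (a = 1 → ∀ n, g * ι n = ι n * g) := by
  have h0 : ι 0 = 1 := by simpa using hadd 0 0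
  have hs : ∀ (k : ℕ) (x : V), ι ((s ^ k) x) = g ^ k * ι x * (g ^ k)⁻¹ := by
    intro k x
    induction k with
    | zero => simp
    | succ k ih => rw [pow_succ', Module.End.mul_apply, hs1, ih, pow_succ']; group
  have hsj : s ^ p ^ j = 1 := by
    ext x
    apply hι
    rw [hs, hg]; simp
  have hfr : Module.finrank (ZMod p) V = a := by
    have := Module.natCard_eq_pow_finrank (K := ZMod p) (V := V)
    rw [Nat.card_zmod, ha] at this
    exact (Nat.pow_right_injective hp.out.two_le this).symm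
  have hnil : IsNilpotent (s - 1) := by
    refine ⟨p ^ j, ?_⟩
    have := congrArg (aeval s) (sub_pow_char_pow (R := (ZMod p)[X]) (p := p) (n := j) X 1)
    simpa [hsj] using this
  have hz : (s - 1) ^ a = 0 := by
    have := LinearMap.aeval_self_charpoly (s - 1)
    rwa [hnil.charpoly_eq_X_pow_finrank, hfr, map_pow, aeval_X] at this
  refine ⟨fun e he n => ?_, fun h1 n => ?_⟩
  · have key : ∀ k, (ι n * g) ^ k = ι ((∑ i ∈ range k, s ^ i) n) * g ^ k := by
      intro k
      induction k with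
      | zero => simp [h0]
      | succ k ih =>
        rw [pow_succ, ih, Finset.sum_range_succ, LinearMap.add_apply, hadd, hs]
        simp only [pow_succ]
        group
    have h2 : ∑ i ∈ range (p ^ e), s ^ i = 0 := by
      have := congrArg (aeval s) (geom (p := p) e)
      simp only [map_sum, map_pow, aeval_X, map_sub, map_one] at this
      rw [this, show p ^ e - 1 = a + (p ^ e - 1 - a) by omega, pow_add, hz, zero_mul]
    rw [key, h2]; simp [h0]
  · rw [h1, pow_one, sub_eq_zero] at hz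
    have := hs1 n
    rw [hz, Module.End.one_apply, eq_mul_inv_iff_mul_eq] at this
    exact this.symm

theorem unip {K : Type*} [Group K] {p : ℕ} [hp : Fact p.Prime] (N : Subgroup K) [N.Normal] [Finite N]
    [IsMulCommutative N] (hN : ∀ n ∈ N, n ^ p = 1) {a : ℕ} (ha : Nat.card N = p ^ a) {g : K} {j : ℕ}
    (hg : g ^ p ^ j = 1) :
    (∀ e, a + 1 ≤ p ^ e → ∀ n ∈ N, (n * g) ^ p ^ e = g ^ p ^ e) ∧ (a = 1 → ∀ n ∈ N, g * n = n * g) := by
  letI : Module (ZMod p) (Additive N) := AddCommGroup.zmodModule fun x =>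
    congrArg Additive.ofMul (Subtype.ext (hN _ x.toMul.2) : x.toMul ^ p = 1)
  have := unip0 (V := Additive N) (fun x => (x.toMul : K))
    (fun x y h => Additive.toMul.injective (Subtype.ext h)) (fun _ _ => rfl) ha hg
    ((MonoidHom.toAdditive (MulAut.conjNormal g : N ≃* N).toMonoidHom).toZModLinearMap p) fun _ => rfl
  exact ⟨fun e he n hn => this.1 e he (Additive.ofMul ⟨n, hn⟩), fun h n hn => this.2 h (Additive.ofMul ⟨n, hn⟩)⟩

theorem exists_elab {K : Type*} [Group K] [Finite K] [Group.IsSolvable K] [Nontrivial K] :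
    ∃ (N : Subgroup K) (r : ℕ), r.Prime ∧ N.Normal ∧ N ≠ ⊥ ∧ IsMulCommutative N ∧ ∀ n ∈ N, n ^ r = 1 := by
  classical
  have hex : ∃ k, derivedSeries K k = ⊥ := (Group.isSolvable_def K).mp inferInstance
  have h0 : Nat.find hex ≠ 0 := by
    intro h
    have := Nat.find_spec hex
    rw [h, derivedSeries_zero] at this
    exact top_ne_bot this
  obtain ⟨k, hk⟩ := Nat.exists_eq_succ_of_ne_zero h0
  have h1 : derivedSeries K k ≠ ⊥ := Nat.find_min hex (by omega)
  have h2 : ⁅derivedSeries K k, derivedSeries K k⁆ = ⊥ := by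
    have := Nat.find_spec hex
    rwa [hk, derivedSeries_succ] at this
  have hc : ∀ x ∈ derivedSeries K k, ∀ y ∈ derivedSeries K k, Commute x y := fun x hx y hy => by
    rw [← commutatorElement_eq_one_iff_commute, ← Subgroup.mem_bot, ← h2]
    exact Subgroup.commutator_mem_commutator hx hy
  obtain ⟨r, hr, hd⟩ := Nat.exists_prime_and_dvd (n := Nat.card (derivedSeries K k))
    (fun h => h1 (Subgroup.card_eq_one.mp h))
  haveI := Fact.mk hr
  obtain ⟨x, hx⟩ := exists_prime_orderOf_dvd_card' r hd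
  let N : Subgroup K :=
    { carrier := {n | n ∈ derivedSeries K k ∧ n ^ r = 1}
      mul_mem' := fun {a b} ha hb => ⟨mul_mem ha.1 hb.1, by rw [(hc a ha.1 b hb.1).mul_pow, ha.2, hb.2, one_mul]⟩
      one_mem' := ⟨one_mem _, one_pow _⟩
      inv_mem' := fun {a} ha => ⟨inv_mem ha.1, by rw [inv_pow, ha.2, inv_one]⟩ }
  refine ⟨N, r, hr, ⟨fun n hn g => ⟨(derivedSeries_normal K k).conj_mem n hn.1 g, ?_⟩⟩, fun h => ?_,
    ⟨⟨fun a b => Subtype.ext (hc _ a.2.1 _ b.2.1)⟩⟩, fun n hn => hn.2⟩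
  · rw [conj_pow, hn.2]; simp
  · have : (x : K) ∈ N := ⟨x.2, by rw [← Subgroup.coe_pow, ← hx, pow_orderOf_eq_one]; rfl⟩
    rw [h, Subgroup.mem_bot] at this
    rw [Subtype.ext this (a2 := (1 : derivedSeries K k)), orderOf_one] at hx
    exact hr.one_lt.ne hx

theorem sub_mem {p a : ℕ} (hp : p.Prime) (D : AddSubgroup (ZMod (p ^ a))) (hD : D ≠ ⊥) {d : ZMod (p ^ a)}
    (hd : p • d = 0) : d ∈ D := by
  haveI : NeZero (p ^ a) := ⟨pow_ne_zero _ hp.ne_zero⟩
  haveI := Fact.mk hp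
  have h1 : p ∣ Nat.card D := by
    have := AddSubgroup.card_addSubgroup_dvd_card D
    rw [Nat.card_zmod] at this
    obtain ⟨k, -, hk⟩ := (Nat.dvd_prime_pow hp).mp this
    rcases k with _ | k
    · exact absurd (AddSubgroup.card_eq_one.mp hk) hD
    · rw [hk]; exact dvd_pow_self _ (by omega)
  obtain ⟨x, hx⟩ := exists_prime_addOrderOf_dvd_card' p h1
  classical
  have hle := IsAddCyclic.card_nsmul_eq_zero_le (α := ZMod (p ^ a)) hp.pos
  have hsub : ((AddSubgroup.zmultiples (x : ZMod (p ^ a)) : Set (ZMod (p ^ a))).toFinset) ⊆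
      univ.filter fun y : ZMod (p ^ a) => p • y = 0 := by
    intro y hy
    simp only [Set.mem_toFinset, SetLike.mem_coe] at hy
    obtain ⟨k, rfl⟩ := AddSubgroup.mem_zmultiples_iff.mp hy
    have : p • (x : ZMod (p ^ a)) = 0 := by
      have h := addOrderOf_nsmul_eq_zero x
      rw [hx] at h
      rw [← AddSubgroup.coe_nsmul, h]; rfl
    simp only [Finset.mem_filter, Finset.mem_univ, true_and]
    rw [smul_comm, this, smul_zero]
  have hc : #((AddSubgroup.zmultiples (x : ZMod (p ^ a)) : Set (ZMod (p ^ a))).toFinset) = p := by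
    rw [Set.toFinset_card, ← Nat.card_eq_fintype_card, SetLike.coe_sort_coe, Nat.card_zmultiples,
      AddSubgroup.addOrderOf_coe, hx]
  have := Finset.eq_of_subset_of_card_le hsub (by rw [hc]; exact hle)
  have hd' : d ∈ (AddSubgroup.zmultiples (x : ZMod (p ^ a)) : Set (ZMod (p ^ a))).toFinset := by
    rw [this]; simpa using hd
  exact (AddSubgroup.zmultiples_le_of_mem x.2) (by simpa using hd')

theorem ns {p a : ℕ} (hp : p.Prime) (hp3 : 3 ≤ p) (ha : 1 ≤ a) {K : Type*} [Group K] [Finite K]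
    [Group.IsSolvable K] [MulAction K (ZMod (p ^ a))] [FaithfulSMul K (ZMod (p ^ a))] (c w : K)
    (hc : ∀ x : ZMod (p ^ a), c • x = x + 1) {j : ℕ} (hw : w ^ p ^ j = 1) (s : ZMod (p ^ a))
    (hs : p • (w • (s + 1) - w • s) = 0) : ∃ k, (c * w) ^ p ^ k = 1 := by
  haveI : NeZero (p ^ a) := ⟨pow_ne_zero _ hp.ne_zero⟩
  haveI := Fact.mk hp
  have hm : 1 < p ^ a := Nat.one_lt_pow (by omega) hp.one_lt
  haveI : Fact (1 < p ^ a) := ⟨hm⟩
  have hck : ∀ (k : ℕ) (x : ZMod (p ^ a)), c ^ k • x = x + k := by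
    intro k x
    induction k with
    | zero => simp
    | succ k ih => rw [pow_succ', mul_smul, ih, hc]; push_cast; ring
  haveI : Nontrivial K := ⟨c, 1, fun h => by have := hc 0; rw [h] at this; simp at this⟩
  obtain ⟨N, r, hr, hN, hN1, hcomm, hexp⟩ := exists_elab (K := K)
  have hsh : ∀ (x y z : ZMod (p ^ a)), (∃ n ∈ N, n • x = y) → ∃ n ∈ N, n • (x + z) = y + z := by
    rintro x y z ⟨n, hn, rfl⟩
    refine ⟨c ^ z.val * n * (c ^ z.val)⁻¹, hN.conj_mem n hn _, ?_⟩
    have : x + z = c ^ z.val • x := by rw [hck]; simp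
    rw [this, mul_smul, inv_smul_smul, mul_smul, hck]; simp
  let D : AddSubgroup (ZMod (p ^ a)) :=
    { carrier := {d | ∃ n ∈ N, n • (0 : ZMod (p ^ a)) = d}
      add_mem' := fun {d e} hd he => by
        obtain ⟨n, hn, h⟩ := hsh 0 e d he
        obtain ⟨n', hn', h'⟩ := hd
        exact ⟨n * n', mul_mem hn hn', by rw [mul_smul, h', ← zero_add d, h, zero_add, add_comm]⟩
      zero_mem' := ⟨1, one_mem _, one_smul _ _⟩
      neg_mem' := fun {d} hd => by
        obtain ⟨n, hn, h⟩ := hsh 0 d (-d) hd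
        refine ⟨n⁻¹, inv_mem hn, ?_⟩
        rw [inv_smul_eq_iff, ← zero_add (-d), h]; simp }
  have hD : D ≠ ⊥ := by
    intro h
    apply hN1
    rw [eq_bot_iff]
    intro n hn
    rw [Subgroup.mem_bot]
    refine eq_of_smul_eq_smul (α := ZMod (p ^ a)) fun x => ?_
    have : n • x + -x ∈ D := by
      change ∃ m ∈ N, m • (0 : ZMod (p ^ a)) = _
      simpa using hsh x (n • x) (-x) ⟨n, hn, rfl⟩
    rw [h, AddSubgroup.mem_bot] at this
    rw [one_smul, ← sub_eq_zero, sub_eq_add_neg, this]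
  have h1 : (1 : ZMod (p ^ a)) ∈ D := by
    obtain ⟨n, hn, h⟩ := hsh 0 _ (w • s) (sub_mem hp D hD hs)
    rw [zero_add, sub_add_cancel] at h
    have := hsh s (s + 1) (-s) ⟨w⁻¹ * n * w⁻¹⁻¹, hN.conj_mem n hn _, by
      rw [inv_inv, mul_smul, mul_smul, h, inv_smul_smul]⟩
    change ∃ m ∈ N, m • (0 : ZMod (p ^ a)) = _
    simpa using this
  have hall : ∀ d, d ∈ D := fun d => by
    have := nsmul_mem h1 d.val
    simpa using this
  have hfix : ∀ σ : K, (∀ n ∈ N, σ * n = n * σ) → σ • (0 : ZMod (p ^ a)) = 0 → σ = 1 := by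
    intro σ h h0
    refine eq_of_smul_eq_smul (α := ZMod (p ^ a)) fun x => ?_
    obtain ⟨n, hn, rfl⟩ := hall x
    rw [← mul_smul, h n hn, mul_smul, h0, one_smul]
  have hcard : Nat.card N = p ^ a := by
    rw [← Nat.card_zmod (p ^ a)]
    refine Nat.card_congr (Equiv.ofBijective (fun n => (n : K) • (0 : ZMod (p ^ a))) ⟨fun n n' h => ?_, fun d => ?_⟩)
    · have := hfix ((n'⁻¹ * n : N) : K) (fun m hm => congrArg Subtype.val (mul_comm (n'⁻¹ * n) ⟨m, hm⟩))
        (by rw [Subgroup.coe_mul, mul_smul, Subgroup.coe_inv, inv_smul_eq_iff]; exact h)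
      exact (inv_mul_eq_one.mp (Subtype.ext this : n'⁻¹ * n = 1)).symm
    · obtain ⟨n, hn, h⟩ := hall d
      exact ⟨⟨n, hn⟩, h⟩
  have hrp : r = p := by
    obtain ⟨x, hx⟩ := exists_prime_orderOf_dvd_card' (G := N) p (by rw [hcard]; exact dvd_pow_self _ (by omega))
    have : orderOf x ∣ r := orderOf_dvd_of_pow_eq_one (Subtype.ext (hexp _ x.2))
    rw [hx] at this
    exact ((Nat.prime_dvd_prime_iff_eq hp hr).mp this).symm
  subst hrp
  have hca : c ^ r ^ a = 1 := eq_of_smul_eq_smul (α := ZMod (r ^ a)) fun x => by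
    rw [hck, ZMod.natCast_self]; simp
  obtain ⟨n₁, hn₁, h₁⟩ := h1
  have hσ : (n₁⁻¹ * c) • (0 : ZMod (r ^ a)) = 0 := by rw [mul_smul, hc, inv_smul_eq_iff, h₁, zero_add]
  rcases Nat.eq_or_lt_of_le ha with h | h
  · have e1 := (unip N hexp hcard hca).2 h.symm
    have e2 : c = n₁ := by
      have := hfix (n₁⁻¹ * c) (fun n hn => by
        rw [mul_assoc, e1 n hn, ← mul_assoc, ← mul_assoc]
        exact congrArg (· * c) (congrArg Subtype.val (mul_comm (⟨n₁⁻¹, inv_mem hn₁⟩ : N) ⟨n, hn⟩))) hσ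
      exact (inv_mul_eq_one.mp this).symm
    refine ⟨1 + j, ?_⟩
    rw [pow_add, pow_mul, (unip N hexp hcard hw).1 1 (by rw [← h, pow_one]; omega) c (e2 ▸ hn₁), ← pow_mul,
      mul_comm, pow_mul, hw, one_pow]
  · exfalso
    obtain ⟨b, rfl⟩ := Nat.exists_eq_add_of_lt h
    have hb : 1 + b + 1 + 1 ≤ r ^ (1 + b) := by
      refine le_trans ?_ (Nat.pow_le_pow_left hp3 _)
      have : ∀ b : ℕ, 1 + b + 1 + 1 ≤ 3 ^ (1 + b) := fun b => by
        induction b with
        | zero => simp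
        | succ b ih => rw [← add_assoc, pow_succ]; omega
      exact this b
    have e1 := (unip N hexp hcard hca).1 (1 + b) hb n₁⁻¹ (inv_mem hn₁)
    have e2 : c ^ r ^ (1 + b) ∈ MulAction.stabilizer K (0 : ZMod (r ^ (1 + b + 1))) := e1 ▸ pow_mem hσ _
    rw [MulAction.mem_stabilizer_iff, hck, zero_add, ZMod.natCast_eq_zero_iff] at e2
    exact absurd (Nat.le_of_dvd (by positivity) e2) (not_le.mpr (Nat.pow_lt_pow_right hp.one_lt (by omega)))

end Cfsg.Agent.H27.Apx
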