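import Mathlib
import Cfsg.Agent.H27.Apx1

set_option autoImplicit false

namespace Cfsg.Agent.H27.Apx
open Finset Equiv
open scoped commutatorElement

def Good (p : ℕ) {Y : Type*} (a b : Perm Y) : Prop :=
  (∀ k, (a * b) ^ p ^ k ≠ 1) ∧ ¬ Group.IsSolvable (Subgroup.closure ({a, b} : Set (Perm Y)))

theorem np_of {p : ℕ} {Y : Type*} {f : Perm Y} {k : ℕ} (hk : k.Coprime p)
    (h : ∃ x, f x ≠ x ∧ (f ^ k) x = x) (j : ℕ) : f ^ p ^ j ≠ 1 := by
  intro h1
  obtain ⟨x, hx, hx'⟩ := h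
  obtain ⟨m, hm⟩ := exists_pow_eq_self_of_coprime (x := f)
    ((hk.pow_right j).coprime_dvd_right (orderOf_dvd_of_pow_eq_one h1))
  have : f ^ k ∈ MulAction.stabilizer (Perm Y) x := hx'
  have := pow_mem this m
  rw [hm] at this
  exact hx this

theorem Good.symm {p : ℕ} {Y : Type*} {a b : Perm Y} (h : Good p a b) : Good p b a := by
  refine ⟨fun k hk => h.1 k ?_, by rw [Set.pair_comm]; exact h.2⟩
  have : a * b = a * (b * a) * a⁻¹ := by group
  rw [this, conj_pow, hk]; simp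

theorem Good.transfer {p : ℕ} {Y Ω : Type*} {ι : Y → Ω} (hι : Function.Injective ι) {u w : Perm Ω}
    {a b : Perm Y} (hu : ∀ y, u (ι y) = ι (a y)) (hw : ∀ y, w (ι y) = ι (b y)) (h : Good p a b) :
    Good p u w := by
  let R : Subgroup (Perm Ω × Perm Y) :=
    { carrier := {g | ∀ y, g.1 (ι y) = ι (g.2 y)}
      mul_mem' := fun {g g'} hg hg' y => by
        simp only [Prod.fst_mul, Prod.snd_mul, Perm.mul_apply]; rw [hg', hg]
      one_mem' := fun _ => rfl
      inv_mem' := fun {g} hg y => by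
        simp only [Prod.fst_inv, Prod.snd_inv]
        rw [Perm.inv_eq_iff_eq, hg]; simp }
  have hR : ∀ g ∈ R, g.1 = 1 → g.2 = 1 := fun g hg h1 => Equiv.ext fun y => hι (by
    have := hg y
    rw [h1] at this
    exact this.symm)
  have h1 : (u, a) ∈ R := hu
  have h2 : (w, b) ∈ R := hw
  refine ⟨fun k hk => h.1 k (hR _ (pow_mem (mul_mem h1 h2) (p ^ k)) hk), fun hs => h.2 ?_⟩
  set S := Subgroup.closure ({(u, a), (w, b)} : Set (Perm Ω × Perm Y)) with hS
  have hSR : S ≤ R := by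
    rw [hS, Subgroup.closure_le]
    rintro _ (rfl | rfl)
    exacts [h1, h2]
  have e1 : S.map (MonoidHom.fst _ _) = Subgroup.closure {u, w} := by
    rw [hS, MonoidHom.map_closure, Set.image_pair]; rfl
  have e2 : S.map (MonoidHom.snd _ _) = Subgroup.closure {a, b} := by
    rw [hS, MonoidHom.map_closure, Set.image_pair]; rfl
  rw [← e1] at hs
  rw [← e2]
  haveI : Group.IsSolvable S := by
    refine Group.isSolvable_of_isSolvable_injective (f := (MonoidHom.fst _ _).subgroupMap S) ?_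
    rw [injective_iff_map_eq_one]
    intro g hg
    have h3 : g.1.1 = 1 := congrArg Subtype.val hg
    exact Subtype.ext (Prod.ext h3 (hR _ (hSR g.2) h3))
  exact Group.isSolvable_of_surjective (MonoidHom.subgroupMap_surjective (MonoidHom.snd _ _) S)

/-- both parities of conjugator available -/
def Both (p : ℕ) {Y : Type*} [DecidableEq Y] (a b : Perm Y) : Prop :=
  ∃ (π : Perm Y) (y₁ y₂ : Y), y₁ ≠ y₂ ∧ Good p a (π * b * π⁻¹) ∧
    Good p a (swap y₁ y₂ * π * b * (swap y₁ y₂ * π)⁻¹)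

theorem Both.lift {p : ℕ} {Y Ω : Type*} [Finite Y] [DecidableEq Y] [Fintype Ω] [DecidableEq Ω] {ι κ : Y → Ω}
    (hι : Function.Injective ι) (hκ : Function.Injective κ) {u w : Perm Ω}
    {a b : Perm Y} (hu : ∀ y, u (ι y) = ι (a y)) (hw : ∀ y, w (κ y) = κ (b y)) (h : Both p a b) :
    ∃ g : Perm Ω, Perm.sign g = 1 ∧ Good p u (g * w * g⁻¹) := by
  obtain ⟨π, y₁, y₂, hy, h1, h2⟩ := h
  have key : ∀ (g : Perm Ω) (π : Perm Y), (∀ y, g (κ y) = ι (π y)) → Good p a (π * b * π⁻¹) →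
      Good p u (g * w * g⁻¹) := fun g π hg h => by
    refine Good.transfer hι hu (fun y => ?_) h
    have : g⁻¹ (ι y) = κ (π⁻¹ y) := by rw [Perm.inv_eq_iff_eq, hg]; simp
    simp only [Perm.mul_apply]
    rw [this, hw, hg]
  obtain ⟨g, hg⟩ := Perm.exists_extending_pair κ (ι ∘ π) hκ (hι.comp π.injective)
  rcases Int.units_eq_one_or (Perm.sign g) with hs | hs
  · exact ⟨g, hs, key g π hg h1⟩
  · refine ⟨swap (ι y₁) (ι y₂) * g, ?_, key _ _ (fun y => ?_) h2⟩
    · rw [map_mul, Perm.sign_swap (hι.ne hy), hs]; simp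
    · simp only [Perm.mul_apply]
      rw [hg, Function.comp_apply, hι.swap_apply]

theorem nsol {G : Type*} [Group G] (H : Subgroup G) {x y z : G} (hx : x ∈ H) (hy : y ∈ H) (hz : z ∈ H)
    (h1 : x ≠ 1) (key : x = z * ⁅x, y * x * y⁻¹⁆ * z⁻¹) : ¬ Group.IsSolvable H := by
  refine not_isSolvable_of_mem_derivedSeries (g := ⟨x, hx⟩) (fun h => h1 (congrArg Subtype.val h)) fun n => ?_
  have key' : (⟨x, hx⟩ : H) = ⟨z, hz⟩ * ⁅(⟨x, hx⟩ : H), ⟨y, hy⟩ * ⟨x, hx⟩ * ⟨y, hy⟩⁻¹⁆ * ⟨z, hz⟩⁻¹ :=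
    Subtype.ext key
  induction n with
  | zero => exact Subgroup.mem_top _
  | succ n ih =>
    rw [key']
    exact (derivedSeries_normal _ _).conj_mem _
      (Subgroup.commutator_mem_commutator ih ((derivedSeries_normal _ _).conj_mem _ ih _)) _

theorem good_small {Y : Type*} (a b : Perm Y) {k : ℕ} (hk : k.Coprime 3) (h : ∃ x, (a * b) x ≠ x ∧ ((a * b) ^ k) x = x)
    (h1 : a ≠ 1) (key : a = b * ⁅a, (b * a * a * b) * a * (b * a * a * b)⁻¹⁆ * b⁻¹ ∨
      a = (b * b * a * b) * ⁅a, b * a * b⁻¹⁆ * (b * b * a * b)⁻¹ ∨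
      a = (b * a * b * b) * ⁅a, (b * b) * a * (b * b)⁻¹⁆ * (b * a * b * b)⁻¹) : Good 3 a b := by
  have ha : a ∈ Subgroup.closure ({a, b} : Set (Perm Y)) := Subgroup.subset_closure (by simp)
  have hb : b ∈ Subgroup.closure ({a, b} : Set (Perm Y)) := Subgroup.subset_closure (by simp)
  refine ⟨np_of hk h, ?_⟩
  rcases key with key | key | key
  · exact nsol _ ha (mul_mem (mul_mem (mul_mem hb ha) ha) hb) hb h1 key
  · exact nsol _ ha hb (mul_mem (mul_mem (mul_mem hb hb) ha) hb) h1 key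
  · exact nsol _ ha (mul_mem hb hb) (mul_mem (mul_mem (mul_mem hb ha) hb) hb) h1 key

def c5 : Perm (Fin 5) := ⟨![1, 2, 0, 3, 4], ![2, 0, 1, 3, 4], by decide, by decide⟩
def c6 : Perm (Fin 6) := ⟨![1, 2, 0, 3, 4, 5], ![2, 0, 1, 3, 4, 5], by decide, by decide⟩
def d6 : Perm (Fin 6) := ⟨![1, 2, 0, 4, 5, 3], ![2, 0, 1, 5, 3, 4], by decide, by decide⟩

theorem both55 : Both 3 c5 c5 :=
  ⟨⟨![0, 3, 4, 1, 2], ![0, 3, 4, 1, 2], by decide, by decide⟩, 0, 1, by decide,
    good_small _ _ (k := 5) (by decide) (by decide +kernel) (by decide +kernel) (.inl (by decide +kernel)),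
    good_small _ _ (k := 5) (by decide) (by decide +kernel) (by decide +kernel) (.inl (by decide +kernel))⟩

theorem bothdd : Both 3 d6 d6 :=
  ⟨⟨![0, 1, 3, 2, 5, 4], ![0, 1, 3, 2, 5, 4], by decide, by decide⟩, 0, 4, by decide,
    good_small _ _ (k := 5) (by decide) (by decide +kernel) (by decide +kernel) (.inl (by decide +kernel)),
    good_small _ _ (k := 5) (by decide) (by decide +kernel) (by decide +kernel) (.inl (by decide +kernel))⟩

theorem bothdc : Both 3 d6 c6 :=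
  ⟨swap 2 3, 0, 1, by decide,
    good_small _ _ (k := 4) (by decide) (by decide +kernel) (by decide +kernel) (.inr (.inl (by decide +kernel))),
    good_small _ _ (k := 5) (by decide) (by decide +kernel) (by decide +kernel) (.inr (.inr (by decide +kernel)))⟩

theorem bothcd : Both 3 c6 d6 :=
  ⟨swap 2 3, 0, 1, by decide,
    good_small _ _ (k := 4) (by decide) (by decide +kernel) (by decide +kernel) (.inr (.inl (by decide +kernel))),
    good_small _ _ (k := 5) (by decide) (by decide +kernel) (by decide +kernel) (.inr (.inr (by decide +kernel)))⟩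

theorem good_of {p a : ℕ} (hp : p.Prime) (hp3 : 3 ≤ p) (ha : 1 ≤ a) (w : Perm (ZMod (p ^ a))) {j : ℕ}
    (hw : w ^ p ^ j = 1) (s : ZMod (p ^ a)) (hs : p • (w (s + 1) - w s) = 0) {k : ℕ} (hk : k.Coprime p)
    (h : ∃ x, w x + 1 ≠ x ∧ ((Equiv.addRight 1 * w : Perm _) ^ k) x = x) : Good p (Equiv.addRight 1) w := by
  haveI : NeZero (p ^ a) := ⟨pow_ne_zero _ hp.ne_zero⟩
  refine ⟨np_of hk h, fun hsol => ?_⟩
  obtain ⟨k', hk'⟩ := ns hp hp3 ha (K := Subgroup.closure ({Equiv.addRight 1, w} : Set (Perm (ZMod (p ^ a)))))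
    ⟨Equiv.addRight 1, Subgroup.subset_closure (by simp)⟩ ⟨w, Subgroup.subset_closure (by simp)⟩
    (fun _ => rfl) (j := j) (Subtype.ext hw) s hs
  exact np_of hk h k' (congrArg Subtype.val hk')

end Cfsg.Agent.H27.Apx
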