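import Mathlib
import Cfsg.Agent.H27.Apx2

set_option autoImplicit false

namespace Cfsg.Agent.H27.Apx
open Finset Equiv

theorem ext_nodup {Y : Type*} {k : ℕ} (f g : Fin k → Y) (hf : (List.ofFn f).Nodup) (hg : (List.ofFn g).Nodup) :
    ∃ π : Perm Y, ∀ i, π (f i) = g i :=
  Perm.exists_extending_pair f g (List.nodup_ofFn.mp hf) (List.nodup_ofFn.mp hg)

theorem exists_d {p a : ℕ} (hp : p.Prime) (hp3 : 3 ≤ p) (ha : 1 ≤ a) (h5 : 5 ≤ p ^ a) :
    ∃ d e : ZMod (p ^ a), p • d = 0 ∧ p • e = 0 ∧ d ≠ e ∧ d ≠ 0 ∧ d ≠ 1 ∧ d ≠ -1 ∧ e ≠ 0 ∧ e ≠ 1 ∧ e ≠ -1 ∧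
      ((p = 5 ∧ a = 1) ∨ (d ≠ -2 ∧ e ≠ -2)) := by
  have nz : ∀ k : ℕ, 0 < k → k < p ^ a → (k : ZMod (p ^ a)) ≠ 0 := fun k h0 hk h =>
    absurd (Nat.le_of_dvd h0 ((ZMod.natCast_eq_zero_iff _ _).mp h)) (not_le.mpr hk)
  have main : ∀ x y : ℕ, p ^ a ∣ p * x → p ^ a ∣ p * y → 2 ≤ x → x < y → y + 1 < p ^ a →
      ((p = 5 ∧ a = 1) ∨ y + 2 < p ^ a) →
      ∃ d e : ZMod (p ^ a), p • d = 0 ∧ p • e = 0 ∧ d ≠ e ∧ d ≠ 0 ∧ d ≠ 1 ∧ d ≠ -1 ∧ e ≠ 0 ∧ e ≠ 1 ∧ e ≠ -1 ∧
      ((p = 5 ∧ a = 1) ∨ (d ≠ -2 ∧ e ≠ -2)) := by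
    intro x y hx hy h2 hxy hy1 hy2
    obtain ⟨u, rfl⟩ := Nat.exists_eq_add_of_le h2
    obtain ⟨v, rfl⟩ := Nat.exists_eq_add_of_lt hxy
    refine ⟨(2 + u : ℕ), (2 + u + v + 1 : ℕ), ?_, ?_, fun h => nz (v + 1) (by omega) (by omega) ?_,
      nz _ (by omega) (by omega), fun h => nz (u + 1) (by omega) (by omega) ?_,
      fun h => nz (u + 3) (by omega) (by omega) ?_, nz _ (by omega) (by omega),
      fun h => nz (u + v + 2) (by omega) (by omega) ?_, fun h => nz (u + v + 4) (by omega) (by omega) ?_,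
      hy2.imp id fun hy2 => ⟨fun h => nz (u + 4) (by omega) (by omega) ?_,
        fun h => nz (u + v + 5) (by omega) (by omega) ?_⟩⟩
    · rw [nsmul_eq_mul, ← Nat.cast_mul, ZMod.natCast_eq_zero_iff]; exact hx
    · rw [nsmul_eq_mul, ← Nat.cast_mul, ZMod.natCast_eq_zero_iff]; exact hy
    · push_cast at h ⊢; linear_combination -h
    all_goals push_cast at h ⊢; linear_combination h
  rcases Nat.eq_or_lt_of_le ha with h | h
  · subst h
    rw [pow_one] at h5
    refine main 2 3 (by simp) (by simp) le_rfl (by omega) (by rw [pow_one]; omega) ?_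
    rw [pow_one]
    by_cases h : p = 5
    · exact .inl ⟨h, rfl⟩
    · exact .inr (by omega)
  · obtain ⟨b, rfl⟩ := Nat.exists_eq_add_of_lt h
    have h1 : 3 ≤ p ^ (1 + b) := hp3.trans (Nat.le_self_pow (by omega) p)
    have h2 : 3 * p ^ (1 + b) ≤ p ^ (1 + b + 1) := by rw [pow_succ, mul_comm]; exact Nat.mul_le_mul_left _ hp3
    refine main (p ^ (1 + b)) (2 * p ^ (1 + b)) (by rw [pow_succ']) ⟨2, by rw [pow_succ']; ring⟩ (by omega)
      (by omega) (by omega) (.inr (by omega))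

theorem both_big {p a : ℕ} (hp : p.Prime) (hp3 : 3 ≤ p) (ha : 1 ≤ a) (h5 : 5 ≤ p ^ a) (w : Perm (ZMod (p ^ a)))
    {j : ℕ} (hw : w ^ p ^ j = 1) (hw1 : w ≠ 1) : Both p (Equiv.addRight 1) w := by
  haveI : NeZero (p ^ a) := ⟨pow_ne_zero _ hp.ne_zero⟩
  have nz : ∀ k : ℕ, 0 < k → k < 5 → (k : ZMod (p ^ a)) ≠ 0 := fun k h0 hk h =>
    absurd (Nat.le_of_dvd h0 ((ZMod.natCast_eq_zero_iff _ _).mp h)) (by omega)
  have n1 : (1 : ZMod (p ^ a)) ≠ 0 := by simpa using nz 1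
  have n2 : (2 : ZMod (p ^ a)) ≠ 0 := by simpa using nz 2
  have n3 : (3 : ZMod (p ^ a)) ≠ 0 := by simpa using nz 3
  have n4 : (4 : ZMod (p ^ a)) ≠ 0 := by simpa using nz 4
  have c2 : Nat.Coprime 2 p := (Nat.coprime_primes Nat.prime_two hp).mpr (by omega)
  have hc : ∀ π : Perm (ZMod (p ^ a)), (π * w * π⁻¹) ^ p ^ j = 1 := fun π => by rw [conj_pow, hw]; simp
  have hv : ∀ (π : Perm (ZMod (p ^ a))) {x y z : ZMod (p ^ a)}, π x = y → π (w x) = z → (π * w * π⁻¹) y = z :=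
    fun π x y z h1 h2 => by rw [← h1, ← h2]; simp
  obtain ⟨x, hx⟩ : ∃ x, w x ≠ x := by
    by_contra h
    push Not at h
    exact hw1 (Equiv.ext h)
  have hx2 : w (w x) ≠ x := fun h => np_of c2 ⟨x, hx, by simpa [pow_two] using h⟩ j hw
  have hx3 : w (w x) ≠ w x := fun h => hx (w.injective h)
  obtain ⟨d, e, hd, he, hde, d0, d1, dm, e0, e1, em, hor⟩ := exists_d hp hp3 ha h5
  by_cases hF : ∃ b, w b = b
  · obtain ⟨b, hb⟩ := hF
    have b1 : b ≠ x := fun h => hx (h ▸ hb)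
    have b2 : b ≠ w x := fun h => b1 (w.injective (hb.trans h))
    have b3 : b ≠ w (w x) := fun h => b2 (w.injective (hb.trans h))
    have m1 : (1 : ZMod (p ^ a)) ≠ -1 := fun h => n2 (by linear_combination h)
    obtain ⟨π, hπ⟩ := ext_nodup ![b, x, w x, w (w x)] ![0, 1, -1, d]
      (by simp [List.ofFn_succ, b1, b2, b3, hx.symm, hx2.symm, hx3.symm])
      (by simp [List.ofFn_succ, n1.symm, n1, d0.symm, d1.symm, dm.symm, m1])
    have key : ∀ (π : Perm (ZMod (p ^ a))) (d : ZMod (p ^ a)), p • d = 0 → π b = 0 → π x = 1 → π (w x) = -1 →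
        π (w (w x)) = d → Good p (Equiv.addRight 1) (π * w * π⁻¹) := by
      intro π d hd h0 h1 h2 h3
      have v0 := hv π h0 (hb.symm ▸ h0)
      have v1 := hv π h1 h2
      have v2 := hv π h2 h3
      refine good_of hp hp3 ha _ (hc π) (-1) ?_ c2 ⟨0, ?_, ?_⟩
      · rw [neg_add_cancel, v0, v2, zero_sub, smul_neg, hd, neg_zero]
      · rw [v0, zero_add]; exact n1
      · rw [pow_two, Perm.mul_apply, Perm.mul_apply (Equiv.addRight 1), Perm.mul_apply (Equiv.addRight 1), v0]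
        simp only [Equiv.coe_addRight, zero_add]
        rw [v1, neg_add_cancel]
    refine ⟨π, d, e, hde, key π d hd (hπ 0) (hπ 1) (hπ 2) (hπ 3), key _ e he ?_ ?_ ?_ ?_⟩
    · rw [Perm.mul_apply, show π b = 0 from hπ 0, swap_apply_of_ne_of_ne d0.symm e0.symm]
    · rw [Perm.mul_apply, show π x = 1 from hπ 1, swap_apply_of_ne_of_ne d1.symm e1.symm]
    · rw [Perm.mul_apply, show π (w x) = -1 from hπ 2, swap_apply_of_ne_of_ne dm.symm em.symm]
    · rw [Perm.mul_apply, show π (w (w x)) = d from hπ 3, swap_apply_left]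
  · push Not at hF
    obtain ⟨b, hb⟩ : ∃ b, b ∉ ({x, w x, w (w x), w⁻¹ x} : Finset (ZMod (p ^ a))) := by
      have : #({x, w x, w (w x), w⁻¹ x} : Finset (ZMod (p ^ a))) < #(univ : Finset (ZMod (p ^ a))) := by
        rw [Finset.card_univ, ZMod.card]
        exact lt_of_le_of_lt Finset.card_le_four (by omega)
      obtain ⟨b, -, hb⟩ := Finset.exists_mem_notMem_of_card_lt_card this
      exact ⟨b, hb⟩
    simp only [Finset.mem_insert, Finset.mem_singleton, not_or] at hb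
    obtain ⟨b1, b2, b3, b4⟩ := hb
    have b5 : x ≠ w b := fun h => b4 (by rw [h]; simp)
    have b6 : w x ≠ w b := fun h => b1 (w.injective h).symm
    have b7 : w (w x) ≠ w b := fun h => b2 (w.injective h).symm
    have m12 : (1 : ZMod (p ^ a)) ≠ 2 := fun h => n1 (by linear_combination -h)
    have m13 : (1 : ZMod (p ^ a)) ≠ 3 := fun h => n2 (by linear_combination -h)
    have m23 : (2 : ZMod (p ^ a)) ≠ 3 := fun h => n1 (by linear_combination -h)
    have hπ : ∀ d : ZMod (p ^ a), d ≠ 0 → d ≠ 1 → d ≠ -1 → d ≠ -2 → ∃ π : Perm (ZMod (p ^ a)),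
        π x = 1 ∧ π (w x) = 2 ∧ π (w (w x)) = 2 + d ∧ π b = 3 ∧ π (w b) = 0 := by
      intro d d0 d1 dm d2
      have t1 : (1 : ZMod (p ^ a)) ≠ 2 + d := fun h => dm (by linear_combination -h)
      have t2 : (2 : ZMod (p ^ a)) + d ≠ 3 := fun h => d1 (by linear_combination h)
      have t3 : (2 : ZMod (p ^ a)) + d ≠ 0 := fun h => d2 (by linear_combination h)
      obtain ⟨π, hπ⟩ := ext_nodup ![x, w x, w (w x), b, w b] ![1, 2, 2 + d, 3, 0]
        (by simp [List.ofFn_succ, Ne.symm b1, Ne.symm b2, Ne.symm b3, b5, hx.symm, hx2.symm,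
          (hF b).symm])
        (by simp [List.ofFn_succ, n1, n2, n3, m12, m13, m23, t1, t2, t3, d0])
      exact ⟨π, hπ 0, hπ 1, hπ 2, hπ 3, hπ 4⟩
    have key : ∀ (π : Perm (ZMod (p ^ a))) (d : ZMod (p ^ a)), p • d = 0 → π x = 1 → π (w x) = 2 →
        π (w (w x)) = 2 + d → π b = 3 → π (w b) = 0 → Good p (Equiv.addRight 1) (π * w * π⁻¹) := by
      intro π d hd h1 h2 h3 h4 h5
      have v1 := hv π h1 h2
      have v2 := hv π h2 h3
      have v3 := hv π h4 h5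
      refine good_of hp hp3 ha _ (hc π) 1 ?_ c2 ⟨1, ?_, ?_⟩
      · rw [one_add_one_eq_two, v1, v2, add_sub_cancel_left, hd]
      · rw [v1]; exact fun h => n2 (by linear_combination h)
      · rw [pow_two, Perm.mul_apply, Perm.mul_apply (Equiv.addRight 1), Perm.mul_apply (Equiv.addRight 1), v1]
        simp only [Equiv.coe_addRight]
        rw [show (2 : ZMod (p ^ a)) + 1 = 3 by norm_num, v3, zero_add]
    rcases hor with ⟨rfl, rfl⟩ | ⟨d2, e2⟩
    · obtain ⟨π, h1, h2, h3, h4, h5⟩ := hπ 2 (by decide) (by decide) (by decide) (by decide)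
      refine ⟨π, 0, 1, by decide, key π 2 (by decide) h1 h2 h3 h4 h5, ?_⟩
      have v1 := hv (swap 0 1 * π) (x := x) (y := 0) (z := 2) (by rw [Perm.mul_apply, h1]; decide)
        (by rw [Perm.mul_apply, h2]; decide)
      have v2 := hv (swap 0 1 * π) (x := w x) (y := 2) (z := 4) (by rw [Perm.mul_apply, h2]; decide)
        (by rw [Perm.mul_apply, h3]; decide)
      have v3 := hv (swap 0 1 * π) (x := b) (y := 3) (z := 1) (by rw [Perm.mul_apply, h4]; decide)
        (by rw [Perm.mul_apply, h5]; decide)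
      refine good_of hp hp3 ha _ (hc _) 0 ?_ (k := 3) (by decide) ⟨0, ?_, ?_⟩
      · generalize (_ - _ : ZMod (5 ^ 1)) = t
        revert t; decide
      · rw [v1]; decide
      · generalize swap 0 1 * π * w * (swap 0 1 * π)⁻¹ = w' at v1 v2 v3 ⊢
        simp only [pow_three, Perm.mul_apply, Equiv.coe_addRight]
        rw [v1, show (2 : ZMod (5 ^ 1)) + 1 = 3 by decide, v3, show (1 : ZMod (5 ^ 1)) + 1 = 2 by decide, v2]
        decide
    · obtain ⟨π, h1, h2, h3, h4, h5⟩ := hπ d d0 d1 dm d2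
      refine ⟨π, 2 + d, 2 + e, fun h => hde (add_left_cancel h), key π d hd h1 h2 h3 h4 h5,
        key _ e he ?_ ?_ ?_ ?_ ?_⟩
      · rw [Perm.mul_apply, h1, swap_apply_of_ne_of_ne (fun h => dm (by linear_combination -h))
          (fun h => em (by linear_combination -h))]
      · rw [Perm.mul_apply, h2, swap_apply_of_ne_of_ne (fun h => d0 (by linear_combination -h))
          (fun h => e0 (by linear_combination -h))]
      · rw [Perm.mul_apply, h3, swap_apply_left]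
      · rw [Perm.mul_apply, h4, swap_apply_of_ne_of_ne (fun h => d1 (by linear_combination -h))
          (fun h => e1 (by linear_combination -h))]
      · rw [Perm.mul_apply, h5, swap_apply_of_ne_of_ne (fun h => d2 (by linear_combination -h))
          (fun h => e2 (by linear_combination -h))]

theorem greedy {Ω : Type*} [Fintype Ω] [DecidableEq Ω] {p a : ℕ} (hp : p.Prime) (w : Perm Ω)
    (hw : w ^ p ^ a = 1) (hw1 : w ≠ 1) (hn : p ^ a ≤ Fintype.card Ω) :
    ∃ Δ : Finset Ω, #Δ = p ^ a ∧ (∀ x, w x ∈ Δ ↔ x ∈ Δ) ∧ ∃ x ∈ Δ, w x ≠ x := by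
  classical
  let O : Ω → Finset Ω := fun x => (MulAction.orbit (Subgroup.zpowers w) x).toFinset
  have hO : ∀ x, #(O x) ∣ p ^ a := fun x => by
    refine dvd_trans ?_ (orderOf_dvd_of_pow_eq_one hw)
    rw [← Nat.card_zpowers, ← (MulAction.stabilizer (Subgroup.zpowers w) x).index_mul_card,
      MulAction.index_stabilizer, Set.ncard_eq_toFinset_card']
    exact dvd_mul_right _ _
  have hself : ∀ x, x ∈ O x := fun x => by simp [O]
  have hinv : ∀ x y, w y ∈ O x ↔ y ∈ O x := fun x y => by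
    simp only [O, Set.mem_toFinset]
    refine ⟨fun h => ?_, fun h => MulAction.mem_orbit_of_mem_orbit (⟨w, Subgroup.mem_zpowers w⟩ : Subgroup.zpowers w) h⟩
    have := MulAction.mem_orbit_of_mem_orbit (⟨w, Subgroup.mem_zpowers w⟩⁻¹ : Subgroup.zpowers w) h
    rwa [show (⟨w, Subgroup.mem_zpowers w⟩⁻¹ : Subgroup.zpowers w) • w y = y from w.symm_apply_apply y] at this
  have hsub : ∀ (Δ : Finset Ω), (∀ x, w x ∈ Δ ↔ x ∈ Δ) → ∀ x, x ∉ Δ → Disjoint Δ (O x) := by
    intro Δ hΔ x hx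
    let S : Subgroup (Perm Ω) :=
      { carrier := {g | ∀ x, g x ∈ Δ ↔ x ∈ Δ}
        mul_mem' := fun {g h} hg hh x => (hg _).trans (hh x)
        one_mem' := fun _ => Iff.rfl
        inv_mem' := fun {g} hg x => by rw [← hg (g⁻¹ x)]; simp }
    rw [Finset.disjoint_right]
    intro y hy hy'
    simp only [O, Set.mem_toFinset] at hy
    obtain ⟨g, rfl⟩ := hy
    exact hx ((Subgroup.zpowers_le_of_mem (show w ∈ S from hΔ) g.2 x).mp hy')
  have hdv : ∀ x y, #(O x) ≤ #(O y) → #(O x) ∣ #(O y) := fun x y h => by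
    obtain ⟨i, -, hi⟩ := (Nat.dvd_prime_pow hp).mp (hO x)
    obtain ⟨j, -, hj⟩ := (Nat.dvd_prime_pow hp).mp (hO y)
    rw [hi, hj] at h ⊢
    exact pow_dvd_pow _ ((Nat.pow_le_pow_iff_right hp.one_lt).mp h)
  obtain ⟨x₀, hx₀⟩ : ∃ x, w x ≠ x := by
    by_contra h
    push Not at h
    exact hw1 (Equiv.ext h)
  obtain ⟨α, -, hα⟩ := Finset.exists_max_image univ (fun x => #(O x)) ⟨x₀, mem_univ _⟩
  have hα1 : w α ≠ α := by
    intro h
    have h1 : 1 < #(O x₀) := Finset.one_lt_card.mpr ⟨_, (hinv x₀ x₀).mpr (hself x₀), _, hself x₀, hx₀⟩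
    obtain ⟨y, hy, hy'⟩ := Finset.exists_mem_ne (h1.trans_le (hα x₀ (mem_univ _))) α
    have := hsub {α}ᶜ (fun x => by
      simp only [Finset.mem_compl, Finset.mem_singleton]
      rw [← h, w.injective.eq_iff, h]) α (by simp)
    exact Finset.disjoint_right.mp this hy (by simpa using hy')
  have step : ∀ k, ∀ Δ : Finset Ω, #Δ + k = p ^ a → (∀ x, w x ∈ Δ ↔ x ∈ Δ) → α ∈ Δ →
      (∀ y, y ∉ Δ → #(O y) ∣ #Δ) → ∃ Δ : Finset Ω, #Δ = p ^ a ∧ (∀ x, w x ∈ Δ ↔ x ∈ Δ) ∧ ∃ x ∈ Δ, w x ≠ x := by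
    intro k
    induction k using Nat.strong_induction_on with
    | _ k ih =>
      intro Δ h1 h2 h3 h4
      rcases Nat.eq_zero_or_pos k with rfl | hk
      · exact ⟨Δ, h1, h2, α, h3, hα1⟩
      · have : #Δ < #(univ : Finset Ω) := by rw [Finset.card_univ]; omega
        obtain ⟨y, -, hy⟩ := Finset.exists_mem_notMem_of_card_lt_card this
        obtain ⟨z, hz, hz'⟩ := Finset.exists_max_image Δᶜ (fun x => #(O x)) ⟨y, by simpa using hy⟩
        rw [Finset.mem_compl] at hz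
        have hd : #(O z) ∣ k := (Nat.dvd_add_right (h4 z hz)).mp (h1 ▸ hO z)
        have hle := Nat.le_of_dvd hk hd
        have hpos : 0 < #(O z) := Finset.card_pos.mpr ⟨z, hself z⟩
        have hc := Finset.card_union_of_disjoint (hsub Δ h2 z hz)
        refine ih (k - #(O z)) (by omega) (Δ ∪ O z) (by omega) (fun x => by simp [h2, hinv])
          (Finset.mem_union_left _ h3) fun y hy => ?_
        have hy' : y ∉ Δ := fun h => hy (Finset.mem_union_left _ h)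
        rw [hc]
        exact dvd_add (h4 y hy') (hdv _ _ (hz' y (by simpa using hy')))
  have := Nat.le_of_dvd (pow_pos hp.pos _) (hO α)
  exact step (p ^ a - #(O α)) (O α) (by omega) (hinv α) (hself α) fun y _ => hdv _ _ (hα y (mem_univ _))

theorem big {Ω : Type*} [Fintype Ω] [DecidableEq Ω] {p a : ℕ} (hp : p.Prime) (hp3 : 3 ≤ p) (h5 : 5 ≤ p ^ a)
    (u w : Perm Ω) (hu : orderOf u = p ^ a) (hw : w ^ p ^ a = 1) (hw1 : w ≠ 1) :
    ∃ g : Perm Ω, Perm.sign g = 1 ∧ Good p u (g * w * g⁻¹) := by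
  haveI : NeZero (p ^ a) := ⟨pow_ne_zero _ hp.ne_zero⟩
  obtain ⟨b, rfl⟩ : ∃ b, a = b + 1 := Nat.exists_eq_succ_of_ne_zero (by rintro rfl; simp at h5)
  obtain ⟨x, hx⟩ : ∃ x, (u ^ p ^ b) x ≠ x := by
    by_contra h
    push Not at h
    have := Nat.le_of_dvd (pow_pos hp.pos _) (hu ▸ orderOf_dvd_of_pow_eq_one (Equiv.ext h : u ^ p ^ b = 1))
    exact absurd this (not_le.mpr (Nat.pow_lt_pow_right hp.one_lt (by omega)))
  have hper : MulAction.period u x = p ^ (b + 1) := by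
    have h1 := MulAction.period_dvd_orderOf u x
    rw [hu] at h1
    refine Nat.eq_prime_pow_of_dvd_least_prime_pow hp (fun h => hx ?_) h1
    exact MulAction.pow_smul_eq_iff_period_dvd.mpr h
  let ι : ZMod (p ^ (b + 1)) → Ω := fun y => (u ^ y.val) x
  have hι : Function.Injective ι := by
    intro y z h
    apply ZMod.val_injective
    have hy := ZMod.val_lt y
    have hz := ZMod.val_lt z
    rw [MulAction.period_eq_minimalPeriod] at hper
    refine (Function.iterate_eq_iterate_iff_of_lt_minimalPeriod (hy.trans_eq hper.symm)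
      (hz.trans_eq hper.symm)).mp ?_
    rw [smul_iterate, smul_iterate]
    exact h
  have hιu : ∀ y, u (ι y) = ι ((Equiv.addRight 1 : Perm _) y) := fun y => by
    simp only [ι, Equiv.coe_addRight]
    rw [← Perm.mul_apply, ← pow_succ']
    congr 1
    rw [pow_eq_pow_iff_modEq, hu, ← ZMod.natCast_eq_natCast_iff]
    simp
  obtain ⟨Δ, h1, h2, x₀, hx₀, hx₁⟩ := greedy hp w hw hw1
    (by simpa using Fintype.card_le_of_injective ι hι)
  let e : Δ ≃ ZMod (p ^ (b + 1)) := Fintype.equivOfCardEq (by simp [h1])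
  let w₀ : Perm (ZMod (p ^ (b + 1))) := e.permCongr (w.subtypePerm h2)
  have hκ : ∀ y, w (e.symm y) = e.symm (w₀ y) := fun y => by simp [w₀]
  have hinj : Function.Injective fun y => ((e.symm y : Δ) : Ω) := Subtype.val_injective.comp e.symm.injective
  have hk : ∀ (k : ℕ) y, (w ^ k) (e.symm y) = e.symm ((w₀ ^ k) y) := fun k y => by
    induction k with
    | zero => rfl
    | succ k ih => rw [pow_succ' w, pow_succ' w₀, Perm.mul_apply, Perm.mul_apply, ih, hκ]
  refine Both.lift hι hinj hιu hκ (both_big hp hp3 (by omega) h5 w₀ (j := b + 1) (Equiv.ext fun y => hinj ?_) ?_)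
  · have := hk (p ^ (b + 1)) y
    rw [hw] at this
    exact this.symm
  · intro h
    have := hκ (e ⟨x₀, hx₀⟩)
    rw [h] at this
    exact hx₁ (by simpa using this)

theorem tri {n : ℕ} (hn : 5 ≤ n) (u : Perm (Fin n)) (hu : u ^ 3 = 1) (hu1 : u ≠ 1) :
    (∃ ι : Fin 6 → Fin n, Function.Injective ι ∧ ∀ y, u (ι y) = ι (d6 y)) ∨
      ((∃ ι : Fin 5 → Fin n, Function.Injective ι ∧ ∀ y, u (ι y) = ι (c5 y)) ∧
        (6 ≤ n → ∃ ι : Fin 6 → Fin n, Function.Injective ι ∧ ∀ y, u (ι y) = ι (c6 y))) := by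
  have h3 : ∀ x, u (u (u x)) = x := fun x => by
    have := congrArg (fun f : Perm (Fin n) => f x) hu
    simpa [pow_succ] using this
  have h2 : ∀ x, u x ≠ x → u (u x) ≠ x := fun x hx h => hx (by have := h3 x; rwa [h] at this)
  obtain ⟨x, hx⟩ : ∃ x, u x ≠ x := by
    by_contra h
    push Not at h
    exact hu1 (Equiv.ext h)
  have hx2 := h2 x hx
  by_cases h : ∃ y, u y ≠ y ∧ y ≠ x ∧ y ≠ u x ∧ y ≠ u (u x)
  · left
    obtain ⟨y, hy, y1, y2, y3⟩ := h
    have hy2 := h2 y hy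
    have y4 : x ≠ u y := fun h => y3 (by rw [h, h3])
    have y5 : x ≠ u (u y) := fun h => y2 (by rw [h, h3])
    have y6 : u x ≠ u (u y) := fun h => y4 (u.injective h)
    refine ⟨![x, u x, u (u x), y, u y, u (u y)], List.nodup_ofFn.mp ?_, fun i => ?_⟩
    · simp [List.ofFn_succ, hx.symm, hx2.symm, hy.symm, hy2.symm, y1.symm, y2.symm, y3.symm, y4, y5]
    · fin_cases i <;> simp [d6, h3]
  · right
    push Not at h
    have hn3 : 3 ≤ n := by omega
    obtain ⟨σ, hσ⟩ := ext_nodup (fun i : Fin 3 => Fin.castLE hn3 i) ![x, u x, u (u x)]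
      (List.nodup_ofFn.mpr (Fin.castLE_injective _)) (by simp [List.ofFn_succ, hx.symm, hx2.symm])
    have s0 : ∀ h, σ ⟨0, h⟩ = x := fun _ => hσ 0
    have s1 : ∀ h, σ ⟨1, h⟩ = u x := fun _ => hσ 1
    have s2 : ∀ h, σ ⟨2, h⟩ = u (u x) := fun _ => hσ 2
    have s3 : ∀ k h, 3 ≤ k → u (σ ⟨k, h⟩) = σ ⟨k, h⟩ := fun k hk h3k => by
      by_contra hne
      have := h _ hne (by rw [← s0 (by omega), σ.injective.ne_iff]; simp; omega)
        (by rw [← s1 (by omega), σ.injective.ne_iff]; simp; omega)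
      rw [← s2 (by omega), σ.injective.eq_iff] at this
      simp at this; omega
    refine ⟨⟨fun i => σ (Fin.castLE hn i), σ.injective.comp (Fin.castLE_injective _), fun i => ?_⟩,
      fun h6 => ⟨fun i => σ (Fin.castLE h6 i), σ.injective.comp (Fin.castLE_injective _), fun i => ?_⟩⟩
    · fin_cases i
      · exact (congrArg u (s0 _)).trans (s1 _).symm
      · exact (congrArg u (s1 _)).trans (s2 _).symm
      · exact (congrArg u (s2 _)).trans ((h3 x).trans (s0 _).symm)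
      all_goals exact s3 _ _ (by simp)
    · fin_cases i
      · exact (congrArg u (s0 _)).trans (s1 _).symm
      · exact (congrArg u (s1 _)).trans (s2 _).symm
      · exact (congrArg u (s2 _)).trans ((h3 x).trans (s0 _).symm)
      all_goals exact s3 _ _ (by simp)

theorem half {n : ℕ} (hn : 5 ≤ n) {p a b : ℕ} (hp : p.Prime) (hp3 : 3 ≤ p) (u w : Perm (Fin n)) (hu1 : u ≠ 1)
    (hw1 : w ≠ 1) (hu : orderOf u = p ^ a) (hw : orderOf w = p ^ b) (hab : b ≤ a) :
    ∃ g : Perm (Fin n), Perm.sign g = 1 ∧ Good p u (g * w * g⁻¹) := by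
  have hw' : w ^ p ^ a = 1 := orderOf_dvd_iff_pow_eq_one.mp (hw ▸ pow_dvd_pow _ hab)
  by_cases h5 : 5 ≤ p ^ a
  · exact big hp hp3 h5 u w hu hw' hw1
  · have ha : a ≠ 0 := by rintro rfl; exact hu1 (by simpa using hu)
    have h3 : p ^ a = 3 ∧ p = 3 := by
      have h1 : p ≤ p ^ a := Nat.le_self_pow ha p
      have h4 : p ≠ 4 := by rintro rfl; exact absurd hp (by decide)
      have : p = 3 := by omega
      subst this
      refine ⟨?_, rfl⟩
      have : 3 ∣ 3 ^ a := dvd_pow_self 3 ha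
      omega
    obtain ⟨h3, rfl⟩ := h3
    rw [h3] at hw' hu
    have h6 : ∀ ι : Fin 6 → Fin n, Function.Injective ι → 6 ≤ n := fun ι h => by
      simpa using Fintype.card_le_of_injective ι h
    rcases tri hn u (hu ▸ pow_orderOf_eq_one u) hu1 with ⟨ι, h1, h2⟩ | ⟨⟨ι, h1, h2⟩, hι⟩ <;>
    rcases tri hn w hw' hw1 with ⟨κ, k1, k2⟩ | ⟨⟨κ, k1, k2⟩, hκ⟩
    · exact Both.lift h1 k1 h2 k2 bothdd
    · obtain ⟨κ, k1, k2⟩ := hκ (h6 ι h1)
      exact Both.lift h1 k1 h2 k2 bothdc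
    · obtain ⟨ι, h1, h2⟩ := hι (h6 κ k1)
      exact Both.lift h1 k1 h2 k2 bothcd
    · exact Both.lift h1 k1 h2 k2 both55

theorem full {n : ℕ} (hn : 5 ≤ n) {p a b : ℕ} (hp : p.Prime) (hp3 : 3 ≤ p) (u w : Perm (Fin n)) (hu1 : u ≠ 1)
    (hw1 : w ≠ 1) (hu : orderOf u = p ^ a) (hw : orderOf w = p ^ b) :
    ∃ g : Perm (Fin n), Perm.sign g = 1 ∧ Good p u (g * w * g⁻¹) := by
  rcases le_total b a with h | h
  · exact half hn hp hp3 u w hu1 hw1 hu hw h
  · obtain ⟨g, h1, h2⟩ := half hn hp hp3 w u hw1 hu1 hw hu h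
    exact ⟨g⁻¹, by simpa using h1, Good.transfer (ι := ⇑g⁻¹) g⁻¹.injective (fun y => by simp)
      (fun y => by simp) h2.symm⟩

end Cfsg.Agent.H27.Apx
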