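import Mathlib
import Cfsg.Agent.H2.Subnormal
import Cfsg.Agent.H4.SylowIn
import Cfsg.Agent.H4.Residual

/-! Nilpotent groups: elements of coprime order commute; minimal covers by proper subgroups. -/

set_option autoImplicit false

namespace Cfsg.Agent.H27

open Subgroup
open scoped Pointwise commutatorElement

variable {G : Type*} [Group G]

theorem commute_of_coprime_of_isNilpotent' [Finite G] [Group.IsNilpotent G] {x y : G}
    (h : (orderOf x).Coprime (orderOf y)) : x * y = y * x := by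
  let π : Set ℕ := {p | p ∣ orderOf x}
  have h1 : zpowers x ≤ piCore π G :=
    H2.le_piCore_of_isSubnormal (H2.isSubnormal_of_isNilpotent _)
      (by rw [Nat.card_zpowers]; exact fun q _ hq => hq)
  have h2 : zpowers y ≤ piCore πᶜ G :=
    H2.le_piCore_of_isSubnormal (H2.isSubnormal_of_isNilpotent _) (by
      rw [Nat.card_zpowers]
      intro q hq hy hx
      exact hq.one_lt.ne' (Nat.eq_one_of_dvd_coprimes h hx hy))
  refine commute_of_normal_of_disjoint (piCore π G) (piCore πᶜ G) inferInstance inferInstance ?_ x y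
    (h1 (mem_zpowers x)) (h2 (mem_zpowers y))
  rw [disjoint_iff, ← card_eq_one, Nat.eq_one_iff_not_exists_prime_dvd]
  intro q hq h3
  exact H2.piCore_mem (π := πᶜ) q hq (h3.trans (card_dvd_of_le inf_le_right))
    (H2.piCore_mem (π := π) q hq (h3.trans (card_dvd_of_le inf_le_left)))

/-- elements of coprime orders of a finite nilpotent subgroup commute -/
theorem commute_of_coprime_of_isNilpotent {A : Subgroup G} [Finite A] (hA : Group.IsNilpotent A)
    {x y : G} (hx : x ∈ A) (hy : y ∈ A) (h : (orderOf x).Coprime (orderOf y)) : x * y = y * x :=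
  congrArg Subtype.val (commute_of_coprime_of_isNilpotent' (x := (⟨x, hx⟩ : A)) (y := ⟨y, hy⟩)
    (by rwa [← orderOf_coe, ← orderOf_coe]))

/-- if `x` fixes only one coset of `M`, every nilpotent subgroup containing `x` lies in `M` -/
theorem le_of_isNilpotent_of_conj_mem {A M : Subgroup G} (hA : Group.IsNilpotent A) {x : G}
    (hx : x ∈ A) (hxM : x ∈ M) (h : ∀ g ∈ A, g * x * g⁻¹ ∈ M → g ∈ M) : A ≤ M := by
  by_contra hn
  have h1 : A ⊓ M < A := lt_of_le_of_ne inf_le_left fun h => hn (inf_eq_left.1 h)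
  obtain ⟨g, hg, hg'⟩ := SetLike.exists_of_lt (H4.lt_inf_normalizer_of_isNilpotent h1)
  exact hg' ⟨hg.1, h g hg.1 ((mem_normalizer_iff.1 hg.2 x).1 ⟨hx, hxM⟩).2⟩

/-- a minimal cover by proper subgroups -/
def IsMinCover (𝓐 : Finset (Subgroup G)) : Prop :=
  ((∀ A ∈ 𝓐, A ≠ ⊤) ∧ (∀ g : G, ∃ A ∈ 𝓐, g ∈ A)) ∧
    (∀ 𝓑 : Finset (Subgroup G), (∀ A ∈ 𝓑, A ≠ ⊤) ∧ (∀ g : G, ∃ A ∈ 𝓑, g ∈ A) → 𝓐.card ≤ 𝓑.card)

theorem IsMinCover.false_of_replace {𝓐 : Finset (Subgroup G)} (h : IsMinCover 𝓐)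
    (Φ : Subgroup G → Subgroup G) {A₀ : Subgroup G} (h0 : A₀ ∈ 𝓐) (hΦ : ∀ A ∈ 𝓐, Φ A ≠ ⊤)
    (hc : ∀ g : G, ∃ A ∈ 𝓐, A ≠ A₀ ∧ g ∈ Φ A) : False := by
  classical
  have h1 := h.2 ((𝓐.erase A₀).image Φ) ⟨?_, ?_⟩
  · have h2 := Finset.card_image_le (s := 𝓐.erase A₀) (f := Φ)
    have h3 := Finset.card_erase_add_one h0
    omega
  · intro B hB
    obtain ⟨A, hA, rfl⟩ := Finset.mem_image.1 hB
    exact hΦ A (Finset.mem_of_mem_erase hA)
  · intro g
    obtain ⟨A, hA, hA', hg⟩ := hc g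
    exact ⟨_, Finset.mem_image_of_mem _ (Finset.mem_erase.2 ⟨hA', hA⟩), hg⟩

theorem IsMinCover.eq_of_le {𝓐 : Finset (Subgroup G)} (h : IsMinCover 𝓐) {A B M : Subgroup G}
    (hA : A ∈ 𝓐) (hB : B ∈ 𝓐) (hM : M ≠ ⊤) (hAM : A ≤ M) (hBM : B ≤ M) : A = B := by
  classical
  by_contra hne
  refine h.false_of_replace (fun C => if C = A then M else C) hB ?_ ?_
  · intro C hC
    split_ifs
    exacts [hM, h.1.1 C hC]
  · intro g
    obtain ⟨C, hC, hg⟩ := h.1.2 g
    by_cases h1 : C = B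
    · exact ⟨A, hA, hne, by simpa using hBM (h1 ▸ hg)⟩
    · refine ⟨C, hC, h1, ?_⟩
      split_ifs with h2
      exacts [hAM (h2 ▸ hg), hg]

section abelianSylow

variable [Finite G] {p : ℕ} [Fact p.Prime]

theorem comm_of_isPGroup_of_sylow_comm (P : Sylow p G) (hP : IsMulCommutative (P : Subgroup G))
    {Q : Subgroup G} (hQ : IsPGroup p Q) {x y : G} (hx : x ∈ Q) (hy : y ∈ Q) : x * y = y * x := by
  obtain ⟨g, -, hg⟩ := (H4.IsSylowIn.sylow_top P).exists_conj_le hQ le_top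
  have h1 := congrArg Subtype.val (hP.is_comm.comm ⟨_, H4.conj_smul_le_iff.1 hg x hx⟩
    ⟨_, H4.conj_smul_le_iff.1 hg y hy⟩)
  simp only [coe_mul] at h1
  calc x * y = g⁻¹ * (g * x * g⁻¹ * (g * y * g⁻¹)) * g := by group
    _ = _ := by rw [h1]; group

theorem le_centralizer_of_isNilpotent_of_sylow_comm (P : Sylow p G)
    (hP : IsMulCommutative (P : Subgroup G)) {A : Subgroup G} (hA : Group.IsNilpotent A) {x : G}
    (hx : x ∈ A) {k : ℕ} (hk : x ^ p ^ k = 1) : A ≤ centralizer ({x} : Set G) := by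
  intro g hg
  obtain ⟨a, b, ha, hb, rfl, ⟨j, hj⟩, hb'⟩ := H4.exists_part_decomp p g
  have ha' := zpowers_le.2 hg ha
  have hb'' := zpowers_le.2 hg hb
  refine mul_mem ?_ ?_
  · rw [mem_centralizer_singleton_iff]
    have h1 : ∀ y (hy : y ∈ A) (i : ℕ), y ^ p ^ i = 1 → y ∈ (pCore p A).map A.subtype := by
      intro y hy i hi
      refine ⟨⟨y, hy⟩, H2.le_pCore_of_isSubnormal (H := zpowers (⟨y, hy⟩ : A))
        (H2.isSubnormal_of_isNilpotent _) ?_ (mem_zpowers _), rfl⟩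
      obtain ⟨l, -, hl⟩ := (Nat.dvd_prime_pow Fact.out).1 (orderOf_dvd_of_pow_eq_one hi)
      exact IsPGroup.of_card (by rw [Nat.card_zpowers, ← orderOf_coe, hl])
    exact comm_of_isPGroup_of_sylow_comm P hP (H2.pCore_map_subtype_mem A) (h1 a ha' j hj)
      (h1 x hx k hk)
  · rw [mem_centralizer_singleton_iff]
    exact commute_of_coprime_of_isNilpotent hA hb'' hx
      (Nat.Coprime.coprime_dvd_right (orderOf_dvd_of_pow_eq_one hk) (hb'.pow_right k))

/-- hypothesis on the Sylow subgroups -/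
def NotBigElem (p : ℕ) (P : Subgroup G) : Prop :=
  ¬ (IsElementaryAbelian p P ∧ p < Nat.card P)

variable {𝓐 : Finset (Subgroup G)} (hZ : center G = ⊥) (h : IsMinCover 𝓐)
  (hn : ∀ A ∈ 𝓐, Group.IsNilpotent A)
include hZ h hn

theorem IsMinCover.eq_of_mem (P : Sylow p G) (hP : IsMulCommutative (P : Subgroup G))
    {A B : Subgroup G} (hA : A ∈ 𝓐) (hB : B ∈ 𝓐) {x : G} (hx1 : x ≠ 1) {k : ℕ}
    (hk : x ^ p ^ k = 1) (hxA : x ∈ A) (hxB : x ∈ B) : A = B := by
  refine h.eq_of_le hA hB (M := centralizer ({x} : Set G)) ?_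
    (le_centralizer_of_isNilpotent_of_sylow_comm P hP (hn A hA) hxA hk)
    (le_centralizer_of_isNilpotent_of_sylow_comm P hP (hn B hB) hxB hk)
  intro h1
  apply hx1
  rw [← mem_bot, ← hZ, mem_center_iff]
  intro g
  exact mem_centralizer_singleton_iff.1 (h1 ▸ mem_top g)

theorem IsMinCover.exists_sylow_le (P : Sylow p G) (hP : IsMulCommutative (P : Subgroup G))
    (hP' : NotBigElem p (P : Subgroup G)) : ∃ A ∈ 𝓐, (P : Subgroup G) ≤ A := by
  have hp : p.Prime := Fact.out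
  have hk : ∀ x ∈ (P : Subgroup G), ∃ k, x ^ p ^ k = 1 := fun x hx => by
    obtain ⟨k, hk⟩ := P.isPGroup' ⟨x, hx⟩
    exact ⟨k, congrArg Subtype.val hk⟩
  have hc : ∀ x ∈ (P : Subgroup G), ∀ y ∈ (P : Subgroup G), Commute x y := fun x hx y hy =>
    congrArg Subtype.val (hP.is_comm.comm ⟨x, hx⟩ ⟨y, hy⟩)
  by_cases h1 : ∀ x ∈ (P : Subgroup G), x ^ p = 1
  · have h2 : Nat.card (P : Subgroup G) ≤ p := by
      by_contra h2
      exact hP' ⟨⟨hP, h1⟩, not_le.1 h2⟩
    by_cases h3 : (P : Subgroup G) = ⊥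
    · obtain ⟨A, hA, -⟩ := h.1.2 1
      exact ⟨A, hA, h3 ▸ bot_le⟩
    obtain ⟨⟨x, hx⟩, hx1⟩ := ne_bot_iff_exists_ne_one.1 h3
    have hx1' : x ≠ 1 := fun h => hx1 (Subtype.ext h)
    obtain ⟨A, hA, hxA⟩ := h.1.2 x
    refine ⟨A, hA, le_trans (eq_of_le_of_card_ge (zpowers_le.2 hx) ?_).ge (zpowers_le.2 hxA)⟩
    rwa [Nat.card_zpowers, orderOf_eq_prime (h1 x hx) hx1']
  · push Not at h1
    have h2 : ∀ x ∈ (P : Subgroup G), x ^ p ≠ 1 → ∀ A ∈ 𝓐, x ∈ A → ∀ y ∈ (P : Subgroup G),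
        y ^ p = 1 → y ∈ A := by
      intro x hx hx1 A hA hxA y hy hy1
      obtain ⟨B, hB, hxB⟩ := h.1.2 (x * y)
      obtain ⟨k, hk⟩ := hk _ (pow_mem hx p)
      have h3 : x ^ p ∈ B := by
        have := pow_mem hxB p
        rwa [(hc x hx y hy).mul_pow, hy1, mul_one] at this
      rw [← h.eq_of_mem hZ hn P hP hA hB hx1 hk (pow_mem hxA p) h3] at hxB
      exact (mul_mem_cancel_left hxA).1 hxB
    obtain ⟨x, hx, hx1⟩ := h1
    obtain ⟨A, hA, hxA⟩ := h.1.2 x
    refine ⟨A, hA, fun y hy => ?_⟩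
    by_cases hy1 : y ^ p = 1
    · exact h2 x hx hx1 A hA hxA y hy hy1
    · obtain ⟨B, hB, hyB⟩ := h.1.2 y
      have h3 : p ∣ Nat.card (P : Subgroup G) := by
        rcases P.isPGroup'.card_eq_or_dvd with h4 | h4
        · rw [card_eq_one.1 h4, mem_bot] at hx
          exact absurd (by rw [hx, one_pow]) hx1
        · exact h4
      obtain ⟨⟨z, hz⟩, hz'⟩ := exists_prime_orderOf_dvd_card' p h3
      rw [← orderOf_coe] at hz'
      have hz1 : z ^ p = 1 := hz' ▸ pow_orderOf_eq_one z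
      have hz2 : z ≠ 1 := by
        rintro rfl
        exact hp.one_lt.ne (by simpa using hz')
      rwa [h.eq_of_mem hZ hn P hP hA hB hz2 (k := 1) (by rw [pow_one, hz1])
        (h2 x hx hx1 A hA hxA z hz hz1) (h2 y hy hy1 B hB hyB z hz hz1)]

omit hZ h hn in
theorem sylow_comm_of_sylow_comm {P : Sylow p G} (hP : IsMulCommutative (P : Subgroup G))
    (Q : Sylow p G) : IsMulCommutative (Q : Subgroup G) :=
  ⟨⟨fun x y => Subtype.ext (comm_of_isPGroup_of_sylow_comm P hP Q.isPGroup' x.2 y.2)⟩⟩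

omit hZ h hn in
theorem NotBigElem.sylow {P : Sylow p G} (hP : NotBigElem p (P : Subgroup G))
    (Q : Sylow p G) : NotBigElem p (Q : Subgroup G) := by
  rintro ⟨⟨h1, h2⟩, h3⟩
  refine hP ⟨⟨sylow_comm_of_sylow_comm h1 P, fun x hx => ?_⟩, ?_⟩
  · obtain ⟨g, -, hg⟩ := (H4.IsSylowIn.sylow_top Q).exists_conj_le P.isPGroup' le_top
    have := h2 _ (H4.conj_smul_le_iff.1 hg x hx)
    rwa [conj_pow, mul_inv_eq_one, mul_eq_left] at this
  · rwa [Sylow.card_eq_multiplicity] at h3 ⊢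

theorem IsMinCover.centralizer_eq (P : Sylow p G) (hP : IsMulCommutative (P : Subgroup G))
    (hP' : NotBigElem p (P : Subgroup G)) {A : Subgroup G} (hA : A ∈ 𝓐) {x : G} (hx1 : x ≠ 1)
    {k : ℕ} (hk : x ^ p ^ k = 1) (hxA : x ∈ A) : centralizer ({x} : Set G) = A := by
  refine le_antisymm (fun g hg => ?_)
    (le_centralizer_of_isNilpotent_of_sylow_comm P hP (hn A hA) hxA hk)
  obtain ⟨a, b, ha, hb, rfl, ⟨j, hj⟩, hb'⟩ := H4.exists_part_decomp p g
  have ha' : Commute a x := mem_centralizer_singleton_iff.1 (zpowers_le.2 hg ha)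
  have hb'' : Commute b x := mem_centralizer_singleton_iff.1 (zpowers_le.2 hg hb)
  refine mul_mem ?_ ?_
  · have h1 : ∀ y : G, ∀ i : ℕ, y ^ p ^ i = 1 → IsPGroup p (zpowers y) := by
      intro y i hi
      obtain ⟨l, -, hl⟩ := (Nat.dvd_prime_pow Fact.out).1 (orderOf_dvd_of_pow_eq_one hi)
      exact IsPGroup.of_card (by rw [Nat.card_zpowers, hl])
    have h2 : IsPGroup p (zpowers a ⊔ zpowers x : Subgroup G) := by
      refine (h1 a j hj).to_sup_of_normal_right' (h1 x k hk) (zpowers_le.2 ?_)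
      refine H4.centralizer_le_normalizer' _ ?_
      rintro _ ⟨i, rfl⟩
      exact (ha'.symm.zpow_left i).eq
    obtain ⟨Q, hQ⟩ := h2.exists_le_sylow
    obtain ⟨B, hB, hQB⟩ := h.exists_sylow_le hZ hn Q (sylow_comm_of_sylow_comm hP Q) (hP'.sylow Q)
    rw [h.eq_of_mem hZ hn P hP hA hB hx1 hk hxA (hQB (hQ (mem_sup_right (mem_zpowers x))))]
    exact hQB (hQ (mem_sup_left (mem_zpowers a)))
  · obtain ⟨B, hB, hxB⟩ := h.1.2 (b * x)
    have h1 : x ∈ B := by
      have h2 := pow_mem hxB (orderOf b)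
      rw [hb''.mul_pow, pow_orderOf_eq_one, one_mul] at h2
      obtain ⟨m, hm⟩ := exists_pow_eq_self_of_coprime (x := x)
        (Nat.Coprime.coprime_dvd_right (orderOf_dvd_of_pow_eq_one hk) (hb'.pow_right k))
      rw [← hm]
      exact pow_mem h2 m
    rw [h.eq_of_mem hZ hn P hP hA hB hx1 hk hxA h1]
    exact (mul_mem_cancel_right h1).1 hxB

theorem IsMinCover.sylow_structure (P : Sylow p G) (hP : IsMulCommutative (P : Subgroup G))
    (hP' : NotBigElem p (P : Subgroup G)) (hP1 : (P : Subgroup G) ≠ ⊥) :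
    centralizer (P : Set G) ∈ 𝓐 ∧
      ∀ x ∈ (P : Subgroup G), x ≠ 1 → centralizer ({x} : Set G) = centralizer (P : Set G) := by
  obtain ⟨A, hA, hPA⟩ := h.exists_sylow_le hZ hn P hP hP'
  have h1 : ∀ x ∈ (P : Subgroup G), x ≠ 1 → centralizer ({x} : Set G) = A := by
    intro x hx hx1
    obtain ⟨k, hk⟩ := P.isPGroup' ⟨x, hx⟩
    exact h.centralizer_eq hZ hn P hP hP' hA hx1 (congrArg Subtype.val hk) (hPA hx)
  have h2 : centralizer (P : Set G) = A := by
    apply le_antisymm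
    · obtain ⟨⟨x, hx⟩, hx1⟩ := ne_bot_iff_exists_ne_one.1 hP1
      rw [← h1 x hx fun h => hx1 (Subtype.ext h)]
      exact centralizer_le (Set.singleton_subset_iff.2 hx)
    · intro g hg x hx
      by_cases hx1 : x = 1
      · simp [hx1]
      · rw [← h1 x hx hx1] at hg
        exact (mem_centralizer_singleton_iff.1 hg).symm
  rw [h2]
  exact ⟨hA, h1⟩

omit hZ h hn in
theorem sylow_eq_of_centralizer_eq {P Q : Sylow p G} (hP : IsMulCommutative (P : Subgroup G))
    (h : centralizer (P : Set G) = centralizer (Q : Set G)) : P = Q := by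
  have h1 : (P : Subgroup G) ≤ centralizer (Q : Set G) := h ▸ le_centralizer (P : Subgroup G)
  have h2 : IsPGroup p (P ⊔ Q : Subgroup G) :=
    P.isPGroup'.to_sup_of_normal_right' Q.isPGroup'
      (h1.trans (H4.centralizer_le_normalizer' (Q : Subgroup G)))
  exact Sylow.ext ((P.is_maximal' h2 le_sup_left).symm.trans (Q.is_maximal' h2 le_sup_right))

theorem IsMinCover.le_normalizer (P : Sylow p G) (hP : IsMulCommutative (P : Subgroup G))
    (hP' : NotBigElem p (P : Subgroup G)) (hP1 : (P : Subgroup G) ≠ ⊥) {M : Subgroup G}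
    (hM : M ≠ ⊤) (hCM : centralizer (P : Set G) ≤ M) : M ≤ normalizer (P : Set G) := by
  intro g hg
  have h1 := (h.sylow_structure hZ hn P hP hP' hP1).1
  have h2 := (h.sylow_structure hZ hn (g • P) (sylow_comm_of_sylow_comm hP _) (hP'.sylow _) (by
    rw [Ne, ← card_eq_one, Sylow.card_eq_multiplicity, ← Sylow.card_eq_multiplicity P, card_eq_one]
    exact hP1)).1
  have h3 := h.eq_of_le h1 h2 hM hCM (by
    change centralizer ((MulAut.conj g • (P : Subgroup G) : Subgroup G) : Set G) ≤ M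
    rw [H4.centralizer_conj_smul, H4.conj_smul_le_iff]
    exact fun x hx => mul_mem (mul_mem hg (hCM hx)) (inv_mem hg))
  exact Sylow.smul_eq_iff_mem_normalizer.1 (sylow_eq_of_centralizer_eq hP h3).symm

end abelianSylow

end Cfsg.Agent.H27
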