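import Mathlib
import Cfsg.Agent.H4.Frobenius
import Cfsg.Agent.H1.Hall

/-! Counting conjugacy classes of `π`-elements. -/

set_option autoImplicit false

namespace Cfsg.Agent.H27

open Subgroup
open scoped commutatorElement

universe u

theorem card_range_le_sum {α β : Type*} [Fintype α] (f : α → β) (w : α → ℚ)
    (h : ∀ x, 1 ≤ (Set.ncard {y | f y = f x} : ℚ) * w x) :
    (Nat.card (Set.range f) : ℚ) ≤ ∑ x, w x := by
  classical
  have h1 : ∀ x, ((Set.ncard {y | f y = f x} : ℚ))⁻¹ ≤ w x := by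
    intro x
    have hpos : (0 : ℚ) < Set.ncard {y | f y = f x} := by
      have := (Set.ncard_pos (s := {y | f y = f x}) (Set.toFinite _)).2 ⟨x, rfl⟩
      exact_mod_cast this
    rw [inv_le_iff_one_le_mul₀' hpos]
    exact h x
  refine le_trans (le_of_eq ?_) (Finset.sum_le_sum fun x _ => h1 x)
  rw [Finset.sum_comp (fun b => ((Set.ncard {y | f y = b} : ℚ))⁻¹) f]
  rw [Finset.sum_congr rfl (g := fun _ => (1 : ℚ))]
  · simp only [Finset.sum_const, nsmul_eq_mul, mul_one, Nat.cast_inj]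
    rw [Nat.card_coe_set_eq, ← Set.ncard_coe_finset]
    congr 1
    ext b; simp
  · intro b hb
    obtain ⟨x, -, rfl⟩ := Finset.mem_image.1 hb
    have : Set.ncard {y | f y = f x} = (Finset.univ.filter fun a => f a = f x).card := by
      rw [← Set.ncard_coe_finset]; congr 1; ext; simp
    rw [nsmul_eq_mul, ← this]
    refine mul_inv_cancel₀ ?_
    have := ((Set.ncard_pos (s := {y | f y = f x}) (Set.toFinite _)).2 ⟨x, rfl⟩).ne'
    exact_mod_cast this

variable {G : Type u} [Group G]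

/-- number of conjugacy classes of `π`-elements -/
noncomputable def kPi (π : Set ℕ) (G : Type u) [Group G] : ℕ :=
  Nat.card {c : ConjClasses G // ∀ x ∈ c.carrier, ∀ r : ℕ, r.Prime → r ∣ orderOf x → r ∈ π}

/-- number of conjugacy classes of `p`-elements -/
noncomputable def kP (p : ℕ) (G : Type u) [Group G] : ℕ :=
  Nat.card {c : ConjClasses G // ∀ x ∈ c.carrier, ∃ k : ℕ, orderOf x = p ^ k}

theorem orderOf_eq_of_isConj' {x y : G} (h : IsConj x y) : orderOf x = orderOf y := by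
  obtain ⟨c, rfl⟩ := isConj_iff.1 h
  exact (MulEquiv.orderOf_eq (MulAut.conj c) x).symm

theorem forall_carrier_mk {Q : ℕ → Prop} (g : G) :
    (∀ x ∈ (ConjClasses.mk g).carrier, Q (orderOf x)) ↔ Q (orderOf g) := by
  constructor
  · intro h
    exact h g ConjClasses.mem_carrier_mk
  · intro h x hx
    rw [ConjClasses.mem_carrier_iff_mk_eq, ConjClasses.mk_eq_mk_iff_isConj] at hx
    rwa [orderOf_eq_of_isConj' hx]

theorem kP_eq_card_range [Finite G] {p : ℕ} [Fact p.Prime] (P : Sylow p G) :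
    kP p G = Nat.card (Set.range fun x : (P : Subgroup G) => ConjClasses.mk (x : G)) := by
  unfold kP
  refine Nat.card_congr (Equiv.subtypeEquivRight fun c => ?_)
  obtain ⟨g, rfl⟩ := ConjClasses.mk_surjective c
  rw [forall_carrier_mk (Q := fun n => ∃ k, n = p ^ k)]
  constructor
  · rintro ⟨k, hk⟩
    have h1 : IsPGroup p (zpowers g) := IsPGroup.of_card (by rw [Nat.card_zpowers, hk])
    obtain ⟨y, -, hy⟩ := (H4.IsSylowIn.sylow_top P).exists_conj_le h1 le_top
    refine ⟨⟨y * g * y⁻¹, H4.conj_smul_le_iff.1 hy g (mem_zpowers g)⟩, ?_⟩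
    rw [ConjClasses.mk_eq_mk_iff_isConj]
    exact (isConj_iff.2 ⟨y, rfl⟩).symm
  · rintro ⟨x, hx⟩
    rw [ConjClasses.mk_eq_mk_iff_isConj] at hx
    rw [← orderOf_eq_of_isConj' hx, orderOf_coe]
    exact (IsPGroup.iff_orderOf.1 P.isPGroup') x

theorem kP_le_card_conjClasses [Finite G] {p : ℕ} [Fact p.Prime] (P : Sylow p G) :
    kP p G ≤ Nat.card (ConjClasses (P : Subgroup G)) := by
  rw [kP_eq_card_range P]
  refine Nat.card_le_card_of_surjective
    (fun c => ⟨ConjClasses.map (P : Subgroup G).subtype c, ?_⟩) ?_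
  · obtain ⟨g, rfl⟩ := ConjClasses.mk_surjective c
    exact ⟨g, rfl⟩
  · rintro ⟨_, g, rfl⟩
    exact ⟨ConjClasses.mk g, rfl⟩

theorem kP_eq_card_conjClasses [Finite G] {p : ℕ} [Fact p.Prime] (P : Sylow p G)
    (h : HasNormalPComplement p G) :
    kP p G = Nat.card (ConjClasses (P : Subgroup G)) := by
  rw [kP_eq_card_range P]
  symm
  refine Nat.card_eq_of_bijective
    (fun c => ⟨ConjClasses.map (P : Subgroup G).subtype c, ?_⟩) ⟨?_, ?_⟩
  · obtain ⟨g, rfl⟩ := ConjClasses.mk_surjective c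
    exact ⟨g, rfl⟩
  · intro c d hcd
    obtain ⟨x, rfl⟩ := ConjClasses.mk_surjective c
    obtain ⟨y, rfl⟩ := ConjClasses.mk_surjective d
    have h1 : ConjClasses.mk (x : G) = ConjClasses.mk (y : G) := congrArg Subtype.val hcd
    rw [ConjClasses.mk_eq_mk_iff_isConj] at h1 ⊢
    obtain ⟨g, hg⟩ := isConj_iff.1 h1
    obtain ⟨v, hv, hv'⟩ := H4.hasNPC_exists_conj_eq h P g
    refine isConj_iff.2 ⟨⟨v, hv⟩, Subtype.ext ?_⟩
    have := hv' x x.2 (hg ▸ y.2)
    simpa [hg] using this
  · rintro ⟨_, g, rfl⟩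
    exact ⟨ConjClasses.mk g, rfl⟩

theorem kP_le_card [Finite G] {p : ℕ} [Fact p.Prime] (P : Sylow p G) :
    kP p G ≤ Nat.card (P : Subgroup G) :=
  (kP_le_card_conjClasses P).trans
    (Nat.card_le_card_of_surjective _ ConjClasses.mk_surjective)

theorem le_ncard_fiber [Finite G] (P : Subgroup G) (x : P) (s : Finset G)
    (hs : ∀ y ∈ s, y ∈ P ∧ IsConj (x : G) y) :
    s.card ≤ Set.ncard {y : P | ConjClasses.mk (y : G) = ConjClasses.mk (x : G)} := by
  rw [← Set.ncard_image_of_injective _ Subtype.val_injective, ← Set.ncard_coe_finset]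
  refine Set.ncard_le_ncard ?_ (Set.toFinite _)
  intro y hy
  exact ⟨⟨y, (hs y hy).1⟩, ConjClasses.mk_eq_mk_iff_isConj.2 (hs y hy).2.symm, rfl⟩

theorem sum_indicator_subgroup [Finite G] {P C : Subgroup G} [Fintype P] [DecidablePred (· ∈ C)]
    (h : C ≤ P) (a : ℚ) :
    ∑ x : P, (if (x : G) ∈ C then a else 0) = Nat.card C * a := by
  rw [← Finset.sum_filter, Finset.sum_const, nsmul_eq_mul]
  congr 2
  rw [← Nat.card_congr (subgroupOfEquivOfLe h).toEquiv, ← Fintype.card_subtype,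
    ← Nat.card_eq_fintype_card]
  rfl

/-- if all isolated elements of `P` lie in `C`, then `2 k_p ≤ |P| + |C|`. -/
theorem two_mul_kP_le [Finite G] {p : ℕ} [Fact p.Prime] (P : Sylow p G) (C : Subgroup G)
    (hC : C ≤ P) (h : ∀ x ∈ (P : Subgroup G), x ∉ C → ∃ y ∈ (P : Subgroup G), IsConj x y ∧ y ≠ x) :
    2 * kP p G ≤ Nat.card (P : Subgroup G) + Nat.card C := by
  classical
  letI := Fintype.ofFinite (P : Subgroup G)
  have h1 := card_range_le_sum (fun x : (P : Subgroup G) => ConjClasses.mk (x : G))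
    (fun x => 1 / 2 + if (x : G) ∈ C then 1 / 2 else 0) (by
      intro x
      by_cases hx : (x : G) ∈ C
      · have := le_ncard_fiber P x {(x : G)} (by simp [-isConj_iff, IsConj.refl])
        rw [Finset.card_singleton] at this
        have h2 : (1 : ℚ) ≤ _ := Nat.one_le_cast.2 this
        rw [if_pos hx]; linarith
      · obtain ⟨y, hy, hxy, hne⟩ := h x x.2 hx
        have := le_ncard_fiber P x {y, (x : G)} (by simp [-isConj_iff, IsConj.refl, hy, hxy])
        rw [Finset.card_pair hne] at this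
        have h2 : ((2 : ℕ) : ℚ) ≤ _ := Nat.cast_le.2 this
        rw [if_neg hx]; push_cast at h2; linarith)
  rw [← kP_eq_card_range, Finset.sum_add_distrib, sum_indicator_subgroup hC, Finset.sum_const,
    Finset.card_univ, ← Nat.card_eq_fintype_card, nsmul_eq_mul] at h1
  have : (2 * kP p G : ℚ) ≤ Nat.card (P : Subgroup G) + Nat.card C := by linarith
  exact_mod_cast this

theorem two_mul_kP_le' [Finite G] {p : ℕ} [Fact p.Prime] (P : Sylow p G) (C T : Subgroup G)
    (hC : C ≤ T) (hT : T ≤ P) (h4 : 4 * Nat.card C ≤ Nat.card T)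
    (h : ∀ x ∈ (P : Subgroup G), x ∉ C → ∃ y ∈ (P : Subgroup G), IsConj x y ∧ y ≠ x)
    (h' : ∀ x ∈ T, x ∉ C → ∃ y ∈ (P : Subgroup G), ∃ z ∈ (P : Subgroup G),
      IsConj x y ∧ IsConj x z ∧ y ≠ x ∧ z ≠ x ∧ y ≠ z) :
    2 * kP p G ≤ Nat.card (P : Subgroup G) := by
  classical
  letI := Fintype.ofFinite (P : Subgroup G)
  have h1 := card_range_le_sum (fun x : (P : Subgroup G) => ConjClasses.mk (x : G))
    (fun x => 1 / 2 + (if (x : G) ∈ C then 2 / 3 else 0) + (if (x : G) ∈ T then -1 / 6 else 0)) (by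
      intro x
      by_cases hx : (x : G) ∈ C
      · have := le_ncard_fiber P x {(x : G)} (by simp [-isConj_iff, IsConj.refl])
        rw [Finset.card_singleton] at this
        have h2 : (1 : ℚ) ≤ _ := Nat.one_le_cast.2 this
        rw [if_pos hx, if_pos (hC hx)]; linarith
      by_cases hx' : (x : G) ∈ T
      · obtain ⟨y, hy, z, hz, hxy, hxz, h1, h2, h3⟩ := h' x hx' hx
        have := le_ncard_fiber P x {y, z, (x : G)} (by simp [-isConj_iff, IsConj.refl, hy, hxy, hz, hxz])
        rw [Finset.card_eq_three.2 ⟨y, z, x, h3, h1, h2, rfl⟩] at this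
        have h2 : ((3 : ℕ) : ℚ) ≤ _ := Nat.cast_le.2 this
        rw [if_neg hx, if_pos hx']; push_cast at h2; linarith
      · obtain ⟨y, hy, hxy, hne⟩ := h x x.2 hx
        have := le_ncard_fiber P x {y, (x : G)} (by simp [-isConj_iff, IsConj.refl, hy, hxy])
        rw [Finset.card_pair hne] at this
        have h2 : ((2 : ℕ) : ℚ) ≤ _ := Nat.cast_le.2 this
        rw [if_neg hx, if_neg hx']; push_cast at h2; linarith)
  rw [← kP_eq_card_range, Finset.sum_add_distrib, Finset.sum_add_distrib,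
    sum_indicator_subgroup (hC.trans hT), sum_indicator_subgroup hT, Finset.sum_const,
    Finset.card_univ, ← Nat.card_eq_fintype_card, nsmul_eq_mul] at h1
  have h5 : (4 * Nat.card C : ℚ) ≤ Nat.card T := by exact_mod_cast h4
  have : (2 * kP p G : ℚ) ≤ Nat.card (P : Subgroup G) := by linarith
  exact_mod_cast this

/-- an element of odd order that does not centralize `x` produces three distinct conjugates -/
theorem three_conj_of_odd {g x : G} (hg : Odd (orderOf g)) (h : g * x * g⁻¹ ≠ x) :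
    g * (g * x * g⁻¹) * g⁻¹ ≠ x ∧ g * x * g⁻¹ ≠ g * (g * x * g⁻¹) * g⁻¹ := by
  constructor
  · intro h2
    apply h
    have h3 : g ^ 2 ∈ centralizer ({x} : Set G) := by
      rw [mem_centralizer_singleton_iff]
      calc g ^ 2 * x = (g * (g * x * g⁻¹) * g⁻¹) * g ^ 2 := by simp only [sq]; group
        _ = _ := by rw [h2]
    obtain ⟨k, hk⟩ := hg
    have h4 : g * (g ^ 2) ^ k = 1 := by rw [← pow_mul, ← pow_succ', ← hk, pow_orderOf_eq_one]
    have h5 : g ∈ centralizer ({x} : Set G) := by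
      rw [eq_inv_of_mul_eq_one_left h4]
      exact inv_mem (pow_mem h3 k)
    rw [mem_centralizer_singleton_iff.1 h5]; group
  · intro h2
    apply h
    have := mul_left_cancel (mul_right_cancel h2)
    exact this.symm

theorem kPi_singleton [Finite G] {p : ℕ} (hp : p.Prime) : kPi {p} G = kP p G := by
  unfold kPi kP
  refine Nat.card_congr (Equiv.subtypeEquivRight fun c => ?_)
  refine forall₂_congr fun x _ => ?_
  exact H1.isPiNum_singleton_iff hp (orderOf_pos x).ne'

theorem kPi_insert_le [Finite G] {q : ℕ} (hq : q.Prime) (π : Set ℕ) (B : ℕ)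
    (hB : ∀ C : Subgroup G, kPi π C ≤ B) : kPi (insert q π) G ≤ kP q G * B := by
  classical
  let D := {c : ConjClasses G // ∀ x ∈ c.carrier, ∃ k : ℕ, orderOf x = q ^ k}
  let E := fun d : D => {c : ConjClasses (centralizer ({Quotient.out d.1} : Set G)) //
    ∀ x ∈ c.carrier, ∀ r : ℕ, r.Prime → r ∣ orderOf x → r ∈ π}
  let F : (Σ d : D, E d) → ConjClasses G := fun s =>
    ConjClasses.mk (Quotient.out s.1.1 * (Quotient.out s.2.1 : centralizer _))
  have h1 : kPi (insert q π) G ≤ Nat.card (Set.range F) := by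
    refine Nat.card_le_card_of_injective (fun c => ⟨c.1, ?_⟩) ?_
    · obtain ⟨c, hc⟩ := c
      obtain ⟨g, rfl⟩ := ConjClasses.mk_surjective c
      rw [forall_carrier_mk (Q := fun n => ∀ r : ℕ, r.Prime → r ∣ n → r ∈ insert q π)] at hc
      obtain ⟨a, b, ha, hb, hg, ⟨k, hk⟩, hb'⟩ := H4.exists_part_decomp q g
      have hd : ∀ x ∈ (ConjClasses.mk a).carrier, ∃ k : ℕ, orderOf x = q ^ k := by
        rw [forall_carrier_mk (Q := fun n => ∃ k, n = q ^ k)]
        obtain ⟨j, -, hj⟩ := (Nat.dvd_prime_pow hq).1 (orderOf_dvd_of_pow_eq_one hk)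
        exact ⟨j, hj⟩
      have h2 : IsConj a (Quotient.out (ConjClasses.mk a)) :=
        ConjClasses.mk_eq_mk_iff_isConj.1 (Quotient.out_eq (ConjClasses.mk a)).symm
      obtain ⟨y, hy⟩ := isConj_iff.1 h2
      have hab : a * b = b * a := by
        obtain ⟨i, rfl⟩ := ha
        obtain ⟨j, hj⟩ := hb
        rw [← hj]
        exact zpow_mul_comm g i j
      have h3 : y * b * y⁻¹ ∈ centralizer ({Quotient.out (ConjClasses.mk a)} : Set G) := by
        rw [mem_centralizer_singleton_iff, ← hy]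
        calc _ = y * (b * a) * y⁻¹ := by group
          _ = _ := by rw [← hab]; group
      have he : ∀ x ∈ (ConjClasses.mk (⟨_, h3⟩ : centralizer _)).carrier,
          ∀ r : ℕ, r.Prime → r ∣ orderOf x → r ∈ π := by
        rw [forall_carrier_mk (Q := fun n => ∀ r : ℕ, r.Prime → r ∣ n → r ∈ π), ← orderOf_coe,
          ← orderOf_eq_of_isConj' (isConj_iff.2 ⟨y, rfl⟩)]
        intro r hr hrb
        rcases hc r hr (hrb.trans (orderOf_dvd_of_mem_zpowers hb)) with rfl | h
        · exact absurd (Nat.Coprime.eq_one_of_dvd hb'.symm hrb) hr.one_lt.ne'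
        · exact h
      refine ⟨⟨⟨_, hd⟩, ⟨_, he⟩⟩, ?_⟩
      have h4 : IsConj (⟨_, h3⟩ : centralizer _)
          (Quotient.out (ConjClasses.mk (⟨_, h3⟩ : centralizer _))) :=
        ConjClasses.mk_eq_mk_iff_isConj.1 (Quotient.out_eq (ConjClasses.mk _)).symm
      obtain ⟨z, hz⟩ := isConj_iff.1 h4
      change ConjClasses.mk (Quotient.out (ConjClasses.mk a) *
        (Quotient.out (ConjClasses.mk (⟨_, h3⟩ : centralizer _)) : centralizer _)) = _
      rw [← hz, ConjClasses.mk_eq_mk_iff_isConj]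
      refine (isConj_iff.2 ⟨z * y, ?_⟩).symm
      have h5 := mem_centralizer_singleton_iff.1 z.2
      simp only [coe_mul, InvMemClass.coe_inv]
      obtain ⟨z, hz'⟩ := z
      simp only at h5 ⊢
      rw [← mul_assoc, ← mul_assoc, ← h5, ← hy, hg]
      group
    · intro c d h
      exact Subtype.ext (congrArg (fun t => t.1) h)
  refine h1.trans ((Finite.card_range_le F).trans ?_)
  letI := Fintype.ofFinite D
  rw [Nat.card_sigma]
  refine (Finset.sum_le_card_nsmul _ _ B fun d _ => hB _).trans ?_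
  rw [Finset.card_univ, ← Nat.card_eq_fintype_card, smul_eq_mul]
  rfl

theorem kPi_empty_le [Finite G] : kPi ∅ G ≤ 1 := by
  unfold kPi
  rw [Finite.card_le_one_iff_subsingleton]
  refine ⟨fun c d => Subtype.ext ?_⟩
  have : ∀ c : {c : ConjClasses G // ∀ x ∈ c.carrier, ∀ r : ℕ, r.Prime → r ∣ orderOf x → r ∈ (∅ : Set ℕ)},
      c.1 = ConjClasses.mk 1 := by
    rintro ⟨c, hc⟩
    obtain ⟨g, rfl⟩ := ConjClasses.mk_surjective c
    have h1 := hc g ConjClasses.mem_carrier_mk
    have : orderOf g = 1 := Nat.eq_one_iff_not_exists_prime_dvd.2 h1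
    exact congrArg ConjClasses.mk (orderOf_eq_one_iff.1 this)
  rw [this, this]

theorem prod_factorization_subgroup_le [Finite G] (π : Finset ℕ) (hπ : ∀ r ∈ π, r.Prime)
    (C : Subgroup G) :
    ∏ r ∈ π, r ^ (Nat.card C).factorization r ≤ ∏ r ∈ π, r ^ (Nat.card G).factorization r := by
  refine Finset.prod_le_prod' fun r hr => Nat.pow_le_pow_right (hπ r hr).pos ?_
  exact (Nat.factorization_le_iff_dvd Nat.card_pos.ne' Nat.card_pos.ne').2 C.card_subgroup_dvd_card r

theorem kPi_le_prod (π : Finset ℕ) (hπ : ∀ r ∈ π, r.Prime) :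
    ∀ (G : Type u) [Group G] [Finite G],
      kPi π G ≤ ∏ r ∈ π, r ^ (Nat.card G).factorization r := by
  classical
  induction π using Finset.induction_on with
  | empty => intro G _ _; simpa using kPi_empty_le
  | insert q π hq ih =>
    intro G _ _
    have hq' := hπ q (Finset.mem_insert_self _ _)
    have hπ' : ∀ r ∈ π, r.Prime := fun r hr => hπ r (Finset.mem_insert_of_mem hr)
    haveI : Fact q.Prime := ⟨hq'⟩
    rw [Finset.coe_insert, Finset.prod_insert hq]
    refine (kPi_insert_le hq' _ _ fun C => (ih hπ' C).trans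
      (prod_factorization_subgroup_le π hπ' C)).trans (Nat.mul_le_mul_right _ ?_)
    rw [← Sylow.card_eq_multiplicity (default : Sylow q G)]
    exact kP_le_card _

theorem kPi_le_kP_mul [Finite G] (π : Finset ℕ) (hπ : ∀ r ∈ π, r.Prime) {q : ℕ} (hq : q ∈ π) :
    kPi π G ≤ kP q G * ∏ r ∈ π.erase q, r ^ (Nat.card G).factorization r := by
  classical
  have hπ' : ∀ r ∈ π.erase q, r.Prime := fun r hr => hπ r (Finset.mem_of_mem_erase hr)
  conv_lhs => rw [← Finset.insert_erase hq, Finset.coe_insert]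
  exact kPi_insert_le (hπ q hq) _ _ fun C => (kPi_le_prod _ hπ' C).trans
      (prod_factorization_subgroup_le _ hπ' C)

/-- a lower bound `a |G|_π < b k_π` passes to every prime of `π`. -/
theorem lt_kP_of_lt_kPi [Finite G] (π : Finset ℕ) (hπ : ∀ r ∈ π, r.Prime) {q : ℕ} [Fact q.Prime]
    (hq : q ∈ π) (Q : Sylow q G) {a b : ℕ}
    (h : a * ∏ r ∈ π, r ^ (Nat.card G).factorization r < b * kPi π G) :
    a * Nat.card (Q : Subgroup G) < b * kP q G := by
  classical
  rw [← Finset.mul_prod_erase _ _ hq, ← Sylow.card_eq_multiplicity Q, ← mul_assoc] at h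
  have := h.trans_le (Nat.mul_le_mul_left b (kPi_le_kP_mul π hπ hq))
  rw [← mul_assoc] at this
  exact lt_of_mul_lt_mul_right this (Nat.zero_le _)

/-- an `r`-group `A` normalizing `T`: `|T| ≡ |C_T(A)|` mod `r`. -/
theorem card_modEq_card_inf_centralizer [Finite G] {r : ℕ} [Fact r.Prime] {A T : Subgroup G}
    (hA : IsPGroup r A) (h : A ≤ normalizer (T : Set G)) :
    Nat.card T ≡ Nat.card (T ⊓ centralizer (A : Set G) : Subgroup G) [MOD r] := by
  letI := MulAction.compHom T (T.normalizerMonoidHom.comp (inclusion h))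
  have h1 := hA.card_modEq_card_fixedPoints T
  have h2 : Nat.card (MulAction.fixedPoints A T) =
      Nat.card (T ⊓ centralizer (A : Set G) : Subgroup G) := by
    refine Nat.card_eq_of_bijective (fun x => ⟨x.1.1, x.1.2, ?_⟩) ⟨?_, ?_⟩
    · intro a ha
      have : a * x.1.1 * a⁻¹ = x.1.1 := congrArg Subtype.val (x.2 ⟨a, ha⟩)
      exact mul_inv_eq_iff_eq_mul.1 this
    · intro x y hxy
      exact Subtype.ext (Subtype.ext (congrArg (fun t => t.1) hxy))
    · rintro ⟨x, hx, hx'⟩
      refine ⟨⟨⟨x, hx⟩, fun a => Subtype.ext ?_⟩, rfl⟩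
      exact mul_inv_eq_iff_eq_mul.2 (hx' a a.2)
  rwa [h2] at h1

theorem succ_mul_card_inf_centralizer_le [Finite G] {r : ℕ} [Fact r.Prime] {A T : Subgroup G}
    (hA : IsPGroup r A) (h : A ≤ normalizer (T : Set G)) (hT : ¬ r ∣ Nat.card T)
    (hne : ¬ T ≤ centralizer (A : Set G)) :
    (r + 1) * Nat.card (T ⊓ centralizer (A : Set G) : Subgroup G) ≤ Nat.card T := by
  have h1 := card_modEq_card_inf_centralizer hA h
  obtain ⟨m, hm⟩ : Nat.card (T ⊓ centralizer (A : Set G) : Subgroup G) ∣ Nat.card T :=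
    card_dvd_of_le inf_le_left
  have hm1 : m ≠ 1 := by
    rintro rfl
    apply hne
    have := eq_of_le_of_card_ge (inf_le_left : T ⊓ centralizer (A : Set G) ≤ T) (by omega)
    exact inf_eq_left.1 this
  have hm0 : m ≠ 0 := by
    rintro rfl
    exact Nat.card_pos.ne' hm
  obtain ⟨m, rfl⟩ : ∃ k, m = k + 1 := ⟨m - 1, by omega⟩
  have h2 := (Nat.modEq_iff_dvd' (by rw [hm]; nlinarith)).1 h1.symm
  rw [hm, mul_add, mul_one, Nat.add_sub_cancel] at h2
  rcases ((Fact.out : r.Prime).dvd_mul).1 h2 with h3 | h3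
  · exact absurd (hm ▸ h3.mul_right _) hT
  · have := Nat.le_of_dvd (by omega) h3
    rw [hm, mul_comm]
    exact Nat.mul_le_mul_left _ (by omega)

/-- an odd prime power automorphism of a subgroup `T ≥ Z(P)` of `P` forces `2 k_p ≤ |P|`. -/
theorem two_mul_kP_le_of_odd [Finite G] {p : ℕ} [Fact p.Prime] (P : Sylow p G) (T : Subgroup G)
    (hT : T ≤ P) (hZ : (P : Subgroup G) ⊓ centralizer (P : Set G) ≤ T) {r : ℕ} (hr : r.Prime)
    (hr2 : r ≠ 2) (hrp : r ≠ p) {g : G} (hg : g ∈ normalizer (T : Set G)) {k : ℕ}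
    (hk : g ^ r ^ k = 1) (hg' : g ∉ centralizer (T : Set G)) :
    2 * kP p G ≤ Nat.card (P : Subgroup G) := by
  haveI : Fact r.Prime := ⟨hr⟩
  obtain ⟨j, -, hj⟩ := (Nat.dvd_prime_pow hr).1 (orderOf_dvd_of_pow_eq_one hk)
  have hA : IsPGroup r (zpowers g) := IsPGroup.of_card (by rw [Nat.card_zpowers, hj])
  have hodd : Odd (orderOf g) := hj ▸ (hr.odd_of_ne_two hr2).pow
  have hne : ∀ x, x ∈ T → x ∉ T ⊓ centralizer (zpowers g : Set G) → g * x * g⁻¹ ≠ x := by
    intro x hx hx' h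
    refine hx' (mem_inf.2 ⟨hx, ?_⟩)
    rw [H1.centralizer_zpowers, mem_centralizer_singleton_iff]
    exact (mul_inv_eq_iff_eq_mul.1 h).symm
  have h1 := succ_mul_card_inf_centralizer_le hA (zpowers_le.2 hg) (by
    obtain ⟨i, hi⟩ := IsPGroup.iff_card.1 (P.isPGroup'.to_le hT)
    rw [hi]
    intro h
    exact hrp ((Nat.prime_dvd_prime_iff_eq hr Fact.out).1 (hr.dvd_of_dvd_pow h))) (by
    intro h
    exact hg' fun x hx => (h hx g (mem_zpowers g)).symm)
  refine two_mul_kP_le' P (T ⊓ centralizer (zpowers g : Set G)) T inf_le_left hT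
    (le_trans (Nat.mul_le_mul_right _ ?_) h1) ?_ ?_
  · have := hr.two_le; omega
  · intro x hx hx'
    by_cases hxT : x ∈ T
    · exact ⟨_, hT ((mem_normalizer_iff.1 hg x).1 hxT), isConj_iff.2 ⟨g, rfl⟩, hne x hxT hx'⟩
    · have : x ∉ centralizer (P : Set G) := fun h => hxT (hZ ⟨hx, h⟩)
      rw [mem_centralizer_iff] at this
      push Not at this
      obtain ⟨y, hy, hxy⟩ := this
      exact ⟨y * x * y⁻¹, mul_mem (mul_mem hy hx) (inv_mem hy), isConj_iff.2 ⟨y, rfl⟩,
        fun h => hxy (mul_inv_eq_iff_eq_mul.1 h)⟩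
  · intro x hx hx'
    have h2 := (mem_normalizer_iff.1 hg x).1 hx
    have h3 := (mem_normalizer_iff.1 hg _).1 h2
    have h4 := three_conj_of_odd hodd (hne x hx hx')
    exact ⟨_, hT h2, _, hT h3, isConj_iff.2 ⟨g, rfl⟩,
      (isConj_iff.2 ⟨g, rfl⟩).trans (isConj_iff.2 ⟨g, rfl⟩), hne x hx hx', h4.1, h4.2⟩

theorem mem_of_pow_mem_of_coprime {H : Subgroup G} {g : G} {n : ℕ} (h : g ^ n ∈ H)
    (hc : Nat.Coprime n (orderOf g)) : g ∈ H := by
  obtain ⟨m, hm⟩ := exists_pow_eq_self_of_coprime hc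
  rw [← hm]
  exact pow_mem h m

/-- if `G` has no normal `p`-complement, some `p`-subgroup `T` containing the centre of a Sylow
subgroup `P ≥ T` has a nontrivial `p'`-automorphism of prime power order -/
theorem exists_aut_of_not_hasNPC [Finite G] {p : ℕ} [Fact p.Prime]
    (h : ¬ HasNormalPComplement p G) :
    ∃ (P : Sylow p G) (T : Subgroup G), T ≤ P ∧ (P : Subgroup G) ⊓ centralizer (T : Set G) ≤ T ∧
      ∃ r : ℕ, r.Prime ∧ r ≠ p ∧ ∃ g ∈ normalizer (T : Set G), (∃ k, g ^ r ^ k = 1) ∧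
        g ∉ centralizer (T : Set G) := by
  obtain ⟨Q, hQ, r, hr, hrp, g, hg, ⟨k, hk⟩, hg'⟩ :=
    H4.exists_prime_pow_elt_of_not_hasNPC (default : Sylow p G) h
  have hQp : IsPGroup p Q := (default : Sylow p G).isPGroup'.to_le hQ
  obtain ⟨S, hS⟩ := H4.IsSylowIn.exists_isSylowIn p (centralizer (Q : Set G))
  obtain ⟨c, hc, n, hn, hg2⟩ := hS.frattini_arg (g := g)
    (H1.le_normalizer_centralizer (zpowers_le.2 hg) (mem_zpowers g))
  have hcQ := H4.centralizer_le_normalizer' Q hc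
  have hnQ : n ∈ normalizer (Q : Set G) := by
    rw [eq_inv_mul_iff_mul_eq.2 hg2.symm]
    exact mul_mem (inv_mem hcQ) hg
  have hT : IsPGroup p (Q ⊔ S : Subgroup G) :=
    hQp.to_sup_of_normal_left' hS.isPGroup (hS.le.trans (H4.centralizer_le_normalizer' Q))
  obtain ⟨P, hP⟩ := hT.exists_le_sylow
  obtain ⟨a, b, ha, hb, hab, hak, hb'⟩ := H4.exists_part_decomp r n
  refine ⟨P, Q ⊔ S, hP, ?_, r, hr, hrp, a, ?_, hak, ?_⟩
  · have h1 : (P : Subgroup G) ⊓ centralizer (Q : Set G) = S :=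
      hS.eq_of_le (P.isPGroup'.to_le inf_le_left) inf_le_right
        (le_inf (le_sup_right.trans hP) hS.le)
    refine le_trans ?_ (h1.le.trans le_sup_right)
    exact inf_le_inf_left _ (centralizer_le (SetLike.coe_subset_coe.2 le_sup_left))
  · exact H1.le_normalizer_sup (zpowers_le.2 hnQ) (zpowers_le.2 hn) ha
  · intro haT
    have haQ : a ∈ centralizer (Q : Set G) :=
      centralizer_le (SetLike.coe_subset_coe.2 le_sup_left) haT
    have hbQ : b ∈ normalizer (Q : Set G) := zpowers_le.2 hnQ hb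
    have key : ∀ j : ℕ, ∀ x ∈ Q, g ^ j * x * (g ^ j)⁻¹ = b ^ j * x * (b ^ j)⁻¹ := by
      intro j
      induction j with
      | zero => simp
      | succ j ih =>
        intro x hx
        have h1 : b ^ (j + 1) * x * (b ^ (j + 1))⁻¹ ∈ Q :=
          (mem_normalizer_iff.1 (pow_mem hbQ _) x).1 hx
        have h2 := mul_mem hc haQ _ h1
        calc _ = g * (g ^ j * x * (g ^ j)⁻¹) * g⁻¹ := by group
          _ = (c * a) * (b ^ (j + 1) * x * (b ^ (j + 1))⁻¹) * (c * a)⁻¹ := by
            rw [ih x hx, hg2, hab]; group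
          _ = _ := by rw [← h2]; group
    apply hg'
    refine mem_of_pow_mem_of_coprime (n := orderOf b) ?_ (hk ▸ hb'.pow_right k)
    intro x hx
    have := key (orderOf b) x hx
    rw [pow_orderOf_eq_one b] at this
    simp only [one_mul, inv_one, mul_one] at this
    exact (mul_inv_eq_iff_eq_mul.1 this).symm

theorem hasNPC_two_of_lt_kP [Finite G] (P : Sylow 2 G)
    (h : Nat.card (P : Subgroup G) < 2 * kP 2 G) : HasNormalPComplement 2 G := by
  by_contra hn
  obtain ⟨P', T, hT, hZ, r, hr, hr2, g, hg, ⟨k, hk⟩, hg'⟩ := exists_aut_of_not_hasNPC hn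
  have := two_mul_kP_le_of_odd P' T hT
    (le_trans (inf_le_inf_left _ (centralizer_le (fun x hx => hT hx))) hZ)
    hr hr2 hr2 hg hk hg'
  rw [Sylow.card_eq_multiplicity] at h this
  omega

theorem isMulCommutative_of_lt_kP [Finite G] {p : ℕ} [Fact p.Prime] (hp : p ≠ 2) (P : Sylow p G)
    (h : Nat.card (P : Subgroup G) < 2 * kP p G) : IsMulCommutative (P : Subgroup G) := by
  by_contra hn
  refine absurd (two_mul_kP_le' P ((center P).map (P : Subgroup G).subtype) P
    (map_subtype_le _) le_rfl ?_ ?_ ?_) (not_le.2 h)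
  · rw [card_subtype, ← (center P).index_mul_card]
    refine Nat.mul_le_mul_right _ ?_
    by_contra h4
    have h1 : IsCyclic (P ⧸ center P) := by
      have h0 : (center P).index ≠ 0 := FiniteIndex.index_ne_zero
      have : (center P).index = 1 ∨ (center P).index = 2 ∨ (center P).index = 3 := by omega
      rcases this with h | h | h
      · haveI : Subsingleton (P ⧸ center P) := (Nat.card_eq_one_iff_unique.1 h).1
        infer_instance
      · exact isCyclic_of_prime_card h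
      · haveI : Fact (Nat.Prime 3) := ⟨Nat.prime_three⟩
        exact isCyclic_of_prime_card h
    exact hn (MonoidHom.isMulCommutative_of_isCyclic_of_ker_le_center (QuotientGroup.mk' (center P))
      (by simp))
  all_goals
    intro x hx hx'
    have : ∃ y ∈ (P : Subgroup G), y * x * y⁻¹ ≠ x := by
      by_contra h1
      push Not at h1
      exact hx' ⟨⟨x, hx⟩, mem_center_iff.2 fun y => Subtype.ext
        (mul_inv_eq_iff_eq_mul.1 (h1 y y.2)), rfl⟩
    obtain ⟨y, hy, hxy⟩ := this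
    have h2 := mul_mem (mul_mem hy hx) (inv_mem hy)
  · exact ⟨_, h2, isConj_iff.2 ⟨y, rfl⟩, hxy⟩
  · have hodd : Odd (orderOf y) := by
      obtain ⟨k, hk⟩ := (IsPGroup.iff_orderOf.1 P.isPGroup') ⟨y, hy⟩
      rw [← orderOf_coe] at hk
      exact hk ▸ ((Fact.out : p.Prime).odd_of_ne_two hp).pow
    have h4 := three_conj_of_odd hodd hxy
    exact ⟨_, h2, _, mul_mem (mul_mem hy h2) (inv_mem hy), isConj_iff.2 ⟨y, rfl⟩,
      (isConj_iff.2 ⟨y, rfl⟩).trans (isConj_iff.2 ⟨y, rfl⟩), hxy, h4.1, h4.2⟩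

theorem hasNPC_and_comm_of_lt_kP [Finite G] {p : ℕ} [Fact p.Prime] (P : Sylow p G)
    (h : (p + 1) * Nat.card (P : Subgroup G) < 2 * p * kP p G) :
    HasNormalPComplement p G ∧ IsMulCommutative (P : Subgroup G) := by
  have hp : p.Prime := Fact.out
  have h1 := two_mul_kP_le P (P ⊓ centralizer (normalizer (P : Set G) : Set G)) inf_le_left (by
    intro x hx hx'
    have : x ∉ centralizer (normalizer (P : Set G) : Set G) := fun h => hx' ⟨hx, h⟩
    rw [mem_centralizer_iff] at this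
    push Not at this
    obtain ⟨y, hy, hxy⟩ := this
    exact ⟨y * x * y⁻¹, (mem_normalizer_iff.1 hy x).1 hx, isConj_iff.2 ⟨y, rfl⟩,
      fun h => hxy (mul_inv_eq_iff_eq_mul.1 h)⟩)
  have h2 : (P : Subgroup G) ≤ centralizer (normalizer (P : Set G) : Set G) := by
    set C := (P : Subgroup G) ⊓ centralizer (normalizer (P : Set G) : Set G) with hC
    have h3 : C ≤ P := inf_le_left
    obtain ⟨k, hk⟩ := P.isPGroup'.index (C.subgroupOf P)
    have h4 := H4.card_mul_relIndex h3
    change C.relIndex P = _ at hk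
    rcases k with _ | k
    · rw [pow_zero, relIndex_eq_one] at hk
      exact hk.trans inf_le_right
    · exfalso
      have h5 : p ≤ C.relIndex P := hk ▸ Nat.le_self_pow (by omega) p
      have h6 : Nat.card C * p ≤ Nat.card (P : Subgroup G) := h4 ▸ Nat.mul_le_mul_left _ h5
      nlinarith
  refine ⟨H4.hasNPC_of_normalizer_le_centralizer P fun g hg x hx => (h2 hx g hg).symm, ?_⟩
  exact ⟨⟨fun x y => Subtype.ext (h2 y.2 x (le_normalizer x.2))⟩⟩

/-- normal `q`-complements with abelian Sylow subgroups for all `q ∈ σ` combine -/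
theorem exists_normal_compl_of_forall [Finite G] (σ : Set ℕ)
    (h : ∀ q ∈ σ, ∀ [Fact q.Prime], HasNormalPComplement q G ∧
      ∀ Q : Sylow q G, IsMulCommutative (Q : Subgroup G)) :
    ∃ N : Subgroup G, N.Characteristic ∧ H1.IsPiNum σᶜ (Nat.card N) ∧ H1.IsPiNum σ N.index ∧
      ∃ H : Subgroup G, IsPiHall σ H ∧ IsMulCommutative H := by
  let N : Subgroup G := ⨅ q : {q : ℕ // q ∈ σ ∧ q.Prime}, pResidual q.1 G
  have hmem : ∀ g, g ∈ N ↔ H1.IsPiNum σᶜ (orderOf g) := by
    intro g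
    rw [mem_iInf, H1.isPiNum_compl_iff]
    constructor
    · intro h1 q hq hq'
      haveI : Fact q.Prime := ⟨hq⟩
      have := (H4.hasNPC_mem_pResidual_iff (h q hq').1 g).1 (h1 ⟨q, hq', hq⟩)
      exact (Nat.Prime.coprime_iff_not_dvd hq).1 this.symm
    · rintro h1 ⟨q, hq', hq⟩
      exact H4.mem_pResidual ((Nat.Prime.coprime_iff_not_dvd hq).2 (h1 q hq hq')).symm
  have hchar : N.Characteristic := by
    rw [characteristic_iff_comap_eq]
    intro φ
    ext g
    rw [mem_comap, hmem, hmem]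
    exact iff_of_eq (congrArg _ (MulEquiv.orderOf_eq φ g))
  have h1 : H1.IsPiNum σᶜ (Nat.card N) := by
    intro r hr hrN
    haveI : Fact r.Prime := ⟨hr⟩
    obtain ⟨x, hx⟩ := exists_prime_orderOf_dvd_card' r hrN
    exact (hmem x).1 x.2 r hr (by rw [orderOf_coe, hx])
  have h2 : H1.IsPiNum σ N.index := by
    intro r hr hrN
    haveI : Fact r.Prime := ⟨hr⟩
    by_contra hrσ
    obtain ⟨x, hx⟩ := exists_prime_orderOf_dvd_card' (G := G ⧸ N) r hrN
    obtain ⟨x, rfl⟩ := QuotientGroup.mk_surjective x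
    have h3 : x ^ r ∈ N := by
      rw [← QuotientGroup.eq_one_iff, QuotientGroup.mk_pow, ← hx, pow_orderOf_eq_one]
    have h4 : x ∈ N := by
      rw [hmem] at h3 ⊢
      intro s hs hsx
      have : orderOf x ∣ r * orderOf (x ^ r) := by
        apply orderOf_dvd_of_pow_eq_one
        rw [pow_mul, pow_orderOf_eq_one]
      rcases hs.dvd_mul.1 (hsx.trans this) with h5 | h5
      · rw [(Nat.prime_dvd_prime_iff_eq hs hr).1 h5]; exact hrσ
      · exact h3 s hs h5
    rw [(QuotientGroup.eq_one_iff x).2 h4, orderOf_one] at hx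
    exact hr.one_lt.ne hx
  have h3 : commutator G ≤ N := by
    refine le_iInf ?_
    rintro ⟨q, hq', hq⟩
    haveI : Fact q.Prime := ⟨hq⟩
    let Q : Sylow q G := default
    have h4 := H4.hasNPC_isComplement' (h q hq').1 Q
    have h5 := (h q hq').2 Q
    rw [← Normal.quotient_commutative_iff_commutator_le]
    exact ⟨⟨fun a b => by
      obtain ⟨a, rfl⟩ := h4.symm.QuotientMulEquiv.symm.surjective a
      obtain ⟨b, rfl⟩ := h4.symm.QuotientMulEquiv.symm.surjective b
      rw [← map_mul, ← map_mul, h5.is_comm.comm]⟩⟩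
  obtain ⟨H, hH⟩ := exists_right_complement'_of_coprime (N := N) (h2.coprime h1).symm
  refine ⟨N, hchar, h1, h2, H, H1.isPiHall_iff.2 ⟨?_, ?_⟩, ⟨⟨fun a b => ?_⟩⟩⟩
  · rwa [← hH.symm.index_eq_card]
  · rwa [hH.index_eq_card]
  · have : ⁅(a : G), (b : G)⁆ ∈ N ⊓ H :=
      ⟨h3 (commutator_mem_commutator (mem_top _) (mem_top _)),
        H.mul_mem (H.mul_mem (H.mul_mem a.2 b.2) (H.inv_mem a.2)) (H.inv_mem b.2)⟩
    rw [hH.disjoint.eq_bot, mem_bot] at this
    exact Subtype.ext (commutatorElement_eq_one_iff_mul_comm.1 this)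

end Cfsg.Agent.H27
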