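import Mathlib
import Cfsg.Agent.H27.Cover
import Cfsg.Agent.H27.KCount

/-! Nilpotent minimal covers of subgroups of `PGL_n`: linear algebra. -/

set_option autoImplicit false

namespace Cfsg.Agent.H27

open Subgroup Matrix
open scoped Pointwise

/-- a minimal nilpotent cover of `S / Z(Γ)`, pulled back to `Γ` -/
structure PCover (Γ : Type*) [Group Γ] (S : Subgroup Γ) (ι : Type*) (𝓐 : Finset ι)
    (hat : ι → Subgroup Γ) : Prop where
  cov : ∀ g ∈ S, ∃ A ∈ 𝓐, g ∈ hat A
  nil : ∀ A ∈ 𝓐, Group.IsNilpotent (hat A)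
  center_le : ∀ A ∈ 𝓐, center Γ ≤ hat A
  not_le : ∀ A ∈ 𝓐, ¬ S ≤ hat A
  rep : ∀ (Φ : ι → Subgroup Γ), ∀ A₀ ∈ 𝓐, (∀ A ∈ 𝓐, center Γ ≤ Φ A ∧ ¬ S ≤ Φ A) →
    (∀ g ∈ S, ∃ A ∈ 𝓐, A ≠ A₀ ∧ g ∈ Φ A) → False
  le : ∀ A ∈ 𝓐, hat A ≤ S

theorem pcover_of_isMinCover {Γ : Type*} [Group Γ] (G : Subgroup (Γ ⧸ center Γ))
    {𝓐 : Finset (Subgroup G)} (h : IsMinCover 𝓐) (hn : ∀ A ∈ 𝓐, Group.IsNilpotent A) :
    PCover Γ (G.comap (QuotientGroup.mk' _)) (Subgroup G) 𝓐
      (fun A => (A.map G.subtype).comap (QuotientGroup.mk' _)) where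
  cov g hg := by
    obtain ⟨A, hA, h1⟩ := h.1.2 ⟨_, hg⟩
    exact ⟨A, hA, mem_map_of_mem G.subtype h1⟩
  nil A hA := by
    haveI := hn A hA
    haveI := H2.isNilpotent_map G.subtype A
    exact H2.isNilpotent_comap_of_ker_le_center _ (by simp) _
  center_le A _ := H1.le_comap_mk _ _
  not_le A hA h1 := by
    refine h.1.1 A hA (eq_top_iff.2 ?_)
    rintro ⟨g, hg⟩ -
    obtain ⟨g, rfl⟩ := QuotientGroup.mk'_surjective _ g
    obtain ⟨y, hy, h2⟩ := h1 hg
    obtain rfl : y = ⟨_, hg⟩ := Subtype.ext h2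
    exact hy
  rep Φ A₀ h0 hΦ hc := by
    refine h.false_of_replace (fun A => ((Φ A).map (QuotientGroup.mk' _)).subgroupOf G) h0 ?_ ?_
    · intro A hA h1
      refine (hΦ A hA).2 fun g hg => ?_
      have : (⟨_, hg⟩ : G) ∈ ((Φ A).map (QuotientGroup.mk' _)).subgroupOf G := h1 ▸ mem_top _
      have h2 : g ∈ ((Φ A).map (QuotientGroup.mk' _)).comap (QuotientGroup.mk' _) := this
      rwa [H1.comap_map_mk, sup_eq_left.2 (hΦ A hA).1] at h2
    · rintro ⟨g, hg⟩
      obtain ⟨g, rfl⟩ := QuotientGroup.mk'_surjective _ g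
      obtain ⟨A, hA, h1, h2⟩ := hc g hg
      exact ⟨A, hA, h1, mem_map_of_mem _ h2⟩
  le A _ := comap_mono (map_subtype_le _)

theorem PCover.eq_of_le {Γ : Type*} [Group Γ] {S : Subgroup Γ} {ι : Type*} {𝓐 : Finset ι}
    {hat : ι → Subgroup Γ} (h : PCover Γ S ι 𝓐 hat) {A B : ι} {M : Subgroup Γ}
    (hA : A ∈ 𝓐) (hB : B ∈ 𝓐) (hM : ¬ S ≤ M) (hAM : hat A ≤ M) (hBM : hat B ≤ M) : A = B := by
  classical
  by_contra hne
  refine h.rep (fun C => if C = A then M else hat C) B hB ?_ ?_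
  · intro C hC
    split_ifs
    exacts [⟨(h.center_le A hA).trans hAM, hM⟩, ⟨h.center_le C hC, h.not_le C hC⟩]
  · intro g hg
    obtain ⟨C, hC, hg⟩ := h.cov g hg
    by_cases h1 : C = B
    · exact ⟨A, hA, hne, by simpa using hBM (h1 ▸ hg)⟩
    · refine ⟨C, hC, h1, ?_⟩
      split_ifs with h2
      exacts [hAM (h2 ▸ hg), hg]

variable {F : Type*} [Field F] {ι : Type*} [Fintype ι] [DecidableEq ι]

theorem gl_inv_mulVec (g : GL ι F) (v : ι → F) : (g⁻¹).1 *ᵥ (g.1 *ᵥ v) = v := by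
  rw [mulVec_mulVec, ← Units.val_mul, inv_mul_cancel, Units.val_one, one_mulVec]

theorem gl_mulVec_inv (g : GL ι F) (v : ι → F) : g.1 *ᵥ ((g⁻¹).1 *ᵥ v) = v :=
  gl_inv_mulVec g⁻¹ v

theorem gl_vecMul_inv (g : GL ι F) (v : ι → F) : (v ᵥ* g.1) ᵥ* (g⁻¹).1 = v := by
  rw [vecMul_vecMul, ← Units.val_mul, mul_inv_cancel, Units.val_one, vecMul_one]

/-- stabilizer of the line through a column vector -/
def colStab (v : ι → F) : Subgroup (GL ι F) where
  carrier := {g | ∃ c : F, g.1 *ᵥ v = c • v}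
  one_mem' := ⟨1, by simp⟩
  mul_mem' := by
    rintro a b ⟨c, hc⟩ ⟨d, hd⟩
    exact ⟨d * c, by rw [Units.val_mul, ← mulVec_mulVec, hd, mulVec_smul, hc, smul_smul]⟩
  inv_mem' := by
    rintro a ⟨c, hc⟩
    have h1 := gl_inv_mulVec a v
    rw [hc, mulVec_smul] at h1
    by_cases h0 : c = 0
    · rw [h0, zero_smul] at h1
      exact ⟨0, by rw [← h1]; simp⟩
    · exact ⟨c⁻¹, by rw [eq_inv_smul_iff₀ h0, h1]⟩

/-- stabilizer of the line through a row vector -/
def rowStab (v : ι → F) : Subgroup (GL ι F) where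
  carrier := {g | ∃ c : F, v ᵥ* g.1 = c • v}
  one_mem' := ⟨1, by simp⟩
  mul_mem' := by
    rintro a b ⟨c, hc⟩ ⟨d, hd⟩
    exact ⟨c * d, by rw [Units.val_mul, ← vecMul_vecMul, hc, smul_vecMul, hd, smul_smul]⟩
  inv_mem' := by
    rintro a ⟨c, hc⟩
    have h1 := gl_vecMul_inv a v
    rw [hc, smul_vecMul] at h1
    by_cases h0 : c = 0
    · rw [h0, zero_smul] at h1
      exact ⟨0, by rw [← h1]; simp⟩
    · exact ⟨c⁻¹, by rw [eq_inv_smul_iff₀ h0, h1]⟩

theorem conj_mem_colStab {g x : GL ι F} {v : ι → F} (h : g * x * g⁻¹ ∈ colStab v) :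
    ∃ c : F, x.1 *ᵥ ((g⁻¹).1 *ᵥ v) = c • ((g⁻¹).1 *ᵥ v) := by
  obtain ⟨c, hc⟩ := h
  refine ⟨c, ?_⟩
  rw [← mulVec_smul, ← hc, Units.val_mul, Units.val_mul, ← mulVec_mulVec, ← mulVec_mulVec,
    gl_inv_mulVec]

theorem conj_mem_rowStab {g x : GL ι F} {v : ι → F} (h : g * x * g⁻¹ ∈ rowStab v) :
    ∃ c : F, (v ᵥ* g.1) ᵥ* x.1 = c • (v ᵥ* g.1) := by
  obtain ⟨c, hc⟩ := h
  refine ⟨c, ?_⟩
  rw [← smul_vecMul, ← hc, vecMul_vecMul, vecMul_vecMul, ← Units.val_mul, ← Units.val_mul,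
    inv_mul_cancel_right]

theorem le_colStab_of_isNilpotent {A : Subgroup (GL ι F)} (hA : Group.IsNilpotent A)
    {x : GL ι F} {e : ι → F} (he : x ∈ colStab e)
    (hx : ∀ (v : ι → F) (c : F), x.1 *ᵥ v = c • v → ∃ a : F, v = a • e) (g : GL ι F)
    (hg : g * x * g⁻¹ ∈ A) : A ≤ colStab (g.1 *ᵥ e) := by
  refine le_of_isNilpotent_of_conj_mem hA hg ?_ ?_
  · obtain ⟨c, hc⟩ := he
    refine ⟨c, ?_⟩
    rw [Units.val_mul, Units.val_mul, ← mulVec_mulVec, ← mulVec_mulVec, gl_inv_mulVec, hc,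
      mulVec_smul]
  · intro y _ hy
    have h1 : y * (g * x * g⁻¹) * y⁻¹ = (y * g) * x * (y * g)⁻¹ := by group
    rw [h1] at hy
    obtain ⟨c, hc⟩ := conj_mem_colStab hy
    obtain ⟨a, ha⟩ := hx _ _ hc
    rw [← inv_mem_iff]
    refine ⟨a, ?_⟩
    rw [← mulVec_smul, ← ha, _root_.mul_inv_rev, Units.val_mul, ← mulVec_mulVec, gl_mulVec_inv]

theorem le_rowStab_of_isNilpotent {A : Subgroup (GL ι F)} (hA : Group.IsNilpotent A)
    {x : GL ι F} {e : ι → F} (he : x ∈ rowStab e)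
    (hx : ∀ (v : ι → F) (c : F), v ᵥ* x.1 = c • v → ∃ a : F, v = a • e)
    (hg : x ∈ A) : A ≤ rowStab e := by
  refine le_of_isNilpotent_of_conj_mem hA hg he ?_
  intro y _ hy
  obtain ⟨c, hc⟩ := conj_mem_rowStab hy
  exact hx _ _ hc

theorem center_le_colStab (v : ι → F) : center (GL ι F) ≤ colStab v := by
  intro g hg
  obtain ⟨a, ha⟩ := GeneralLinearGroup.mem_center_iff_val_mem_range_scalar.1 hg
  exact ⟨a, by rw [← ha]; ext i; simp [mulVec_diagonal]⟩

/-- the regular unipotent matrix -/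
def regU (F : Type*) [Field F] (m : ℕ) : Matrix (Fin (m + 1)) (Fin (m + 1)) F :=
  Matrix.of fun i j => if (j : ℕ) = i ∨ (j : ℕ) = i + 1 then 1 else 0

theorem det_regU (m : ℕ) : (regU F m).det = 1 := by
  rw [det_of_isUpperTriangular]
  · simp [regU]
  · intro i j hij
    have : (j : ℕ) < i := hij
    simp only [regU, of_apply]
    rw [if_neg (by omega)]

theorem regU_mulVec_last (m : ℕ) (v : Fin (m + 1) → F) :
    (regU F m *ᵥ v) (Fin.last m) = v (Fin.last m) := by
  rw [mulVec, dotProduct, Finset.sum_eq_single (Fin.last m)]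
  · simp [regU]
  · intro j _ hj
    have : (j : ℕ) ≠ m := fun h => hj (Fin.ext h)
    have := j.2
    simp only [regU, of_apply, Fin.val_last]
    rw [if_neg (by omega), zero_mul]
  · simp

theorem regU_mulVec_castSucc (m : ℕ) (v : Fin (m + 1) → F) (i : Fin m) :
    (regU F m *ᵥ v) i.castSucc = v i.castSucc + v i.succ := by
  rw [mulVec, dotProduct, Finset.sum_eq_add i.castSucc i.succ]
  · simp [regU]
  · exact (Fin.castSucc_lt_succ).ne
  · intro j _ hj
    have h1 : (j : ℕ) ≠ i := fun h => hj.1 (Fin.ext h)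
    have h2 : (j : ℕ) ≠ i + 1 := fun h => hj.2 (Fin.ext h)
    simp only [regU, of_apply, Fin.val_castSucc]
    rw [if_neg (by omega), zero_mul]
  · simp
  · simp

theorem vecMul_regU_zero (m : ℕ) (v : Fin (m + 1) → F) : (v ᵥ* regU F m) 0 = v 0 := by
  rw [vecMul, dotProduct, Finset.sum_eq_single 0]
  · simp [regU]
  · intro j _ hj
    have : (j : ℕ) ≠ 0 := fun h => hj (Fin.ext h)
    rw [regU, of_apply, if_neg (by rw [Fin.val_zero]; omega), mul_zero]
  · simp

theorem vecMul_regU_succ (m : ℕ) (v : Fin (m + 1) → F) (i : Fin m) :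
    (v ᵥ* regU F m) i.succ = v i.castSucc + v i.succ := by
  rw [vecMul, dotProduct, Finset.sum_eq_add i.castSucc i.succ]
  · simp [regU]
  · exact (Fin.castSucc_lt_succ).ne
  · intro j _ hj
    have h1 : (j : ℕ) ≠ i := fun h => hj.1 (Fin.ext h)
    have h2 : (j : ℕ) ≠ i + 1 := fun h => hj.2 (Fin.ext h)
    simp only [regU, of_apply, Fin.val_succ]
    rw [if_neg (by omega), mul_zero]
  · simp
  · simp

theorem regU_eigen (m : ℕ) (v : Fin (m + 1) → F) (c : F) (h : regU F m *ᵥ v = c • v) :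
    ∃ a : F, v = a • Pi.single 0 1 := by
  by_cases hc : c = 1
  · refine ⟨v 0, funext fun i => ?_⟩
    induction i using Fin.cases with
    | zero => simp
    | succ i =>
      have := congrFun h i.castSucc
      rw [regU_mulVec_castSucc, hc, one_smul, add_eq_left] at this
      simp [this]
  · refine ⟨0, funext fun i => ?_⟩
    rw [zero_smul, Pi.zero_apply]
    have key : ∀ a : F, a = c * a → a = 0 := fun a ha => by
      by_contra h0
      exact hc (mul_right_cancel₀ h0 (by rw [← ha, one_mul]))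
    induction i using Fin.reverseInduction with
    | last => exact key _ (by simpa [regU_mulVec_last] using congrFun h (Fin.last m))
    | cast i ih => exact key _ (by simpa [regU_mulVec_castSucc, ih] using congrFun h i.castSucc)

theorem regU_eigen' (m : ℕ) (v : Fin (m + 1) → F) (c : F) (h : v ᵥ* regU F m = c • v) :
    ∃ a : F, v = a • Pi.single (Fin.last m) 1 := by
  by_cases hc : c = 1
  · refine ⟨v (Fin.last m), funext fun i => ?_⟩
    induction i using Fin.lastCases with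
    | last => simp
    | cast i =>
      have := congrFun h i.succ
      rw [vecMul_regU_succ, hc, one_smul, add_eq_right] at this
      simp [this]
  · refine ⟨0, funext fun i => ?_⟩
    rw [zero_smul, Pi.zero_apply]
    have key : ∀ a : F, a = c * a → a = 0 := fun a ha => by
      by_contra h0
      exact hc (mul_right_cancel₀ h0 (by rw [← ha, one_mul]))
    induction i using Fin.induction with
    | zero => exact key _ (by simpa [vecMul_regU_zero] using congrFun h 0)
    | succ i ih => exact key _ (by simpa [vecMul_regU_succ, ih] using congrFun h i.succ)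

/-- the regular unipotent element of `GL` -/
def regUGL (F : Type*) [Field F] (m : ℕ) : GL (Fin (m + 1)) F :=
  SpecialLinearGroup.toGL ⟨regU F m, det_regU m⟩

theorem regUGL_val (m : ℕ) : (regUGL F m).1 = regU F m := rfl

theorem regUGL_mem_colStab (m : ℕ) : regUGL F m ∈ colStab (Pi.single 0 1) := by
  refine ⟨1, funext fun i => ?_⟩
  rw [regUGL_val, one_smul]
  by_cases hi : i = 0
  · simp [regU, hi]
  · have : (i : ℕ) ≠ 0 := fun h => hi (Fin.ext h)
    simp [regU, hi, this.symm]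

theorem regUGL_mem_rowStab (m : ℕ) : regUGL F m ∈ rowStab (Pi.single (Fin.last m) 1) := by
  refine ⟨1, funext fun i => ?_⟩
  rw [regUGL_val, one_smul]
  by_cases hi : i = Fin.last m
  · simp [regU, hi]
  · have : (i : ℕ) ≠ m := fun h => hi (Fin.ext h)
    have h2 : (i : ℕ) ≠ m + 1 := i.2.ne
    simp [regU, hi, this, h2]

theorem mem_of_det_eq_one {S : Subgroup (GL ι F)}
    (hS : (SpecialLinearGroup.toGL : Matrix.SpecialLinearGroup ι F →* GL ι F).range ≤ S) {g : GL ι F}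
    (hg : g.1.det = 1) : g ∈ S :=
  hS ⟨⟨g.1, hg⟩, Units.ext rfl⟩

theorem det_conj_regU (m : ℕ) (g : GL (Fin (m + 1)) F) : (g * regUGL F m * g⁻¹).1.det = 1 := by
  rw [Units.val_mul, Units.val_mul, det_mul_right_comm, ← Units.val_mul, mul_inv_cancel,
    Units.val_one, one_mul, regUGL_val, det_regU]

theorem not_le_colStab {m : ℕ} {S : Subgroup (GL (Fin (m + 2)) F)}
    (hS : (SpecialLinearGroup.toGL : Matrix.SpecialLinearGroup _ F →* GL _ F).range ≤ S)
    (g : GL (Fin (m + 2)) F) : ¬ S ≤ colStab (g.1 *ᵥ Pi.single 0 1) := by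
  intro h
  let t : GL (Fin (m + 2)) F :=
    SpecialLinearGroup.toGL ⟨transvection 1 0 1, det_transvection_of_ne _ _ one_ne_zero _⟩
  have h1 : g * t * g⁻¹ ∈ S := by
    refine mem_of_det_eq_one hS ?_
    rw [Units.val_mul, Units.val_mul, det_mul_right_comm, ← Units.val_mul, mul_inv_cancel,
      Units.val_one, one_mul]
    exact det_transvection_of_ne _ _ one_ne_zero _
  obtain ⟨c, hc⟩ := conj_mem_colStab (h h1)
  rw [gl_inv_mulVec] at hc
  have := congrFun hc 1
  have ht : t.1 = transvection 1 0 1 := rfl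
  rw [ht] at this
  simp [transvection] at this

theorem PCover.false_of_three_le {m : ℕ} {S : Subgroup (GL (Fin (m + 3)) F)}
    (hS : (SpecialLinearGroup.toGL : Matrix.SpecialLinearGroup _ F →* GL _ F).range ≤ S)
    {κ : Type*} {𝓐 : Finset κ} {hat : κ → Subgroup (GL (Fin (m + 3)) F)}
    (h : PCover _ S κ 𝓐 hat) : False := by
  have hne : Fin.last (m + 2) ≠ 1 := by simp [Fin.ext_iff]
  let s : GL (Fin (m + 3)) F :=
    SpecialLinearGroup.toGL ⟨transvection (Fin.last _) 1 1, det_transvection_of_ne _ _ hne _⟩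
  have hs : s.1 = transvection (Fin.last _) 1 1 := rfl
  obtain ⟨A, hA, hxA⟩ := h.cov _ (mem_of_det_eq_one hS (det_conj_regU (m + 2) 1))
  obtain ⟨B, hB, hxB⟩ := h.cov _ (mem_of_det_eq_one hS (det_conj_regU (m + 2) s))
  have h1 := le_colStab_of_isNilpotent (h.nil A hA) (regUGL_mem_colStab _) (regU_eigen _) _ hxA
  have h2 := le_colStab_of_isNilpotent (h.nil B hB) (regUGL_mem_colStab _) (regU_eigen _) _ hxB
  have h3 : s.1 *ᵥ Pi.single 0 1 = (1 : GL (Fin (m + 3)) F).1 *ᵥ Pi.single 0 1 := by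
    ext i
    rw [hs]
    simp [transvection, Matrix.single_apply]
  rw [h3] at h2
  obtain rfl := h.eq_of_le hA hB (not_le_colStab hS 1) h1 h2
  rw [one_mul, inv_one, mul_one] at hxA
  have h4 := le_rowStab_of_isNilpotent (h.nil A hA) (regUGL_mem_rowStab _) (regU_eigen' _) hxA
  obtain ⟨c, hc⟩ := conj_mem_rowStab (h4 hxB)
  obtain ⟨a, ha⟩ := regU_eigen' _ _ _ hc
  have := congrFun ha 1
  rw [hs] at this
  simp [transvection, hne, hne.symm] at this

/-- the diagonal element `diag(a, a⁻¹)` -/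
def diagGL (a : Fˣ) : GL (Fin 2) F :=
  SpecialLinearGroup.toGL ⟨!![a.1, 0; 0, (a⁻¹).1], by simp [det_fin_two]⟩

theorem diagGL_val (a : Fˣ) : (diagGL a).1 = !![a.1, 0; 0, (a⁻¹).1] := rfl

theorem diag_of_commute {a : Fˣ} (ha : a ^ 2 ≠ 1) {w : GL (Fin 2) F}
    (h : w * diagGL a = diagGL a * w) : w.1 0 1 = 0 ∧ w.1 1 0 = 0 := by
  have h1 := congrArg Units.val h
  rw [Units.val_mul, Units.val_mul, diagGL_val] at h1
  have h2 := congrFun (congrFun h1 0) 1
  have h3 := congrFun (congrFun h1 1) 0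
  simp only [mul_apply, Fin.sum_univ_two] at h2 h3
  simp at h2 h3
  have h4 : (a : F) - (a : F)⁻¹ ≠ 0 := by
    intro h4
    apply ha
    ext
    rw [Units.val_pow_eq_pow_val, sq]
    nth_rewrite 2 [sub_eq_zero.1 h4]
    simp
  constructor
  · refine (mul_eq_zero.1 ?_).resolve_left h4
    linear_combination -h2
  · refine (mul_eq_zero.1 ?_).resolve_left h4
    linear_combination h3

theorem pow_card_sub_one_of_diag [Fintype F] {w : GL (Fin 2) F}
    (h : w.1 0 1 = 0 ∧ w.1 1 0 = 0) : w ^ (Fintype.card F - 1) = 1 := by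
  have h1 : w.1 = diagonal ![w.1 0 0, w.1 1 1] := by
    ext i j
    fin_cases i <;> fin_cases j <;> simp [h.1, h.2]
  have h2 := w.det_ne_zero
  rw [det_fin_two, h.1, zero_mul, sub_zero] at h2
  ext i j
  rw [Units.val_pow_eq_pow_val, h1, diagonal_pow]
  fin_cases i <;> fin_cases j <;>
    simp [FiniteField.pow_card_sub_one_eq_one _ (left_ne_zero_of_mul h2),
      FiniteField.pow_card_sub_one_eq_one _ (right_ne_zero_of_mul h2)]

theorem eq_one_of_mem_nilpotent_diag [Fintype F] {A : Subgroup (GL (Fin 2) F)}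
    (hA : Group.IsNilpotent A) {a : Fˣ} (ha : a ^ 2 ≠ 1) (h : diagGL a ∈ A) {w : GL (Fin 2) F}
    (hw : w ∈ A) {k : ℕ} (hk : w ^ k = 1) (hc : k.Coprime (Fintype.card F - 1)) : w = 1 := by
  have h1 : diagGL a ^ (Fintype.card F - 1) = 1 :=
    pow_card_sub_one_of_diag (by simp [diagGL_val])
  have h2 := commute_of_coprime_of_isNilpotent hA hw h
    ((hc.coprime_dvd_left (orderOf_dvd_of_pow_eq_one hk)).coprime_dvd_right
      (orderOf_dvd_of_pow_eq_one h1))
  exact orderOf_eq_one_iff.1 (Nat.eq_one_of_dvd_coprimes hc (orderOf_dvd_of_pow_eq_one hk)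
    (orderOf_dvd_of_pow_eq_one (pow_card_sub_one_of_diag (diag_of_commute ha h2))))

theorem regUGL_two_pow (k : ℕ) : (regUGL F 1 ^ k).1 = !![1, (k : F); 0, 1] := by
  induction k with
  | zero => ext i j; fin_cases i <;> fin_cases j <;> simp
  | succ k ih =>
    rw [pow_succ, Units.val_mul, ih, regUGL_val]
    ext i j
    fin_cases i <;> fin_cases j <;> simp [regU, mul_apply, Fin.sum_univ_two, add_comm]

theorem conj_regU_not_mem [Fintype F] {A : Subgroup (GL (Fin 2) F)}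
    (hA : Group.IsNilpotent A) {a : Fˣ} (ha : a ^ 2 ≠ 1) (h : diagGL a ∈ A) (g : GL (Fin 2) F) :
    g * regUGL F 1 * g⁻¹ ∉ A := by
  intro hg
  have h1 : regUGL F 1 ^ Fintype.card F = 1 := by
    apply Units.ext
    rw [regUGL_two_pow, FiniteField.cast_card_eq_zero]
    ext i j; fin_cases i <;> fin_cases j <;> simp
  have h2 := eq_one_of_mem_nilpotent_diag hA ha h hg (k := Fintype.card F)
    (by rw [conj_pow, h1]; simp) (Nat.coprime_self_sub_right Fintype.card_pos |>.2 (by simp))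
  rw [mul_inv_eq_one, mul_eq_left] at h2
  have h3 : (regUGL F 1).1 0 1 = (1 : GL (Fin 2) F).1 0 1 := by rw [h2]
  simp [regUGL_val, regU] at h3

theorem le_centralizer_diag [Fintype F] {A : Subgroup (GL (Fin 2) F)}
    (hA : Group.IsNilpotent A) {a : Fˣ} (hodd : Odd (orderOf a)) (ha : a ^ 2 ≠ 1)
    (h : diagGL a ∈ A) : A ≤ centralizer {diagGL a} := by
  refine le_of_isNilpotent_of_conj_mem hA h (mem_centralizer_singleton_iff.2 rfl) ?_
  intro g hg hc
  have h1 := diag_of_commute ha (mem_centralizer_singleton_iff.1 hc)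
  obtain ⟨y, hy⟩ : ∃ y, y = g * diagGL a * g⁻¹ := ⟨_, rfl⟩
  rw [← hy] at h1
  have h2 : y * g = g * diagGL a := by rw [hy]; group
  have h3 := congrArg Units.val h2
  rw [Units.val_mul, Units.val_mul, diagGL_val] at h3
  have h00 := congrFun (congrFun h3 0) 0
  have h01 := congrFun (congrFun h3 0) 1
  have h10 := congrFun (congrFun h3 1) 0
  have h11 := congrFun (congrFun h3 1) 1
  simp only [mul_apply, Fin.sum_univ_two, h1.1, h1.2] at h00 h01 h10 h11
  simp at h00 h01 h10 h11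
  have hd := g.det_ne_zero
  rw [det_fin_two] at hd
  have h4 : (a : F) ≠ (a : F)⁻¹ := by
    intro h4
    apply ha
    ext
    rw [Units.val_pow_eq_pow_val, sq]
    nth_rewrite 2 [h4]
    simp
  have h5 : y = diagGL a ∨ y = (diagGL a)⁻¹ := by
    by_cases h0 : g.1 0 0 = 0
    · right
      have e1 : g.1 0 1 ≠ 0 := fun h => hd (by rw [h0, h]; simp)
      have e2 : g.1 1 0 ≠ 0 := fun h => hd (by rw [h0, h]; simp)
      have e3 : y.1 0 0 = (a : F)⁻¹ := mul_right_cancel₀ e1 (by rw [h01, mul_comm])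
      have e4 : y.1 1 1 = a := mul_right_cancel₀ e2 (by rw [h10, mul_comm])
      rw [eq_inv_iff_mul_eq_one]
      ext i j
      rw [Units.val_mul, diagGL_val]
      fin_cases i <;> fin_cases j <;> simp [mul_apply, Fin.sum_univ_two, e3, e4, h1.1, h1.2]
    · left
      have e3 : y.1 0 0 = a := mul_right_cancel₀ h0 (by rw [h00, mul_comm])
      have e1 : g.1 0 1 = 0 := by
        by_contra e1
        exact h4 (e3.symm.trans (mul_right_cancel₀ e1 (by rw [h01, mul_comm])))
      have e2 : g.1 1 1 ≠ 0 := fun h => hd (by rw [e1, h]; simp)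
      have e4 : y.1 1 1 = (a : F)⁻¹ := mul_right_cancel₀ e2 (by rw [h11, mul_comm])
      ext i j
      rw [diagGL_val]
      fin_cases i <;> fin_cases j <;> simp [e3, e4, h1.1, h1.2]
  rw [mem_centralizer_singleton_iff]
  rcases h5 with h5 | h5
  · rw [← h2, h5]
  · exfalso
    obtain ⟨s, b, hs, hb, hsb, ⟨k, hk⟩, hb'⟩ := H4.exists_part_decomp 2 g
    have h6 : diagGL a ^ orderOf a = 1 := by
      have : ∀ k : ℕ, diagGL a ^ k = diagGL (a ^ k) := by
        intro k
        induction k with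
        | zero => ext i j; fin_cases i <;> fin_cases j <;> simp [diagGL_val]
        | succ k ih =>
          rw [pow_succ, ih]
          ext i j
          rw [Units.val_mul, diagGL_val, diagGL_val, diagGL_val]
          fin_cases i <;> fin_cases j <;> simp [mul_apply, Fin.sum_univ_two, pow_succ, mul_comm]
      rw [this, pow_orderOf_eq_one]
      ext i j; fin_cases i <;> fin_cases j <;> simp [diagGL_val]
    have h7 := commute_of_coprime_of_isNilpotent hA (zpowers_le.2 hg hs) h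
      ((((Nat.coprime_two_left.2 hodd).pow_left k).coprime_dvd_left
        (orderOf_dvd_of_pow_eq_one hk)).coprime_dvd_right (orderOf_dvd_of_pow_eq_one h6))
    have hsb' : s * b = b * s := by
      obtain ⟨i, rfl⟩ := hs
      obtain ⟨j, hj⟩ := hb
      rw [← hj]
      exact zpow_mul_comm g i j
    have h8 : b * diagGL a * b⁻¹ = (diagGL a)⁻¹ := by
      rw [← h5, hy, hsb, hsb']
      calc _ = b * (diagGL a * s) * s⁻¹ * b⁻¹ := by group
        _ = _ := by rw [← h7]; group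
    have h9 : (diagGL a)⁻¹ ≠ diagGL a := by
      intro h9
      have : (diagGL a * diagGL a).1 0 0 = (1 : GL (Fin 2) F).1 0 0 := by
        rw [inv_eq_iff_mul_eq_one.1 h9]
      rw [Units.val_mul, diagGL_val] at this
      apply ha
      ext
      simpa [mul_apply, Fin.sum_univ_two, sq] using this
    refine (three_conj_of_odd (Nat.coprime_two_right.1 hb') (h8 ▸ h9)).1 ?_
    rw [h8]
    calc _ = (b * diagGL a * b⁻¹)⁻¹ := by group
      _ = _ := by rw [h8, inv_inv]

theorem exists_gl_mulVec_eq {v : Fin 2 → F} (hv : v ≠ 0) :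
    ∃ g : GL (Fin 2) F, g.1 *ᵥ Pi.single 0 1 = v := by
  by_cases h0 : v 0 = 0
  · have h1 : v 1 ≠ 0 := fun h1 => hv (by ext i; fin_cases i <;> simp [h0, h1])
    refine ⟨GeneralLinearGroup.mkOfDetNeZero !![0, 1; v 1, 0] (by simpa [det_fin_two] using h1), ?_⟩
    ext i; fin_cases i <;> simp [h0]
  · refine ⟨GeneralLinearGroup.mkOfDetNeZero !![v 0, 0; v 1, 1] (by simpa [det_fin_two] using h0), ?_⟩
    ext i; fin_cases i <;> simp

theorem exists_commute_of_no_eigen [Fintype F] {h : GL (Fin 2) F}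
    (hh : ∀ (v : Fin 2 → F) (c : F), h.1 *ᵥ v = c • v → v = 0) {r : ℕ} (hr : r.Prime)
    (hrq : r ∣ Fintype.card F + 1) : ∃ w : GL (Fin 2) F, orderOf w = r ∧ w * h = h * w := by
  classical
  haveI : Fact r.Prime := ⟨hr⟩
  let C := centralizer ({h} : Set (GL (Fin 2) F))
  letI : MulAction C (Fin 2 → F) :=
    { smul := fun g v => g.1.1 *ᵥ v
      one_smul := fun v => one_mulVec v
      mul_smul := fun a b v => (mulVec_mulVec v _ _).symm }
  have h10 : h.1 1 0 ≠ 0 := by
    intro h0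
    have := hh (Pi.single 0 1) (h.1 0 0) (by ext i; fin_cases i <;> simp [h0])
    simpa using congrFun this 0
  have h1 : MulAction.orbit C (Pi.single 0 1 : Fin 2 → F) = {0}ᶜ := by
    ext v
    constructor
    · rintro ⟨g, rfl⟩ h0
      have h2 : g.1.1 *ᵥ Pi.single 0 1 = 0 := h0
      have := gl_inv_mulVec g.1 (Pi.single 0 1)
      rw [h2, mulVec_zero] at this
      simpa using congrFun this 0
    · intro hv
      let β := v 1 / h.1 1 0
      let α := v 0 - β * h.1 0 0
      have h2 : (α • (1 : Matrix (Fin 2) (Fin 2) F) + β • h.1) *ᵥ Pi.single 0 1 = v := by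
        ext i; fin_cases i
        · simp [α]
        · simp [β, h10]
      have h3 : (α • (1 : Matrix (Fin 2) (Fin 2) F) + β • h.1).det ≠ 0 := by
        rw [Ne, ← exists_mulVec_eq_zero_iff]
        rintro ⟨w, hw, hw'⟩
        rw [add_mulVec, smul_mulVec, smul_mulVec, one_mulVec] at hw'
        by_cases hβ : β = 0
        · rw [hβ, zero_smul, add_zero, smul_eq_zero, or_iff_left hw] at hw'
          rw [hβ, hw'] at h2
          rw [zero_smul, zero_smul, add_zero, zero_mulVec] at h2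
          exact hv h2.symm
        · refine hw (hh w (-(β⁻¹ * α)) ?_)
          rw [neg_smul, mul_smul, ← smul_neg, eq_inv_smul_iff₀ hβ]
          exact eq_neg_of_add_eq_zero_right hw'
      refine ⟨⟨GeneralLinearGroup.mkOfDetNeZero _ h3, ?_⟩, h2⟩
      rw [mem_centralizer_singleton_iff]
      ext1
      change (α • 1 + β • h.1) * h.1 = h.1 * (α • 1 + β • h.1)
      simp [add_mul, mul_add]
  have h2 : r ∣ Nat.card C := by
    rw [← (MulAction.stabilizer C (Pi.single 0 1 : Fin 2 → F)).index_mul_card,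
      MulAction.index_stabilizer, h1]
    refine Dvd.dvd.mul_right (hrq.trans ?_) _
    rw [Set.ncard_compl, Set.ncard_singleton, Nat.card_eq_fintype_card, Fintype.card_fun,
      Fintype.card_fin]
    exact ⟨Fintype.card F - 1, by simpa using Nat.sq_sub_sq (Fintype.card F) 1⟩
  obtain ⟨w, hw⟩ := exists_prime_orderOf_dvd_card' r h2
  exact ⟨w, by rw [orderOf_coe, hw], mem_centralizer_singleton_iff.1 w.2⟩

theorem PCover.false_of_two [Fintype F] (hF : 4 ≤ Fintype.card F) {S : Subgroup (GL (Fin 2) F)}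
    (hS : (SpecialLinearGroup.toGL : Matrix.SpecialLinearGroup _ F →* GL _ F).range ≤ S)
    {κ : Type*} {𝓐 : Finset κ} {hat : κ → Subgroup (GL (Fin 2) F)}
    (h : PCover _ S κ 𝓐 hat) : False := by
  classical
  have hcu : Nat.card Fˣ = Fintype.card F - 1 := by
    rw [Nat.card_eq_fintype_card, Fintype.card_units]
  have hd : ∀ a : Fˣ, diagGL a ∈ S := fun a => hS ⟨_, rfl⟩
  by_cases h1 : ∃ r : ℕ, r.Prime ∧ r ≠ 2 ∧ r ∣ Fintype.card F - 1
  · obtain ⟨r, hr, hr2, hrq⟩ := h1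
    haveI : Fact r.Prime := ⟨hr⟩
    obtain ⟨a, ha⟩ := exists_prime_orderOf_dvd_card' (G := Fˣ) r (hcu ▸ hrq)
    have ha2 : a ^ 2 ≠ 1 := fun h => hr2
      ((Nat.prime_dvd_prime_iff_eq hr Nat.prime_two).1 (ha ▸ orderOf_dvd_of_pow_eq_one h))
    obtain ⟨A, hA, hxA⟩ := h.cov _ (mem_of_det_eq_one hS (det_conj_regU 1 1))
    obtain ⟨B, hB, hxB⟩ := h.cov _ (hd a)
    have h1 := le_colStab_of_isNilpotent (h.nil A hA) (regUGL_mem_colStab _) (regU_eigen _) _ hxA
    have h2 : hat B ≤ colStab ((1 : GL (Fin 2) F).1 *ᵥ Pi.single 0 1) := by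
      intro g hg
      have := diag_of_commute ha2 (mem_centralizer_singleton_iff.1
        (le_centralizer_diag (h.nil B hB) (ha ▸ hr.odd_of_ne_two hr2) ha2 hxB hg))
      exact ⟨g.1 0 0, by ext i; fin_cases i <;> simp [this.2]⟩
    obtain rfl := h.eq_of_le hA hB (not_le_colStab hS 1) h1 h2
    exact conj_regU_not_mem (h.nil A hA) ha2 hxB 1 hxA
  have h2 : ∃ r : ℕ, r.Prime ∧ r ≠ 2 ∧ r ∣ Fintype.card F + 1 := by
    by_contra h2
    push Not at h1 h2
    have e1 := Nat.eq_prime_pow_of_unique_prime_dvd (n := Fintype.card F - 1) (p := 2) (by omega)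
      (fun {d} hd hd' => by_contra fun h => h1 d hd h hd')
    have e2 := Nat.eq_prime_pow_of_unique_prime_dvd (n := Fintype.card F + 1) (p := 2) (by omega)
      (fun {d} hd hd' => by_contra fun h => h2 d hd h hd')
    have key : ∀ n k : ℕ, 3 ≤ n → n = 2 ^ k → 4 ∣ n := by
      rintro n k h3 rfl
      rcases k with _ | _ | k
      · simp at h3
      · simp at h3
      · exact ⟨2 ^ k, by ring⟩
    have := key _ _ (by omega) e1
    have := key _ _ (by omega) e2
    omega
  obtain ⟨r, hr, hr2, hrq⟩ := h2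
  have hc : r.Coprime (Fintype.card F - 1) :=
    (Nat.Prime.coprime_iff_not_dvd hr).2 fun h => h1 ⟨r, hr, hr2, h⟩
  obtain ⟨a, ha⟩ : ∃ a : Fˣ, a ^ 2 ≠ 1 := by
    by_contra h3
    push Not at h3
    have := IsCyclic.exponent_eq_card (α := Fˣ)
    have h4 := Nat.le_of_dvd two_pos (Monoid.exponent_dvd_of_forall_pow_eq_one h3)
    omega
  obtain ⟨A₀, hA₀, hx0⟩ := h.cov _ (hd a)
  refine h.rep (fun A => hat A ⊔ ⨆ g : {g : GL (Fin 2) F // g * regUGL F 1 * g⁻¹ ∈ hat A},
    colStab (g.1.1 *ᵥ Pi.single 0 1)) A₀ hA₀ ?_ ?_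
  · intro A hA
    refine ⟨(h.center_le A hA).trans le_sup_left, fun h3 => ?_⟩
    by_cases h4 : ∃ g : GL (Fin 2) F, g * regUGL F 1 * g⁻¹ ∈ hat A
    · obtain ⟨g, hg⟩ := h4
      have h5 := le_colStab_of_isNilpotent (h.nil A hA) (regUGL_mem_colStab _) (regU_eigen _) _ hg
      refine not_le_colStab hS g (h3.trans (sup_le h5 (iSup_le ?_)))
      rintro ⟨g', hg'⟩
      have h6 := le_colStab_of_isNilpotent (h.nil A hA) (regUGL_mem_colStab _) (regU_eigen _) _ hg'
      obtain ⟨c, hc⟩ := conj_mem_colStab (h5 hg')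
      obtain ⟨b, hb⟩ := regU_eigen _ _ _ hc
      rintro y ⟨d, hd⟩
      refine ⟨d, ?_⟩
      rw [← gl_mulVec_inv g' (g.1 *ᵥ _), hb, mulVec_smul, mulVec_smul, hd, smul_comm]
    · refine h.not_le A hA (h3.trans (sup_le le_rfl (iSup_le ?_)))
      rintro ⟨g, hg⟩
      exact absurd ⟨g, hg⟩ h4
  · intro x hx
    by_cases h3 : ∀ (v : Fin 2 → F) (c : F), x.1 *ᵥ v = c • v → v = 0
    · obtain ⟨w, hw, hwx⟩ := exists_commute_of_no_eigen h3 hr hrq
      obtain ⟨A, hA, hxA⟩ := h.cov x hx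
      by_cases h4 : A = A₀
      swap
      · exact ⟨A, hA, h4, mem_sup_left hxA⟩
      subst h4
      obtain ⟨s, b, hs, -, hsb, ⟨k, hk⟩, hb⟩ := H4.exists_part_decomp r x
      rw [eq_one_of_mem_nilpotent_diag (h.nil A hA) ha hx0 (zpowers_le.2 hxA hs) hk (hc.pow_left k),
        one_mul] at hsb
      subst hsb
      have hwr : w ^ r = 1 := hw ▸ pow_orderOf_eq_one w
      have hwS : w ∈ S := by
        refine mem_of_det_eq_one hS ?_
        have e1 : orderOf (GeneralLinearGroup.det w) ∣ r := hw ▸ orderOf_map_dvd _ _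
        have e2 : orderOf (GeneralLinearGroup.det w) ∣ Fintype.card F - 1 :=
          hcu ▸ orderOf_dvd_natCard _
        exact congrArg Units.val (orderOf_eq_one_iff.1 (Nat.eq_one_of_dvd_coprimes hc e1 e2))
      obtain ⟨B, hB, hB'⟩ := h.cov _ (mul_mem hwS hx)
      have h5 : x ∈ hat B := by
        refine mem_of_pow_mem_of_coprime (n := r) ?_ hb.symm
        have := pow_mem hB' r
        rwa [Commute.mul_pow hwx, hwr, one_mul] at this
      refine ⟨B, hB, ?_, mem_sup_left h5⟩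
      rintro rfl
      have := eq_one_of_mem_nilpotent_diag (h.nil B hB) ha hx0 ((mul_mem_cancel_right h5).1 hB')
        hwr hc
      rw [this, orderOf_one] at hw
      exact hr.one_lt.ne hw
    · push Not at h3
      obtain ⟨v, c, hv, hv0⟩ := h3
      obtain ⟨g, rfl⟩ := exists_gl_mulVec_eq hv0
      obtain ⟨A, hA, hxA⟩ := h.cov _ (mem_of_det_eq_one hS (det_conj_regU 1 g))
      refine ⟨A, hA, ?_, mem_sup_right (mem_iSup_of_mem ⟨g, hxA⟩ ⟨c, hv⟩)⟩
      rintro rfl
      exact conj_regU_not_mem (h.nil A hA) ha hx0 g hxA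

end Cfsg.Agent.H27
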