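import Mathlib
import Cfsg.Agent.FT.BG04p
import Cfsg.Agent.H28.GL2

/-! Derived length of `p`-subgroups of linear groups: upper bounds. -/

set_option autoImplicit false

namespace Cfsg.Agent.H27

open Subgroup Cfsg.Agent.FT Cfsg.Agent.H28 Module
open scoped commutatorElement

universe u v

theorem dser_succ_le {G : Type*} [Group G] {M : Subgroup G} (hM : commutator G ≤ M) (k : ℕ) :
    derivedSeries G (k + 1) ≤ (derivedSeries M k).map M.subtype := by
  induction k with
  | zero =>
    rw [derivedSeries_zero, ← MonoidHom.range_eq_map, range_subtype]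
    exact hM
  | succ k ih =>
    rw [derivedSeries_succ G (k + 1), derivedSeries_succ M k, map_commutator]
    exact commutator_mono ih ih

theorem dser_map_le {G : Type*} [Group G] {M : Subgroup G} (hM : M ≤ commutator G) (k : ℕ) :
    (derivedSeries M k).map M.subtype ≤ derivedSeries G (k + 1) := by
  induction k with
  | zero =>
    rw [derivedSeries_zero, ← MonoidHom.range_eq_map, range_subtype]
    exact hM
  | succ k ih =>
    rw [derivedSeries_succ G (k + 1), derivedSeries_succ M k, map_commutator]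
    exact commutator_mono ih ih

theorem dser_anti (G : Type*) [Group G] {j k : ℕ} (h : j ≤ k) : derivedSeries G k ≤ derivedSeries G j := by
  induction h with
  | refl => exact le_rfl
  | step _ ih => exact (commutator_le_left _ _).trans ih

theorem dser_ne_bot_of_inj {G H : Type*} [Group G] [Group H] (f : H →* G) (hf : Function.Injective f) {k : ℕ}
    (h : derivedSeries H k ≠ ⊥) : derivedSeries G k ≠ ⊥ := fun h0 => h <| by
  have := map_derivedSeries_le_derivedSeries f k
  rw [h0, le_bot_iff, map_eq_bot_iff_of_injective _ hf] at this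
  exact this

theorem dser_eq_bot_of_inj {G H : Type*} [Group G] [Group H] (f : H →* G) (hf : Function.Injective f) {k : ℕ}
    (h : derivedSeries G k = ⊥) : derivedSeries H k = ⊥ := by
  by_contra h0
  exact dser_ne_bot_of_inj f hf h0 h

theorem dser_succ_ne_bot {G P : Type*} [Group G] [Group P] {M : Subgroup G} (hM : M ≤ commutator G)
    (f : M →* P) (hf : Function.Surjective f) {k : ℕ} (h : derivedSeries P k ≠ ⊥) :
    derivedSeries G (k + 1) ≠ ⊥ := fun h0 => h <| by
  have h1 := dser_map_le hM k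
  rw [h0, le_bot_iff, map_eq_bot_iff_of_injective _ M.subtype_injective] at h1
  rw [← map_derivedSeries_eq hf, h1, Subgroup.map_bot]

section lin

variable {F : Type*} [Field F] {V : Type v} [AddCommGroup V] [Module F V]

theorem nsum_zero {s : Module.End F V} {p : ℕ} (hs : s ^ p = 1) (h0 : ∀ v, s v = v → v = 0) :
    ∑ i ∈ Finset.range p, s ^ i = 0 := by
  ext v
  apply h0
  have := congrArg (fun t : Module.End F V => t v) (mul_geom_sum s p)
  simp only [hs, sub_self, Module.End.mul_apply, LinearMap.sub_apply, Module.End.one_apply,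
    LinearMap.zero_apply] at this
  exact sub_eq_zero.1 this

theorem nsum_fix {s : Module.End F V} {p : ℕ} (hs : s ^ p = 1) (v : V) :
    s ((∑ i ∈ Finset.range p, s ^ i) v) = (∑ i ∈ Finset.range p, s ^ i) v := by
  have := congrArg (fun t : Module.End F V => t v) (mul_geom_sum s p)
  simp only [hs, sub_self, Module.End.mul_apply, LinearMap.sub_apply, Module.End.one_apply,
    LinearMap.zero_apply] at this
  exact sub_eq_zero.1 this

variable {G : Type u} [Group G]

theorem fix_pow_iff (ρ : Representation F G V) {p : ℕ} (hp : p.Prime) {z : G} (hz : z ^ p = 1) {i : ℕ}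
    (hi : z ^ i ≠ 1) {v : V} (h : ρ (z ^ i) v = v) : ρ z v = v := by
  have hz1 : z ≠ 1 := by rintro rfl; exact hi (one_pow _)
  haveI := Fact.mk hp
  have ho : orderOf z = p := orderOf_eq_prime hz hz1
  haveI : Finite (zpowers z) := by
    rw [← Nat.card_pos_iff.trans (and_iff_right inferInstance), Nat.card_zpowers, ho]; exact hp.pos
  have h1 : z ∈ zpowers (z ^ i) := by
    have hc : Nat.Coprime (orderOf z) i := by
      rw [ho, hp.coprime_iff_not_dvd, ← ho, orderOf_dvd_iff_pow_eq_one]; exact hi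
    obtain ⟨m, hm⟩ := exists_pow_eq_self_of_coprime hc.symm
    exact ⟨m, by simpa using hm⟩
  exact mem_rfix.1 (mem_rfix_zpowers.2 h) z h1

theorem exists_fix_pair [Nontrivial V] (ρ : Representation F G V) {p : ℕ} (hp : p.Prime) (hk : (p : F) ≠ 0)
    {a z : G} (ha : a ^ p = 1) (hz : z ^ p = 1) (hz1 : z ≠ 1) (hc : Commute a z)
    (h0 : ∀ v, ρ z v = v → v = 0) : ∃ j : ℕ, ∃ v, v ≠ 0 ∧ ρ (a * z ^ j) v = v := by
  by_contra hn
  push Not at hn
  haveI := Fact.mk hp
  have ho : orderOf z = p := orderOf_eq_prime hz hz1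
  have h1 : ∀ j : ℕ, ∑ i ∈ Finset.range p, ρ (a * z ^ j) ^ i = 0 := fun j => by
    refine nsum_zero ?_ fun v hv => by_contra fun h => hn j v h hv
    rw [← map_pow, (hc.pow_right j).mul_pow, ha, ← pow_mul, mul_comm j, pow_mul, hz, one_pow, one_mul, map_one]
  have h2 : ∑ j ∈ Finset.range p, ∑ i ∈ Finset.range p, ρ (a * z ^ j) ^ i = 0 := Finset.sum_eq_zero fun j _ => h1 j
  rw [Finset.sum_comm] at h2
  have h3 : ∀ i ∈ Finset.range p, ∑ j ∈ Finset.range p, ρ (a * z ^ j) ^ i
      = if i = 0 then (p : Module.End F V) else 0 := by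
    intro i hi
    split_ifs with h
    · subst h; simp
    · have hi1 : z ^ i ≠ 1 := pow_ne_one_of_lt_orderOf h (ho ▸ Finset.mem_range.1 hi)
      have : ∑ j ∈ Finset.range p, ρ (z ^ i) ^ j = 0 :=
        nsum_zero (by rw [← map_pow, ← pow_mul, mul_comm, pow_mul, hz, one_pow, map_one])
          fun v hv => h0 v (fix_pow_iff ρ hp hz hi1 hv)
      calc ∑ j ∈ Finset.range p, ρ (a * z ^ j) ^ i = ρ (a ^ i) * ∑ j ∈ Finset.range p, ρ (z ^ i) ^ j := by
            rw [Finset.mul_sum]
            refine Finset.sum_congr rfl fun j _ => ?_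
            rw [← map_pow, ← map_pow, ← map_mul, (hc.pow_right j).mul_pow, ← pow_mul, ← pow_mul, mul_comm i j]
        _ = 0 := by rw [this, mul_zero]
  rw [Finset.sum_congr rfl h3, Finset.sum_ite_eq' (Finset.range p) 0, if_pos (Finset.mem_range.2 hp.pos)] at h2
  obtain ⟨v, hv⟩ := exists_ne (0 : V)
  have := congrArg (fun t : Module.End F V => t v) h2
  simp only [Module.End.natCast_apply, LinearMap.zero_apply] at this
  rw [← Nat.cast_smul_eq_nsmul F, smul_eq_zero] at this
  exact this.elim hk hv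

theorem sum_finrank_le [FiniteDimensional F V] {ι : Type} [Fintype ι] {p : ℕ} (hk : (p : F) ≠ 0)
    (s : ι → Module.End F V) (hs : ∀ i, s i ^ p = 1) (hc : ∀ i j, Commute (s i) (s j))
    (W : ι → Submodule F V) (hW : ∀ i v, v ∈ W i ↔ s i v = v) (h0 : ∀ i j, i ≠ j → W i ⊓ W j = ⊥) :
    ∑ i, finrank F (W i) ≤ finrank F V := by
  classical
  rw [← Module.finrank_pi_fintype F]
  let φ : (Π i, W i) →ₗ[F] V := ∑ i, (W i).subtype ∘ₗ LinearMap.proj i
  refine LinearMap.finrank_le_finrank_of_injective (f := φ) ?_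
  rw [injective_iff_map_eq_zero]
  intro w hw
  ext j
  have h1 : ∑ i, (w i : V) = 0 := by simpa [φ] using hw
  have h2 := congrArg (fun v => (∑ m ∈ Finset.range p, s j ^ m : Module.End F V) v) h1
  rw [map_sum, map_zero, Finset.sum_eq_single j] at h2
  · have h3 : (∑ m ∈ Finset.range p, s j ^ m) (w j : V) = (p : F) • (w j : V) := by
      rw [LinearMap.sum_apply, Finset.sum_congr rfl fun m _ => Function.IsFixedPt.iterate ((hW j _).1 (w j).2) m |>.eq
        |> (Module.End.pow_apply (s j) m (w j : V)).trans]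
      simp [Nat.cast_smul_eq_nsmul]
    rw [h3, smul_eq_zero] at h2
    simpa using h2.resolve_left hk
  · intro i _ hij
    rw [← Submodule.mem_bot F, ← h0 i j hij]
    refine ⟨(hW i _).2 ?_, (hW j _).2 (nsum_fix (hs j) _)⟩
    have : Commute (s i) (∑ m ∈ Finset.range p, s j ^ m) := Commute.sum_right _ _ _ fun m _ => (hc i j).pow_right m
    rw [← Module.End.mul_apply, this.eq, Module.End.mul_apply, (hW i _).1 (w i).2]
  · simp

theorem finrank_rfix_conj [FiniteDimensional F V] (ρ : Representation F G V) (g x : G) :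
    finrank F (rfix ρ ⟪x⟫) ≤ finrank F (rfix ρ ⟪g * x * g⁻¹⟫) := by
  refine LinearMap.finrank_le_finrank_of_injective (f := (ρ g).restrict (p := rfix ρ ⟪x⟫) (q := rfix ρ ⟪g * x * g⁻¹⟫)
    fun v hv => ?_) ?_
  · rw [mem_rfix_zpowers] at hv ⊢
    rw [← Module.End.mul_apply, ← map_mul, inv_mul_cancel_right, map_mul, Module.End.mul_apply, hv]
  · intro v w h
    have h1 : ρ g v = ρ g w := congrArg Subtype.val h
    have h2 := congrArg (ρ g⁻¹) h1
    rw [← Module.End.mul_apply, ← Module.End.mul_apply, ← map_mul, inv_mul_cancel, map_one] at h2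
    exact Subtype.ext h2

end lin

theorem exists_pair {G : Type u} [Group G] [Finite G] {p : ℕ} (hp : p.Prime) (hG : IsPGroup p G) {E : Subgroup G}
    (hE : E ⊴ ⊤) (ha : Abelem p E) (hc : ¬ Cyc E) :
    ∃ z a : G, z ∈ center G ∧ z ≠ 1 ∧ z ^ p = 1 ∧ a ^ p = 1 ∧ a ∉ ⟪z⟫ ∧ ∀ g, ⁅a, g⁆ ∈ ⟪z⟫ := by
  haveI := Fact.mk hp
  have hn : Nil (⊤ : Subgroup G) := (hG.to_subgroup ⊤).isNilpotent
  have h1 : E ≠ ⊥ := by rintro rfl; exact hc cyc_bot
  obtain ⟨z, hz, hz1⟩ := FT.exists_ne_one (hn.meet_cen hE h1)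
  have h2 : ¬ E ≤ ⟪z⟫ := fun h => hc ((cyc_zpowers z).mono h)
  obtain ⟨a, haE, ha1, ha2⟩ := hn.exists_comm_mem hE h2
  refine ⟨z, a, ?_, hz1, ha.pow hz.1, ha.pow haE, ha1, fun g => (ha2 g trivial).1⟩
  rw [mem_center_iff]
  exact fun g => mem_centralizer_iff.1 hz.2 g trivial

theorem pair_or {G : Type u} [Group G] [Finite G] {p : ℕ} (hp : p.Prime) (hG : IsPGroup p G) :
    (∃ z a : G, z ∈ center G ∧ z ≠ 1 ∧ z ^ p = 1 ∧ a ^ p = 1 ∧ a ∉ ⟪z⟫ ∧ ∀ g, ⁅a, g⁆ ∈ ⟪z⟫) ∨
      derivedSeries G 1 = ⊥ ∨ (p = 2 ∧ derivedSeries G 2 = ⊥) := by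
  haveI := Fact.mk hp
  have hP : PGrp p (⊤ : Subgroup G) := (pGrp_iff hp).2 (hG.to_subgroup ⊤)
  by_cases h2 : p = 2
  · obtain ⟨A, hA, -⟩ := exists_SCN_ge hP (nml_bot ⊤) ab_bot
    by_cases hc : Cyc Ω[p](A)
    · have h3 : Cyc A := hA.ab.cyc_of_card_Ohm (hP.mono le_top) hp ((hA.ab.abelem_Ohm p).card_dvd_of_cyc hc)
      have h4 : ⁅(⊤ : Subgroup G), ⊤⁆ ≤ A := by
        have := h3.der_cents hA.nml.nrm
        rw [← hA.cen]
        exact le_inf le_top this
      refine Or.inr (Or.inr ⟨h2, le_bot_iff.1 ?_⟩)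
      refine (commutator_mono h4 h4).trans ?_
      rw [le_bot_iff, commutator_eq_bot_iff_le_centralizer]
      exact hA.ab.le_cen
    · exact Or.inl (exists_pair hp hG (hA.nml.Ohm p) (hA.ab.abelem_Ohm p) hc)
  · by_cases hc : Cyc (⊤ : Subgroup G)
    · refine Or.inr (Or.inl ?_)
      show ⁅(⊤ : Subgroup G), ⊤⁆ = ⊥
      rw [commutator_eq_bot_iff_le_centralizer]
      exact hc.ab.le_cen
    · have hodd : Odd #(⊤ : Subgroup G) := by
        obtain ⟨n, hn⟩ := hP.card
        rw [hn]; exact (hp.odd_of_ne_two h2).pow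
      obtain ⟨E, h1, h3⟩ := ex_odd_normal_p2Elem hp hP hodd hc
      exact Or.inl (exists_pair hp hG h1 h3.abelem h3.not_cyc)

theorem z2_comm {G : Type*} [Group G] {x : G} (h : ∀ g, g * x * g⁻¹ * x⁻¹ ∈ center G) {m : G}
    (hm : m ∈ commutator G) : m * x = x * m := by
  let φ : G →* center G :=
    { toFun := fun g => ⟨g * x * g⁻¹ * x⁻¹, h g⟩
      map_one' := Subtype.ext (by simp)
      map_mul' := fun a b => Subtype.ext (by
        have := mem_center_iff.1 (h b) a
        calc a * b * x * (a * b)⁻¹ * x⁻¹ = a * (b * x * b⁻¹ * x⁻¹) * (x * a⁻¹ * x⁻¹) := by group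
          _ = (b * x * b⁻¹ * x⁻¹) * (a * x * a⁻¹ * x⁻¹) := by rw [this]; group
          _ = _ := (mem_center_iff.1 (h b) _).symm) }
  have h0 : commutator G ≤ φ.ker := by
    rw [commutator_def, commutator_le]
    intro a _ b _
    rw [MonoidHom.mem_ker, map_commutatorElement, commutatorElement_eq_one_iff_mul_comm]
    exact Subtype.ext (mem_center_iff.1 (φ b).2 _)
  have h1 : φ m = 1 := h0 hm
  have h2 : m * x * m⁻¹ * x⁻¹ = 1 := congrArg Subtype.val h1
  calc m * x = (m * x * m⁻¹ * x⁻¹) * (x * m) := by group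
    _ = x * m := by rw [h2, one_mul]

theorem sub_triv {F : Type*} [Field F] {V : Type v} [AddCommGroup V] [Module F V] {G : Type u} [Group G]
    {ρ : Representation F G V} {M : Subgroup G} {U : Submodule F V} (hU : RInv ρ M U) {D : Subgroup M}
    (h : D ≤ MonoidHom.ker (subRep ρ M U hU)) : U ≤ rfix ρ (D.map M.subtype) := by
  intro v hv
  rw [mem_rfix]
  rintro _ ⟨g, hg, rfl⟩
  have h1 : subRep ρ M U hU g = 1 := h hg
  have := subRep_apply ρ M U hU g ⟨v, hv⟩
  rw [h1] at this
  exact this.symm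

theorem dser_top (G : Type*) [Group G] (k : ℕ) :
    (derivedSeries (⊤ : Subgroup G) k).map (⊤ : Subgroup G).subtype = derivedSeries G k :=
  map_derivedSeries_eq (fun g => ⟨⟨g, trivial⟩, rfl⟩) k

theorem dser_le_ker {F : Type*} [Field F] {p e : ℕ} (hp : p.Prime) (hk : (p : F) ≠ 0) (h2 : p = 2 → e ≤ 1)
    (he : ∀ (V : Type v) [AddCommGroup V] [Module F V] [FiniteDimensional F V], finrank F V < e →
      ∀ f : Module.End F V, f ^ p = 1 → f = 1) (n : ℕ) :
    ∀ (V : Type v) [AddCommGroup V] [Module F V] [FiniteDimensional F V], finrank F V = n →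
      ∀ (G : Type u) [Group G] [Finite G] (ρ : Representation F G V), IsPGroup p G →
        ∀ k, n < e * p ^ k → derivedSeries G k ≤ MonoidHom.ker ρ := by
  haveI := Fact.mk hp
  induction n using Nat.strong_induction_on with
  | _ n ih =>
  intro V _ _ _ hn G _ _ ρ hG k hlt
  rcases k with _ | k
  · intro g _
    obtain ⟨j, hj⟩ := hG g
    have : ∀ (j : ℕ) (f : Module.End F V), f ^ p ^ j = 1 → f = 1 := by
      intro j
      induction j with
      | zero => intro f hf; simpa using hf
      | succ j ihj =>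
        intro f hf
        rw [pow_succ, pow_mul] at hf
        exact ihj f (he V (by simpa [hn] using hlt) _ hf)
    exact this j _ (by rw [← map_pow, hj, map_one])
  rcases subsingleton_or_nontrivial V with hV | hV
  · intro g _
    exact Subsingleton.elim _ _
  by_cases hirr : ∃ U, RInv ρ ⊤ U ∧ U ≠ ⊥ ∧ U ≠ ⊤
  · obtain ⟨U, hU, h0, h1⟩ := hirr
    have hc : (Nat.card (⊤ : Subgroup G) : F) ≠ 0 := by
      obtain ⟨m, hm⟩ := (hG.to_subgroup ⊤).exists_card_eq
      rw [hm, Nat.cast_pow]; exact pow_ne_zero _ hk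
    obtain ⟨W, hW, hUW⟩ := exists_rCompl ρ ⊤ hc hU
    have hs : ∀ U, RInv ρ ⊤ U → U ≠ ⊤ → U ≤ rfix ρ (derivedSeries G (k + 1)) := by
      intro U hU h1
      have hlt' : finrank F U < n := hn ▸ Submodule.finrank_lt h1
      rw [← dser_top]
      exact sub_triv hU (ih _ hlt' U rfl _ _ (hG.to_subgroup ⊤) _ (hlt'.trans hlt))
    rw [← rfix_eq_top_iff, eq_top_iff, ← hUW.sup_eq_top]
    refine sup_le (hs U hU h1) (hs W hW ?_)
    rintro rfl
    exact h0 (by simpa using hUW.inf_eq_bot)
  have key : ∀ (G : Type u) [Group G] [Finite G] (ρ : Representation F G V), IsPGroup p G →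
      Function.Injective ρ → (∀ U, RInv ρ ⊤ U → U ≠ ⊥ → U = ⊤) → derivedSeries G (k + 1) = ⊥ := by
    clear hirr hG ρ
    intro G _ _ ρ hG hf hirr
    have hker : MonoidHom.ker ρ = ⊥ := (MonoidHom.ker_eq_bot_iff _).2 hf
    have hfix : ∀ D : Subgroup G, D.Normal → rfix ρ D ≠ ⊥ → D = ⊥ := fun D hD h => by
      have := rfix_eq_top_iff.1 (hirr _ (rInv_rfix ρ (by rw [normalizer_eq_top])) h)
      rwa [hker, le_bot_iff] at this
    rcases pair_or hp hG with ⟨z, a, hz, hz1, hzp, hap, haz, hc⟩ | h | ⟨rfl, h⟩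
    · have hzc : ⟪z⟫ ≤ center G := zpowers_le.2 hz
      have h0 : ∀ w ∈ center G, w ≠ 1 → ∀ v, ρ w v = v → v = 0 := by
        intro w hw hw1 v hv
        by_contra hv0
        refine zpowers_ne_bot' hw1 (hfix _ ⟨fun y hy g => by rwa [mem_center_iff.1 (zpowers_le.2 hw hy) g, mul_inv_cancel_right]⟩ fun h => hv0 ?_)
        rw [← Submodule.mem_bot F, ← h]
        exact mem_rfix_zpowers.2 hv
      have haz' : Commute a z := mem_center_iff.1 hz a
      obtain ⟨j, v0, hv0, hx0⟩ := exists_fix_pair ρ hp hk hap hzp hz1 haz' (h0 z hz hz1)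
      set x := a * z ^ j with hx
      have hxp : x ^ p = 1 := by
        rw [hx, (haz'.pow_right j).mul_pow, hap, ← pow_mul, mul_comm j, pow_mul, hzp, one_pow, one_mul]
      have hxc : ∀ g, g * x * g⁻¹ * x⁻¹ ∈ ⟪z⟫ := fun g => by
        have e1 : g * z ^ j = z ^ j * g := mem_center_iff.1 (pow_mem hz j) g
        have e2 : g * x * g⁻¹ * x⁻¹ = ⁅a, g⁆⁻¹ := by
          rw [hx, commutatorElement_def]
          calc g * (a * z ^ j) * g⁻¹ * (a * z ^ j)⁻¹ = g * a * g⁻¹ * (g * z ^ j) * g⁻¹ * (z ^ j)⁻¹ * a⁻¹ := by group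
            _ = _ := by rw [e1]; group
        rw [e2]; exact inv_mem (hc g)
      have hx1 : x ∉ center G := fun h => by
        refine hv0 (h0 x h (fun h1 => haz ?_) v0 hx0)
        rw [eq_inv_of_mul_eq_one_left h1]
        exact inv_mem (pow_mem (mem_zpowers z) j)
      obtain ⟨g, hg⟩ : ∃ g, g * x * g⁻¹ * x⁻¹ ≠ 1 := by
        by_contra h
        push Not at h
        refine hx1 (mem_center_iff.2 fun g => ?_)
        calc g * x = (g * x * g⁻¹ * x⁻¹) * (x * g) := by group
          _ = x * g := by rw [h g, one_mul]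
      set w := g * x * g⁻¹ * x⁻¹ with hw
      have hwc : w ∈ center G := hzc (hxc g)
      have hwp : w ^ p = 1 := by
        obtain ⟨i, hi⟩ := hxc g
        have hi' : z ^ i = w := hi
        rw [← hi', ← zpow_natCast, ← zpow_mul, mul_comm, zpow_mul, zpow_natCast, hzp, one_zpow]
      have hwo : orderOf w = p := orderOf_eq_prime hwp hg
      have hgi : ∀ i : ℕ, g ^ i * x * (g ^ i)⁻¹ = w ^ i * x := by
        intro i
        induction i with
        | zero => simp
        | succ i ihi =>
          have e1 : g * w ^ i = w ^ i * g := mem_center_iff.1 (pow_mem hwc i) g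
          calc g ^ (i + 1) * x * (g ^ (i + 1))⁻¹ = g * (g ^ i * x * (g ^ i)⁻¹) * g⁻¹ := by rw [pow_succ']; group
            _ = (g * w ^ i) * x * g⁻¹ := by rw [ihi]; group
            _ = w ^ i * (g * x * g⁻¹ * x⁻¹) * x := by rw [e1]; group
            _ = _ := by rw [← hw, pow_succ]
      have hwx : ∀ i : ℕ, Commute (w ^ i) x := fun i => (mem_center_iff.1 (pow_mem hwc i) x).symm
      have hsum := sum_finrank_le (ι := Fin p) hk (fun i => ρ (w ^ (i : ℕ) * x))
        (fun i => by rw [← map_pow, (hwx i).mul_pow, hxp, ← pow_mul, mul_comm (i : ℕ), pow_mul, hwp, one_pow,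
          one_mul, map_one])
        (fun i j => Commute.map (((Commute.pow_pow_self w i j).mul_right (hwx i)).mul_left
          ((hwx j).symm.mul_right (Commute.refl x))) ρ)
        (fun i => rfix ρ ⟪w ^ (i : ℕ) * x⟫) (fun i v => mem_rfix_zpowers) (by
          intro i j hij
          wlog hlt : (i : ℕ) < j generalizing i j
          · rw [inf_comm]
            exact this j i hij.symm (lt_of_le_of_ne (not_lt.1 hlt) fun h => hij (Fin.ext h.symm))
          rw [eq_bot_iff]
          intro v hv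
          have h1 := mem_rfix_zpowers.1 hv.1
          have h2 := mem_rfix_zpowers.1 hv.2
          refine h0 (w ^ ((j : ℕ) - i)) (pow_mem hwc _) (pow_ne_one_of_lt_orderOf (by omega) (by omega)) v ?_
          have e : w ^ (j : ℕ) * x = w ^ ((j : ℕ) - i) * (w ^ (i : ℕ) * x) := by
            rw [← mul_assoc (w ^ ((j : ℕ) - i)), ← pow_add, Nat.sub_add_cancel hlt.le]
          rw [e, map_mul, Module.End.mul_apply, h1] at h2
          exact h2)
      have hd : p * finrank F (rfix ρ ⟪x⟫) ≤ n := by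
        refine le_trans ?_ (hn ▸ hsum)
        calc p * finrank F (rfix ρ ⟪x⟫) = ∑ _i : Fin p, finrank F (rfix ρ ⟪x⟫) := by simp
          _ ≤ _ := Finset.sum_le_sum fun i _ => by rw [← hgi]; exact finrank_rfix_conj ρ _ x
      have hn0 : 0 < n := hn ▸ finrank_pos
      have hd1 : finrank F (rfix ρ ⟪x⟫) < n := by
        have := hp.two_le
        nlinarith
      have hd2 : finrank F (rfix ρ ⟪x⟫) < e * p ^ k := by
        refine Nat.lt_of_mul_lt_mul_left (a := p) (hd.trans_lt (hlt.trans_eq ?_))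
        ring
      have hM : RInv ρ (commutator G) (rfix ρ ⟪x⟫) := by
        intro m hm v hv
        rw [mem_rfix_zpowers] at hv ⊢
        rw [← Module.End.mul_apply, ← map_mul, ← z2_comm (fun g => hzc (hxc g)) hm, map_mul, Module.End.mul_apply, hv]
      have h3 := sub_triv hM (ih _ hd1 _ rfl _ _ (hG.to_subgroup _) k hd2)
      refine hfix _ inferInstance fun h => hv0 ?_
      rw [← Submodule.mem_bot F, ← h]
      exact rfix_anti ρ (dser_succ_le le_rfl k) (h3 (mem_rfix_zpowers.2 hx0))
    · exact le_bot_iff.1 (h ▸ dser_anti G (by omega))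
    · rcases k with _ | k
      · have h1 : finrank F (⊤ : Submodule F V) ≤ 1 := by
          have := h2 rfl
          rw [finrank_top, hn]; omega
        have := le_rcent_iff.1 (commutator_le_rcent_of_finrank_le_one ρ (rInv_top ρ ⊤) h1)
        have := rfix_eq_top_iff.1 (top_le_iff.1 this)
        rwa [hker, le_bot_iff] at this
      · exact le_bot_iff.1 (h ▸ dser_anti G (by omega))
  have h1 := key (G ⧸ MonoidHom.ker ρ) (quoRep ρ _ le_rfl) (hG.to_quotient _) (by
      rw [injective_iff_map_eq_one]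
      intro x hx
      obtain ⟨g, rfl⟩ := QuotientGroup.mk_surjective x
      rw [quoRep_mk] at hx
      exact (QuotientGroup.eq_one_iff g).2 hx) (by
      intro U hU h0
      by_contra h1
      exact hirr ⟨U, fun g _ v hv => by simpa [quoRep_mk] using hU (g : G ⧸ MonoidHom.ker ρ) trivial v hv, h0, h1⟩)
  have h3 := map_derivedSeries_le_derivedSeries (QuotientGroup.mk' (MonoidHom.ker ρ)) (k + 1)
  rw [h1, le_bot_iff, Subgroup.map_eq_bot_iff, QuotientGroup.ker_mk'] at h3
  exact h3

section unip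

variable {F : Type*} [Field F] {V : Type v} [AddCommGroup V] [Module F V] {G : Type u} [Group G]

/-- the upper fixed point series -/
def ufix (ρ : Representation F G V) : ℕ → Submodule F V
  | 0 => ⊥
  | i + 1 => ⨅ g : G, (ufix ρ i).comap (ρ g - 1)

theorem mem_ufix_succ {ρ : Representation F G V} {i : ℕ} {v : V} :
    v ∈ ufix ρ (i + 1) ↔ ∀ g, ρ g v - v ∈ ufix ρ i := by
  simp [ufix]

theorem ufix_le_succ (ρ : Representation F G V) (i : ℕ) : ufix ρ i ≤ ufix ρ (i + 1) := by
  induction i with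
  | zero => exact bot_le
  | succ i ih => exact fun v hv => mem_ufix_succ.2 fun g => ih (mem_ufix_succ.1 hv g)

theorem ufix_inv (ρ : Representation F G V) (i : ℕ) (g : G) {v : V} (hv : v ∈ ufix ρ i) : ρ g v ∈ ufix ρ i := by
  rcases i with _ | i
  · have : v = 0 := hv
    rw [this, map_zero]; exact zero_mem _
  · have := add_mem (ufix_le_succ ρ i (mem_ufix_succ.1 hv g)) hv
    rwa [sub_add_cancel] at this

theorem ufix_top [FiniteDimensional F V] [Finite G] (ρ : Representation F G V) {p : ℕ} (hp : p.Prime)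
    (hk : (p : F) = 0) (hG : IsPGroup p G) {n : ℕ} (hn : finrank F V ≤ n) : ufix ρ n = ⊤ := by
  have key : ∀ i, ufix ρ i = ⊤ ∨ i ≤ finrank F (ufix ρ i) := by
    intro i
    induction i with
    | zero => exact Or.inr (Nat.zero_le _)
    | succ i ih =>
      by_cases h : ufix ρ i = ⊤
      · exact Or.inl (top_le_iff.1 (h ▸ ufix_le_succ ρ i))
      refine Or.inr (lt_of_le_of_lt (ih.resolve_left h) (Submodule.finrank_lt_finrank_of_lt
        (lt_of_le_of_ne (ufix_le_succ ρ i) fun e => ?_)))
      haveI : Nontrivial (V ⧸ ufix ρ i) := Submodule.Quotient.nontrivial_iff.2 h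
      refine rfix_ne_bot_of_isPGroup (ρ.quotient (ufix ρ i) fun g v hv => ufix_inv ρ i g hv) hp hk
        (hG.to_subgroup ⊤) (eq_bot_iff.2 fun x hx => ?_)
      obtain ⟨v, rfl⟩ := Submodule.Quotient.mk_surjective _ x
      rw [Submodule.mem_bot, Submodule.Quotient.mk_eq_zero, e, mem_ufix_succ]
      intro g
      rw [← Submodule.Quotient.eq]
      exact mem_rfix.1 hx g trivial
  rcases key n with h | h
  · exact h
  · exact Submodule.eq_top_of_finrank_eq (le_antisymm (Submodule.finrank_le _) (hn.trans h))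

/-- elements lowering the upper fixed point series by `m` steps -/
def ulow (ρ : Representation F G V) (m : ℕ) : Subgroup G where
  carrier := {g | ∀ i, ∀ v ∈ ufix ρ (i + m), ρ g v - v ∈ ufix ρ i}
  one_mem' := fun i v _ => by simp
  mul_mem' := fun {a b} ha hb i v hv => by
    have := add_mem (ufix_inv ρ i a (hb i v hv)) (ha i v hv)
    rwa [map_sub, sub_add_sub_cancel, ← Module.End.mul_apply, ← map_mul] at this
  inv_mem' := fun {a} ha i v hv => by
    have := neg_mem (ufix_inv ρ i a⁻¹ (ha i v hv))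
    rwa [map_sub, ← Module.End.mul_apply, ← map_mul, inv_mul_cancel, map_one, Module.End.one_apply, neg_sub] at this

theorem ulow_comm (ρ : Representation F G V) (m : ℕ) : ⁅ulow ρ m, ulow ρ m⁆ ≤ ulow ρ (m + m) := by
  rw [commutator_le]
  intro a ha b hb i v hv
  set w := ρ (a⁻¹ * b⁻¹) v with hw
  have hw' : w ∈ ufix ρ (i + m + m) := ufix_inv ρ _ _ (by rwa [add_assoc])
  have h1 := ha i _ (hb (i + m) w hw')
  have h2 := hb i _ (ha (i + m) w hw')
  have e1 : ρ ⁅a, b⁆ v = ρ a (ρ b w) := by
    rw [hw, ← Module.End.mul_apply, ← Module.End.mul_apply, ← map_mul, ← map_mul, commutatorElement_def]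
    congr 2; group
  have e2 : v = ρ b (ρ a w) := by
    rw [hw, ← Module.End.mul_apply, ← Module.End.mul_apply, ← map_mul, ← map_mul,
      show b * a * (a⁻¹ * b⁻¹) = 1 by group, map_one, Module.End.one_apply]
  have := sub_mem h1 h2
  convert this using 1
  rw [e1]
  nth_rewrite 1 [e2]
  simp only [map_sub]
  abel

theorem dser_le_ulow (ρ : Representation F G V) (k : ℕ) : derivedSeries G k ≤ ulow ρ (2 ^ k) := by
  induction k with
  | zero => exact fun g _ i v hv => mem_ufix_succ.1 hv g
  | succ k ih =>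
    rw [derivedSeries_succ, pow_succ, mul_two]
    exact (commutator_mono ih ih).trans (ulow_comm ρ _)

theorem dser_le_ker_unip [FiniteDimensional F V] [Finite G] (ρ : Representation F G V) {p : ℕ} (hp : p.Prime)
    (hk : (p : F) = 0) (hG : IsPGroup p G) {k : ℕ} (hn : finrank F V ≤ 2 ^ k) :
    derivedSeries G k ≤ MonoidHom.ker ρ := by
  intro g hg
  ext v
  have := dser_le_ulow ρ k hg 0 v (by rw [zero_add, ufix_top ρ hp hk hG hn]; trivial)
  exact sub_eq_zero.1 this

/-- any characteristic -/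
theorem dser_le_ker_two [FiniteDimensional F V] [Finite G] (ρ : Representation F G V) {p : ℕ} (hp : p.Prime)
    (hG : IsPGroup p G) {k : ℕ} (hn : finrank F V < 2 ^ k) : derivedSeries G k ≤ MonoidHom.ker ρ := by
  by_cases hk : (p : F) = 0
  · exact dser_le_ker_unip ρ hp hk hG hn.le
  · refine dser_le_ker (e := 1) hp hk (fun _ => le_rfl) (fun W _ _ _ hW f _ => ?_) _ V rfl G ρ hG k ?_
    · haveI : Subsingleton W := (finrank_zero_iff (R := F)).1 (by omega)
      exact Subsingleton.elim _ _
    · rw [one_mul]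
      exact hn.trans_le (Nat.pow_le_pow_left hp.two_le k)

theorem eq_one_of_finrank_lt [Finite F] [FiniteDimensional F V] {p : ℕ} (hp : p.Prime) (hq : ¬ p ∣ Nat.card F)
    (h : finrank F V < orderOf ((Nat.card F : ℕ) : ZMod p)) (f : Module.End F V) (hf : f ^ p = 1) : f = 1 := by
  haveI := Fact.mk hp
  haveI : Finite V := Module.finite_of_finite F
  let u : (Module.End F V)ˣ := Units.ofPowEqOne f p hf hp.ne_zero
  have hu : u ^ p = 1 := Units.ext (by simpa [u] using hf)
  have hP : IsPGroup p (zpowers u) := by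
    rintro ⟨_, i, rfl⟩
    exact ⟨1, Subtype.ext (by
      show (u ^ i) ^ (p ^ 1) = 1
      rw [pow_one, ← zpow_natCast, ← zpow_mul, mul_comm, zpow_mul, zpow_natCast, hu, one_zpow])⟩
  have h1 := hP.card_modEq_card_fixedPoints V
  have h2 : Nat.card (MulAction.fixedPoints (zpowers u) V) = Nat.card (LinearMap.ker (f - 1)) := by
    refine Nat.card_congr (Equiv.subtypeEquivRight fun v => ?_)
    rw [LinearMap.mem_ker, LinearMap.sub_apply, Module.End.one_apply, sub_eq_zero, MulAction.mem_fixedPoints]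
    refine ⟨fun h => h ⟨u, mem_zpowers u⟩, fun h g => ?_⟩
    have : zpowers u ≤ MulAction.stabilizer _ v := zpowers_le.2 h
    exact this g.2
  rw [h2, Module.natCard_eq_pow_finrank (K := F) (V := V),
    Module.natCard_eq_pow_finrank (K := F) (V := LinearMap.ker (f - 1))] at h1
  by_contra hne
  have hlt : finrank F (LinearMap.ker (f - 1)) < finrank F V :=
    Submodule.finrank_lt fun h => hne (sub_eq_zero.1 (LinearMap.ker_eq_top.1 h))
  obtain ⟨d, hd⟩ := Nat.exists_eq_add_of_lt hlt
  have h3 := (ZMod.natCast_eq_natCast_iff _ _ _).2 h1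
  have hq0 : ((Nat.card F : ℕ) : ZMod p) ≠ 0 := by rwa [Ne, ZMod.natCast_eq_zero_iff]
  rw [hd, Nat.cast_pow, Nat.cast_pow, add_assoc, pow_add] at h3
  have h4 : ((Nat.card F : ℕ) : ZMod p) ^ (d + 1) = 1 :=
    mul_left_cancel₀ (pow_ne_zero _ hq0) (h3.trans (mul_one _).symm)
  have := orderOf_le_of_pow_eq_one (Nat.succ_pos d) h4
  omega

theorem dser_le_ker_fin [Finite F] [FiniteDimensional F V] [Finite G] (ρ : Representation F G V) {p : ℕ}
    (hp : p.Prime) (hq : ¬ p ∣ Nat.card F) (hG : IsPGroup p G) {k : ℕ}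
    (hn : finrank F V < orderOf ((Nat.card F : ℕ) : ZMod p) * p ^ k) : derivedSeries G k ≤ MonoidHom.ker ρ := by
  haveI := Fact.mk hp
  have hk : (p : F) ≠ 0 := fun h => hq <| by
    haveI := Fintype.ofFinite F
    rw [Nat.card_eq_fintype_card]
    exact (prime_dvd_char_iff_dvd_card p).1 (by
      rcases (Nat.dvd_prime hp).1 ((ringChar.spec F p).1 h) with h1 | h1
      · exact absurd h1 CharP.ringChar_ne_one
      · rw [h1])
  refine dser_le_ker hp hk ?_ (fun W _ _ _ hW f hf => eq_one_of_finrank_lt hp hq hW f hf) _ V rfl G ρ hG k hn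
  rintro rfl
  have hq0 : ((Nat.card F : ℕ) : ZMod 2) ≠ 0 := by rwa [Ne, ZMod.natCast_eq_zero_iff]
  exact orderOf_le_of_pow_eq_one one_pos (ZMod.pow_card_sub_one_eq_one hq0)

end unip

theorem dser_le_of_index {G : Type u} [Group G] [Finite G] {p : ℕ} (hp : p.Prime) (k : ℕ) :
    ∀ P S : Subgroup G, PGrp p P → S.relIndex P < p ^ (k + 1) → (derivedSeries P k).map P.subtype ≤ S := by
  induction k with
  | zero =>
    intro P S hP h
    rw [derivedSeries_zero, ← MonoidHom.range_eq_map, range_subtype]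
    by_contra hn
    have h1 : P ⊓ S < P := lt_of_le_of_ne inf_le_left fun e => hn (inf_eq_left.1 e)
    have h2 := hP.mul_card_le h1
    have h3 := card_inf_mul_relIndex S P
    rw [inf_comm] at h3
    have := card_pos (P ⊓ S)
    rw [zero_add, pow_one] at h
    nlinarith
  | succ k ih =>
    intro P S hP h
    by_cases hn : P ≤ S
    · exact (map_subtype_le _).trans hn
    have h1 : P ⊓ S < P := lt_of_le_of_ne inf_le_left fun e => hn (inf_eq_left.1 e)
    obtain ⟨M, hM1, hM2, hM3⟩ := hP.exists_relIndex_p h1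
    have h2 : S.relIndex M * p = S.relIndex P := by
      have := relIndex_mul hM1 hM2.le
      rw [hM3, inf_comm, inf_relIndex_right] at this
      rw [← this, ← inf_relIndex_right S M, ← inf_relIndex_right (S ⊓ P) M, inf_assoc, inf_eq_right.2 hM2.le]
    have h3 := ih M S (hP.mono hM2.le) (by rw [← h2, pow_succ] at h; exact Nat.lt_of_mul_lt_mul_right h)
    refine le_trans ?_ h3
    have hd : ⁅P, P⁆ ≤ M := der_le_of_prime_relIndex hM2.nrm (hM3 ▸ hp)
    have : ∀ j, (derivedSeries P (j + 1)).map P.subtype ≤ (derivedSeries M j).map M.subtype := by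
      intro j
      induction j with
      | zero =>
        rw [derivedSeries_zero, ← MonoidHom.range_eq_map, range_subtype, zero_add, derivedSeries_one,
          commutator_def, map_commutator, ← MonoidHom.range_eq_map, range_subtype]
        exact hd
      | succ j ihj =>
        rw [derivedSeries_succ P (j + 1), derivedSeries_succ M j, map_commutator, map_commutator]
        exact commutator_mono ihj ihj
    exact this k

theorem dser_perm {X : Type u} [Finite X] {p : ℕ} (hp : p.Prime) {P : Subgroup (Equiv.Perm X)} (hP : IsPGroup p P)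
    {k : ℕ} (h : Nat.card X < p ^ (k + 1)) : derivedSeries P k = ⊥ := by
  rw [← map_eq_bot_iff_of_injective _ P.subtype_injective, eq_bot_iff]
  intro g hg
  rw [mem_bot]
  ext x
  refine dser_le_of_index hp k P (MulAction.stabilizer _ x) ((pGrp_iff hp).2 hP) (lt_of_le_of_lt ?_ h) hg
  have : (MulAction.stabilizer (Equiv.Perm X) x).relIndex P = (MulAction.stabilizer P x).index := rfl
  rw [this, MulAction.index_stabilizer]
  exact Set.ncard_le_card _

end Cfsg.Agent.H27
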