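import Cfsg.Agent.GO.Fg0

/-! Piece (fS): the presentation of the Sylow subgroup. -/

set_option autoImplicit false
set_option linter.unusedVariables false

namespace Cfsg.Agent.GO.Fg

open Subgroup

variable {G : Type*} [Group G]

theorem fSx_g0 [Finite G] (P : Subgroup G) (hP : Nat.card P = 64) (f : G) (hf : orderOf f = 8)
    (hself : ∀ x ∈ P, x * f = f * x → x ∈ Subgroup.zpowers f)
    (hN : ∀ s ∈ normalizer (zpowers f : Set G), ∃ k, (k = 1 ∨ k = 3 ∨ k = 5 ∨ k = 7) ∧ s * f * s⁻¹ = f ^ k)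
    (hodd : ∀ k ∈ ({3, 5, 7} : Set ℕ), ∃ x ∈ P, x * f * x⁻¹ = f ^ k) :
    ∃ g ∈ P, g ∉ normalizer (zpowers f : Set G) ∧
      ∀ s ∈ P, s ∈ normalizer (zpowers f : Set G) → g * s * g⁻¹ ∈ normalizer (zpowers f : Set G) := by
  have hp : IsPGroup 2 P := IsPGroup.of_card (n := 6) hP
  have := hp.isNilpotent
  have lt : (normalizer (zpowers f : Set G)).subgroupOf P < ⊤ := by
    refine lt_top_iff_ne_top.2 fun e => ?_
    obtain ⟨x3, p3, e3⟩ := hodd 3 (by simp)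
    obtain ⟨x5, p5, e5⟩ := hodd 5 (by simp)
    obtain ⟨x7, p7, e7⟩ := hodd 7 (by simp)
    let w : Fin 4 → G := ![1, x3, x5, x7]
    have key : ∀ s : P, ∃ q : Fin 4 × zpowers f, s.1 = w q.1 * q.2.1 := fun s => by
      have k : ∀ i : Fin 4, w i ∈ P → w i * f * (w i)⁻¹ = s.1 * f * s.1⁻¹ →
          ∃ q : Fin 4 × zpowers f, s.1 = w q.1 * q.2.1 := fun i hi e =>
        ⟨(i, ⟨(w i)⁻¹ * s.1, hself _ (mul_mem (inv_mem hi) s.2) (by
          calc (w i)⁻¹ * s.1 * f = (w i)⁻¹ * (s.1 * f * s.1⁻¹) * s.1 := by group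
            _ = _ := by rw [← e]; group)⟩), by simp⟩
      obtain ⟨n, rfl | rfl | rfl | rfl, e1⟩ := hN s.1 (show s ∈ (normalizer _).subgroupOf P from e ▸ mem_top s)
      · exact k 0 (one_mem _) (by rw [e1]; simp [w])
      · exact k 1 p3 (by rw [e1]; exact e3)
      · exact k 2 p5 (by rw [e1]; exact e5)
      · exact k 3 p7 (by rw [e1]; exact e7)
    choose q hq using key
    have := Nat.card_le_card_of_injective q fun s s' e => Subtype.ext (by rw [hq s, hq s', e])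
    rw [hP, Nat.card_prod, Nat.card_zpowers, hf] at this
    simp at this
  obtain ⟨g, h1, h2⟩ := SetLike.exists_of_lt (Group.normalizerCondition_of_isNilpotent _ lt)
  exact ⟨g.1, g.2, h2, fun s hs hn => ((mem_normalizer_iff.1 h1) ⟨s, hs⟩).1 hn⟩

theorem fS27 [Finite G] (P : Subgroup G) (hP : Nat.card P = 64) (f : G) (hfP : f ∈ P)
    (hf : orderOf f = 8) (hself : ∀ x ∈ P, x * f = f * x → x ∈ Subgroup.zpowers f)
    (hodd : ∀ k ∈ ({3, 5, 7} : Set ℕ), ∃ x ∈ P, x * f * x⁻¹ = f ^ k) :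
    ∃ (a k l : ℕ) (y g x : G), a < 2 ∧ k < 4 ∧ l < 4 ∧ y ∈ P ∧ g ∈ P ∧ x ∈ P ∧ FR a k l f y g x := by
  classical
  have pe : ∀ {i j : ℕ}, f ^ i = f ^ j ↔ i % 8 = j % 8 := fun {i j} => by
    rw [pow_eq_pow_iff_modEq, hf]; rfl
  have mz : ∀ {s : G}, s ∈ zpowers f → ∃ i < 8, s = f ^ i := fun {s} hs => by
    obtain ⟨i, hi, e⟩ := Finset.mem_image.1 (mem_zpowers_iff_mem_range_orderOf.1 hs)
    exact ⟨i, by simpa [hf] using hi, e.symm⟩
  have cp : ∀ {s a : G}, s * f * s⁻¹ = a → ∀ n : ℕ, s * f ^ n * s⁻¹ = a ^ n := fun {s a} e n => by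
    rw [← e, conj_pow]
  have cq : ∀ {s : G} {k : ℕ}, s * f * s⁻¹ = f ^ k → ∀ n : ℕ, s * f ^ n = f ^ (k * n) * s := fun {s k} e n => by
    rw [pow_mul, ← cp e]; group
  have cf : ∀ {s : G}, s ∈ P → s * f * s⁻¹ = f → ∃ i < 8, s = f ^ i := fun {s} hs e =>
    mz (hself s hs (by rw [← mul_inv_eq_iff_eq_mul]; exact e))
  have f8 : f ^ 8 = 1 := by rw [← hf, pow_orderOf_eq_one]
  have p0 : ∀ {i : ℕ}, f ^ i = 1 ↔ i % 8 = 0 := fun {i} => by rw [← pow_zero f, pe]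
  have hN : ∀ s ∈ normalizer (zpowers f : Set G), ∃ k, (k = 1 ∨ k = 3 ∨ k = 5 ∨ k = 7) ∧
      s * f * s⁻¹ = f ^ k := fun s hs => by
    obtain ⟨i, hi, e⟩ := mz (((mem_normalizer_iff.1 hs) f).1 (mem_zpowers f))
    refine ⟨i, ?_, e⟩
    have h1 : ¬ (i * 4) % 8 = 0 := fun h => by
      have := cp e 4
      rw [← pow_mul, p0.2 h, conj_eq_one_iff, p0] at this
      omega
    omega
  have hN' : ∀ {s : G}, s * f * s⁻¹ ∈ zpowers f → s ∈ normalizer (zpowers f : Set G) := fun {s} e =>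
    mem_normalizer_fintype fun n hn => by
      obtain ⟨i, -, rfl⟩ := mz hn
      rw [cp rfl]; exact pow_mem e _
  obtain ⟨g0, g0P, g0n, g0N⟩ := fSx_g0 P hP f hf hself hN hodd
  obtain ⟨x0, x0P, x0f⟩ := hodd 7 (by simp)
  have x0N := hN' (x0f ▸ pow_mem (mem_zpowers f) 7)
  -- the element `y` and the first version of `g`
  obtain ⟨y, g1, yP, g1P, yy, yf, g1f, g1N⟩ : ∃ y g1 : G, y ∈ P ∧ g1 ∈ P ∧ y * y = 1 ∧ y * f * y⁻¹ = f ^ 5 ∧
      g1 * f * g1⁻¹ = f ^ 3 * y ∧ ∀ s ∈ P, s ∈ normalizer (zpowers f : Set G) →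
        g1 * s * g1⁻¹ ∈ normalizer (zpowers f : Set G) := by
    obtain ⟨e, he⟩ : ∃ e, g0 * f * g0⁻¹ = e := ⟨_, rfl⟩
    have eP : e ∈ P := he ▸ mul_mem (mul_mem g0P hfP) (inv_mem g0P)
    obtain ⟨k, hk, ek⟩ := hN e (he ▸ g0N f hfP (le_normalizer (mem_zpowers f)))
    have k1 : k ≠ 1 := by
      rintro rfl
      exact g0n (hN' (he ▸ hself e eP (by rw [← mul_inv_eq_iff_eq_mul, ek, pow_one])))
    obtain ⟨j, hj, ej⟩ := cf (mul_mem eP eP) (by
      calc e * e * f * (e * e)⁻¹ = e * (e * f * e⁻¹) * e⁻¹ := by group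
        _ = f ^ 1 := by rw [ek, cp ek, ← pow_mul, pe]; rcases hk with rfl | rfl | rfl | rfl <;> rfl
        _ = f := pow_one f)
    have j1 : (j * 4) % 8 = 0 := by
      rw [← p0, pow_mul, ← ej, ← pow_two, ← pow_mul, ← cp he, f8]; simp
    have j2 : ¬ (j * 2) % 8 = 0 := by
      rw [← p0, pow_mul, ← ej, ← pow_two, ← pow_mul, ← cp he, conj_eq_one_iff, p0]; omega
    have j3 : (k * j) % 8 = j % 8 := by
      rw [← pe, ← mul_left_inj e, ← cq ek, ← ej, mul_assoc]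
    have j4 : j = 2 ∨ j = 6 := by omega
    obtain rfl : k = 5 := by rcases j4 with rfl | rfl <;> omega
    have yq : ∀ i : ℕ, f ^ i * e * f * (f ^ i * e)⁻¹ = f ^ 5 := fun i => by
      calc f ^ i * e * f * (f ^ i * e)⁻¹ = f ^ i * (e * f * e⁻¹) * (f ^ i)⁻¹ := by group
        _ = _ := by rw [ek]; group
    have ys : ∀ i : ℕ, f ^ i * e * (f ^ i * e) = f ^ (i + 5 * i + j) := fun i => by
      rw [mul_assoc, ← mul_assoc e, cq ek, mul_assoc, ej, ← pow_add, ← pow_add, add_assoc]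
    rcases j4 with rfl | rfl
    · exact ⟨f ^ 5 * e, g0, mul_mem (pow_mem hfP _) eP, g0P, by rw [ys, p0], yq 5,
        by rw [he, ← mul_assoc, ← pow_add, f8, one_mul], g0N⟩
    · refine ⟨f ^ 7 * e, g0 * x0, mul_mem (pow_mem hfP _) eP, mul_mem g0P x0P, by rw [ys, p0], yq 7, ?_,
        fun s hs hn => ?_⟩
      · calc g0 * x0 * f * (g0 * x0)⁻¹ = g0 * (x0 * f * x0⁻¹) * g0⁻¹ := by group
          _ = (e * e) ^ 3 * e := by rw [x0f, cp he, ← pow_two, ← pow_mul, ← pow_succ]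
          _ = _ := by rw [ej, ← pow_mul, ← mul_assoc, ← pow_add, mul_left_inj, pe]
      · have := g0N _ (mul_mem (mul_mem x0P hs) (inv_mem x0P)) (mul_mem (mul_mem x0N hn) (inv_mem x0N))
        simpa only [mul_inv_rev, mul_assoc] using this
  have yi : y⁻¹ = y := inv_eq_of_mul_eq_one_right yy
  have yn : ∀ n : ℕ, y * f ^ n = f ^ (5 * n) * y := cq yf
  have sq : ∀ i : ℕ, f ^ i * y * (f ^ i * y) = f ^ (6 * i) := fun i => by
    rw [mul_assoc, ← mul_assoc y, yn, mul_assoc, yy, mul_one, ← pow_add]; congr 1; omega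
  have L1 : ∀ w ∈ P, w * f * w⁻¹ = f ^ 5 → w * w = 1 → w = y ∨ w = f ^ 4 * y := fun w hw e ww => by
    obtain ⟨i, hi, ei⟩ := cf (mul_mem hw yP) (by
      calc w * y * f * (w * y)⁻¹ = w * (y * f * y⁻¹) * w⁻¹ := by group
        _ = f ^ 1 := by rw [yf, cp e, ← pow_mul, pe]
        _ = f := pow_one f)
    have e1 : w = f ^ i * y := by rw [← ei, mul_assoc, yy, mul_one]
    rw [e1, sq, p0] at ww
    obtain rfl | rfl : i = 0 ∨ i = 4 := by omega
    · left; rw [e1, pow_zero, one_mul]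
    · exact .inr e1
  have fy : f * y * f⁻¹ = f ^ 4 * y := by
    have : f ^ 4 * y * f ^ 1 = f ^ 1 * y := by rw [mul_assoc, yn, ← mul_assoc, ← pow_add, mul_left_inj, pe]
    rw [pow_one] at this
    rw [← this]; group
  have adj : ∀ s ∈ P, s * f ^ 4 * s⁻¹ = f ^ 4 → s * y * s⁻¹ * f * (s * y * s⁻¹)⁻¹ = f ^ 5 →
      ∃ s' ∈ P, s' * f * s'⁻¹ = s * f * s⁻¹ ∧ s' * y = y * s' := fun s hs e4 e => by
    rcases L1 _ (mul_mem (mul_mem hs yP) (inv_mem hs)) e (by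
      rw [show s * y * s⁻¹ * (s * y * s⁻¹) = s * (y * y) * s⁻¹ by group, yy]; simp) with e1 | e1
    · exact ⟨s, hs, rfl, by rw [← mul_inv_eq_iff_eq_mul, e1]⟩
    · refine ⟨s * f, mul_mem hs hfP, by group, ?_⟩
      rw [← mul_inv_eq_iff_eq_mul]
      calc s * f * y * (s * f)⁻¹ = s * (f * y * f⁻¹) * s⁻¹ := by group
        _ = s * f ^ 4 * s⁻¹ * (s * y * s⁻¹) := by rw [fy]; group
        _ = y := by rw [e4, e1, ← mul_assoc, ← pow_add, f8, one_mul]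
  obtain ⟨x, xP, xf, xy⟩ := adj x0 x0P (by rw [cp x0f, ← pow_mul, pe]) (by
    have e1 : x0⁻¹ * f * x0 = f ^ 7 := by
      have : x0 * f ^ 7 * x0⁻¹ = f ^ 1 := by rw [cp x0f, ← pow_mul, pe]
      rw [pow_one] at this
      rw [← this, this]; nth_rewrite 1 [← this]; group
    calc x0 * y * x0⁻¹ * f * (x0 * y * x0⁻¹)⁻¹ = x0 * (y * (x0⁻¹ * f * x0) * y⁻¹) * x0⁻¹ := by group
      _ = _ := by rw [e1, cp yf, ← pow_mul, cp x0f, ← pow_mul, pe])
  rw [x0f] at xf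
  have g2 : ∀ {s : G}, s * f * s⁻¹ = f ^ 3 * y → ∀ n : ℕ, s * f ^ (2 * n) * s⁻¹ = f ^ (2 * n) := fun {s} e n => by
    rw [cp e, pow_mul, pow_two, sq, ← pow_mul, pe]; omega
  obtain ⟨g, gP, gf, gy⟩ := adj g1 g1P (g2 g1f 2) (by
    obtain ⟨k, hk, ek⟩ := hN _ (g1N y yP (hN' (yf ▸ pow_mem (mem_zpowers f) 5)))
    have e1 : f ^ (k * 2) = f ^ (2 * 1) := by
      rw [pow_mul, ← cp ek]
      calc g1 * y * g1⁻¹ * f ^ 2 * (g1 * y * g1⁻¹)⁻¹
          = g1 * y * g1⁻¹ * (g1 * f ^ (2 * 1) * g1⁻¹) * (g1 * y * g1⁻¹)⁻¹ := by rw [g2 g1f 1]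
        _ = g1 * (y * f ^ (2 * 1) * y⁻¹) * g1⁻¹ := by group
        _ = g1 * f ^ (2 * 1) * g1⁻¹ := by rw [cp yf, ← pow_mul, (pe (i := 5 * (2 * 1)) (j := 2 * 1)).2 rfl]
        _ = _ := g2 g1f 1
    rw [pe] at e1
    obtain rfl | rfl : k = 1 ∨ k = 5 := by omega
    · exfalso
      obtain ⟨i, hi, ei⟩ := cf (mul_mem (mul_mem g1P yP) (inv_mem g1P)) (by rw [ek, pow_one])
      have e2 : f ^ (i + i) = 1 := by
        rw [pow_add, ← ei, show g1 * y * g1⁻¹ * (g1 * y * g1⁻¹) = g1 * (y * y) * g1⁻¹ by group, yy]; simp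
      rw [p0] at e2
      obtain ⟨m, rfl⟩ : ∃ m, i = 2 * m := ⟨i / 2, by omega⟩
      rw [← g2 g1f m] at ei
      have e3 : y = f ^ (2 * m) := mul_left_cancel (mul_right_cancel ei)
      have e4 : f ^ 5 = f ^ 1 := by rw [← yf, e3]; group
      rw [pe] at e4; omega
    · exact ek)
  rw [g1f] at gf
  have L2 : ∀ c ∈ P, c * f * c⁻¹ = f → c * y = y * c → ∃ k < 4, c = f ^ (2 * k) := fun c hc e1 e2 => by
    obtain ⟨i, hi, rfl⟩ := cf hc e1
    rw [yn, mul_left_inj, pe] at e2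
    exact ⟨i / 2, by omega, by congr 1; omega⟩
  have xy' : x * y * x⁻¹ = y := by rw [xy]; group
  have gy' : g * y * g⁻¹ = y := by rw [gy]; group
  have g3 : ∀ n : ℕ, g * f ^ (2 * n + 1) * g⁻¹ = f ^ (2 * n + 3) * y := fun n => by
    calc g * f ^ (2 * n + 1) * g⁻¹ = g * f ^ (2 * n) * g⁻¹ * (g * f * g⁻¹) := by group
      _ = _ := by rw [g2 gf, gf, ← mul_assoc, ← pow_add]
  obtain ⟨k, hk, ek⟩ := L2 (y * (g * g)) (mul_mem yP (mul_mem gP gP)) (by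
    calc y * (g * g) * f * (y * (g * g))⁻¹ = y * (g * (g * f * g⁻¹) * g⁻¹) * y⁻¹ := by group
      _ = y * (g * f ^ (2 * 1 + 1) * g⁻¹ * (g * y * g⁻¹)) * y⁻¹ := by rw [gf]; group
      _ = f ^ 1 := by rw [g3, gy', mul_assoc (f ^ _), yy, mul_one, cp yf, ← pow_mul, pe]
      _ = f := pow_one f) (by rw [mul_assoc, mul_assoc, gy, ← mul_assoc g, gy]; group)
  obtain ⟨m, hm, em⟩ := L2 (x * x) (mul_mem xP xP) (by
    calc x * x * f * (x * x)⁻¹ = x * (x * f * x⁻¹) * x⁻¹ := by group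
      _ = f ^ 1 := by rw [xf, cp xf, ← pow_mul, pe]
      _ = f := pow_one f) (by rw [mul_assoc, xy, ← mul_assoc, xy, mul_assoc])
  have m2 : (7 * (2 * m)) % 8 = (2 * m) % 8 := by
    rw [← pe, ← mul_left_inj x, ← cq xf, ← em, mul_assoc]
  have cy : Commute (y * (x * g * (g * x)⁻¹)) y :=
    (Commute.refl y).mul_left (((show Commute x y from xy).mul_left gy).mul_left
      ((show Commute g y from gy).mul_left xy).inv_left)
  obtain ⟨l, hl, el⟩ := L2 (y * (x * g * (g * x)⁻¹)) (mul_mem yP (mul_mem (mul_mem xP gP)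
    (inv_mem (mul_mem gP xP)))) (by
      have e1 : g * x * f * (g * x)⁻¹ = f ^ 1 * y := by
        calc g * x * f * (g * x)⁻¹ = g * (x * f * x⁻¹) * g⁻¹ := by group
          _ = _ := by rw [xf, g3 3, mul_left_inj, pe]
      have e2 : x * g * f * (x * g)⁻¹ = f ^ 5 * y := by
        calc x * g * f * (x * g)⁻¹ = x * (g * f * g⁻¹) * x⁻¹ := by group
          _ = x * f ^ 3 * x⁻¹ * (x * y * x⁻¹) := by rw [gf]; group
          _ = _ := by rw [xy', cp xf, ← pow_mul, mul_left_inj, pe]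
      have e3 : y * (x * g * (g * x)⁻¹) * (f ^ 1 * y) * (y * (x * g * (g * x)⁻¹))⁻¹ = f ^ 1 * y := by
        calc _ = y * (x * g * f * (x * g)⁻¹) * y⁻¹ := by rw [← e1]; group
          _ = _ := by rw [e2, mul_assoc, mul_inv_cancel_right, yn, mul_left_inj, pe]
      rw [pow_one, ← mul_assoc, mul_assoc _ y, ← cy.inv_left.eq, ← mul_assoc, mul_left_inj] at e3
      exact e3) cy.eq
  refine ⟨m / 2, k, l, y, g, x, by omega, hk, hl, yP, gP, xP, f8, by rw [Ne, p0]; omega, yy,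
    by rw [← yf]; group, by rw [← gf]; group, gy, by rw [← xf]; group, xy, ?_, ?_, ?_⟩
  · rw [← ek, ← mul_assoc, yy, one_mul]
  · rw [em, pe]; omega
  · rw [← el, ← mul_assoc y y, yy]; group

end Cfsg.Agent.GO.Fg
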