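import Mathlib
import Cfsg.Agent.S4050
import Cfsg.Agent.S0877

/-! π-homogeneous groups and π'-closure: reduction lemmas, and the case of a `D_π`-group all of
whose π-local subgroups are π'-closed. -/

set_option autoImplicit false

namespace Cfsg.Agent.H27

open Subgroup Cfsg.Agent.FT

universe u

/-- π-homogeneous: π'-elements normalising a π-subgroup centralise it. -/
def Hmg (π : Set ℕ) (G : Type*) [Group G] : Prop :=
  ∀ H : Subgroup G, PiGrp π H → ∀ y ∈ N(H), PiElt πᶜ y → y ∈ C(H)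

/-- `M` is π'-closed. -/
def PCl (π : Set ℕ) {G : Type*} [Group G] (M : Subgroup G) : Prop :=
  ∃ K, Hall πᶜ K M ∧ K ⊴ M

/-- every π-subgroup lies in a Hall π-subgroup. -/
def EPi (π : Set ℕ) (G : Type*) [Group G] : Prop :=
  ∀ H : Subgroup G, PiGrp π H → ∃ Q, Hall π Q ⊤ ∧ H ≤ Q

/-- any two Hall π-subgroups are conjugate. -/
def CPi (π : Set ℕ) (G : Type*) [Group G] : Prop :=
  ∀ Q R : Subgroup G, Hall π Q ⊤ → Hall π R ⊤ → ∃ g, R = cj g Q

variable {π : Set ℕ} {G : Type*} [Group G] [Finite G] {G' : Type*} [Group G'] [Finite G']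

theorem hmg_of (h : ∀ H : Subgroup G, H ≠ ⊥ → (∀ p : ℕ, p.Prime → p ∣ Nat.card ↥H → p ∈ π) →
    ∀ p : ℕ, p.Prime → p ∣ (centralizer (H : Set G)).relIndex (normalizer (H : Set G)) → p ∈ π) :
    Hmg π G := by
  intro H hH y hy hp
  by_cases h0 : H = ⊥
  · rw [h0, cen_bot]; trivial
  exact hp.mem_of_relIndex hy (norms_cent le_rfl) (by rw [compl_compl]; exact h H h0 hH)

theorem pcl_top_iff : PCl π (⊤ : Subgroup G) ↔
    ∃ K : Subgroup G, ∀ x : G, x ∈ K ↔ ∀ p : ℕ, p.Prime → p ∣ orderOf x → p ∉ π :=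
  (S4050.closed_iff πᶜ).symm

theorem pcl_iff {M : Subgroup G} : PCl π (⊤ : Subgroup M) ↔ PCl π M := by
  constructor
  · rintro ⟨K, h1, h2⟩
    haveI := nml_top_iff.1 h2
    exact ⟨K.map M.subtype, hall_map_subtype.2 (hall_top_iff.1 h1), nml_map_subtype K⟩
  · rintro ⟨K, h1, h2⟩
    exact ⟨K.subgroupOf M, hall_top_iff.2 ((hall_iff_subgroupOf h1.le).1 h1),
      nml_top_iff.2 h2.normal⟩

theorem pcl_of_pi {M : Subgroup G} (h : PiGrp π M) : PCl π M :=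
  ⟨⊥, hall_bot (by rwa [compl_compl]), nml_bot M⟩

theorem pcl_of_pi' {M : Subgroup G} (h : PiGrp πᶜ M) : PCl π M :=
  ⟨M, hall_self h, Nml.refl M⟩

theorem PCl.mono {M L : Subgroup G} (h : PCl π M) (hL : L ≤ M) : PCl π L := by
  obtain ⟨K, h1, h2⟩ := h
  exact ⟨L ⊓ K, h1.inf_of_nml' h2.nrm hL, nml_inf_of_norms (hL.trans h2.nrm)⟩

theorem PCl.map {M : Subgroup G} (h : PCl π M) (f : G →* G') : PCl π (M.map f) := by
  obtain ⟨K, h1, h2⟩ := h
  exact ⟨K.map f, h1.map f, map_mono h2.le, (map_mono h2.nrm).trans (le_normalizer_map f)⟩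

omit [Finite G] [Finite G'] in
theorem piElt_of_inj {f : G' →* G} (hf : Function.Injective f) {x : G'} :
    PiElt π (f x) ↔ PiElt π x := by
  unfold PiElt; rw [orderOf_injective f hf]

theorem Hmg.of_inj (h : Hmg π G) {f : G' →* G} (hf : Function.Injective f) : Hmg π G' := by
  intro H hH y hy hp
  have := h (H.map f) (hH.map f) (f y) (le_normalizer_map f ⟨y, hy, rfl⟩) ((piElt_of_inj hf).2 hp)
  exact mem_cen.2 fun x hx => hf (by
    rw [map_mul, map_mul]; exact mem_cen.1 this _ ⟨x, hx, rfl⟩)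

theorem Hmg.sub (h : Hmg π G) (M : Subgroup G) : Hmg π M := h.of_inj M.subtype_injective

theorem Hmg.le_cen (h : Hmg π G) {H K : Subgroup G} (hH : PiGrp π H) (hK : PiGrp πᶜ K)
    (hn : K ≤ N(H)) : K ≤ C(H) := fun y hy => h H hH y (hn hy) (hK.piElt hy)

theorem card_comap_mk (N : Subgroup G) [N.Normal] (U : Subgroup (G ⧸ N)) :
    #(U.comap (QuotientGroup.mk' N)) = #N * #U := by
  have h1 := (U.comap (QuotientGroup.mk' N)).card_mul_index
  have h2 := U.card_mul_index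
  have h3 := N.card_mul_index
  rw [index_comap_of_surjective _ (QuotientGroup.mk'_surjective N)] at h1
  have h4 : U.index ≠ 0 := index_ne_zero_of_finite
  refine Nat.eq_of_mul_eq_mul_right (Nat.pos_of_ne_zero h4) ?_
  rw [h1, mul_assoc, h2, ← h3]; rfl

theorem piGrp_comap_mk {N : Subgroup G} [N.Normal] {U : Subgroup (G ⧸ N)} (hN : PiGrp π N)
    (hU : PiGrp π U) : PiGrp π (U.comap (QuotientGroup.mk' N)) := by
  intro p hp hd
  rw [card_comap_mk] at hd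
  exact (hp.dvd_mul.1 hd).elim (hN p hp) (hU p hp)

omit [Finite G] in
theorem le_comap_mk (N : Subgroup G) [N.Normal] (U : Subgroup (G ⧸ N)) :
    N ≤ U.comap (QuotientGroup.mk' N) := fun x hx => by
  rw [mem_comap, QuotientGroup.mk'_apply, (QuotientGroup.eq_one_iff x).2 hx]; exact U.one_mem

theorem Hmg.quo_pi (h : Hmg π G) {N : Subgroup G} [N.Normal] (hN : PiGrp π N) :
    Hmg π (G ⧸ N) := by
  intro H hH y hy hp
  obtain ⟨z, rfl⟩ := QuotientGroup.mk'_surjective N y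
  have e : QuotientGroup.mk' N (constt πᶜ z) = QuotientGroup.mk' N z := by
    rw [constt_map, hp.constt_eq]
  have h1 := h _ (piGrp_comap_mk hN hH) (constt πᶜ z)
    (le_normalizer_comap _ (by rw [mem_comap, e]; exact hy)) (piElt_constt _ _)
  refine mem_cen.2 fun x hx => ?_
  obtain ⟨u, rfl⟩ := QuotientGroup.mk'_surjective N x
  rw [← e, ← map_mul, ← map_mul, mem_cen.1 h1 u hx]

theorem Hmg.quo_pi' (h : Hmg π G) {N : Subgroup G} [N.Normal] (hN : PiGrp πᶜ N) :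
    Hmg π (G ⧸ N) := by
  intro H hH y hy hp
  refine le_cen1.1 (le_of_forall_syl fun q hq hqd => ?_)
  obtain ⟨Q₀, hQ₀, hn⟩ := coprime_Sylow_exists q (zpowers_le.2 hy) (hH.cop hp.zpowers)
    (Or.inr (sol_zpowers y))
  refine ⟨Q₀, hQ₀, ?_⟩
  obtain ⟨Q, hQ⟩ := exists_syl q (Q₀.comap (QuotientGroup.mk' N))
  have e : Q.map (QuotientGroup.mk' _) = Q₀ := by
    have : Syl q _ _ := hQ.map (f := QuotientGroup.mk' N)
    rw [H1.map_comap_mk] at this
    exact this.eq_of_piGrp hQ₀.pi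
  have hQ' : PiGrp π Q := hQ.pi.pi (hH.mem hq hqd)
  have h3 := zpowers_le.1 hn
  rw [← e, H1.normalizer_map_mk Q _ (hQ'.cop hN) (Or.inl hQ.pi.sol)] at h3
  obtain ⟨n, hn', rfl⟩ := h3
  have h5 := h Q hQ' _ (constt_mem πᶜ hn') (piElt_constt _ _)
  rw [← e, ← hp.constt_eq, ← constt_map]
  rintro _ ⟨u, hu, rfl⟩
  rw [mem_cen1, ← map_mul, ← map_mul, mem_cen.1 h5 u hu]

theorem Hmg.quo (h : Hmg π G) {N : Subgroup G} [N.Normal] (hN : PiGrp π N ∨ PiGrp πᶜ N) :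
    Hmg π (G ⧸ N) := hN.elim h.quo_pi h.quo_pi'

theorem PCl.of_quo (h : Hmg π G) {N : Subgroup G} [N.Normal] (hN : PiGrp π N ∨ PiGrp πᶜ N)
    (hq : PCl π (⊤ : Subgroup (G ⧸ N))) : PCl π (⊤ : Subgroup G) := by
  obtain ⟨K, h1, h2⟩ := hq
  haveI := nml_top_iff.1 h2
  have hi : PiNat πᶜᶜ ((K.comap (QuotientGroup.mk' N)).relIndex ⊤) := by
    have := h1.idx
    rwa [relIndex_top_right, ← index_comap_of_surjective _ (QuotientGroup.mk'_surjective N),
      ← relIndex_top_right] at this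
  have hn : K.comap (QuotientGroup.mk' N) ⊴ ⊤ := nml_top _
  rcases hN with hN | hN
  · have hH : Hall π N (K.comap (QuotientGroup.mk' N)) := by
      refine ⟨le_comap_mk N K, hN, ?_⟩
      have := card_mul_relIndex (le_comap_mk N K)
      rw [card_comap_mk] at this
      rw [Nat.eq_of_mul_eq_mul_left Nat.card_pos this]; exact h1.pi
    obtain ⟨L, l1, l2⟩ := hH.exists_compl (le_top.trans (nml_top N).nrm)
    have l3 : K.comap (QuotientGroup.mk' N) ≤ N(L) := by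
      rw [← l2.sup]
      exact sup_le (cents_norm (centsC (h.le_cen hN l1.pi (le_top.trans (nml_top N).nrm))))
        (le_nrm L)
    exact ⟨L, l1.of_relIndex le_top hi, l1.nml_trans l3 hn⟩
  · exact ⟨_, ⟨le_top, piGrp_comap_mk hN h1.pi, hi⟩, hn⟩

/-- no nontrivial normal π- or π'-subgroup. -/
def NoO (π : Set ℕ) (G : Type*) [Group G] : Prop :=
  ∀ N : Subgroup G, N.Normal → PiGrp π N ∨ PiGrp πᶜ N → N = ⊥

theorem NoO.eq_bot (h : NoO π G) {N : Subgroup G} (hN : N.Normal) (hc : PCl π N) : N = ⊥ := by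
  obtain ⟨K, h1, h2⟩ := hc
  have := h K (nml_top_iff.1 (h1.nml_trans h2.nrm (nml_top_iff.2 hN))) (Or.inr h1.pi)
  rw [this, hall_bot_iff, compl_compl] at h1
  exact h N hN (Or.inl h1)

theorem NoO.nrm_ne (h : NoO π G) {T : Subgroup G} (hT : PiGrp π T) (h0 : T ≠ ⊥) : N(T) ≠ ⊤ :=
  fun e => h0 (h T (nml_top_iff.1 ⟨le_top, e.ge⟩) (Or.inl hT))

theorem pcl_ind (P : ∀ (G : Type u) [Group G] [Finite G], Prop)
    (hq : ∀ (G : Type u) [Group G] [Finite G] (N : Subgroup G) [N.Normal], P G →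
      PiGrp π N ∨ PiGrp πᶜ N → P (G ⧸ N))
    (hb : ∀ (G : Type u) [Group G] [Finite G], P G → Hmg π G → NoO π G →
      (∀ M : Subgroup G, M ≠ ⊤ → P M → PCl π M) → PCl π (⊤ : Subgroup G))
    (G : Type u) [Group G] [Finite G] (hP : P G) (h : Hmg π G) : PCl π (⊤ : Subgroup G) := by
  induction' hn : Nat.card G using Nat.strong_induction_on with n ih generalizing G
  by_cases h0 : NoO π G
  · refine hb G hP h h0 fun M hM hp => pcl_iff.1 (ih _ ?_ M hp (h.sub M) rfl)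
    rw [← hn, ← card_top (G := G)]; exact card_lt (lt_top_iff_ne_top.2 hM)
  · unfold NoO at h0
    push Not at h0
    obtain ⟨N, hN, h1, h2⟩ := h0
    refine PCl.of_quo h h1 (ih _ ?_ (G ⧸ N) (hq G N hP h1) (h.quo h1) rfl)
    rw [← hn, ← N.card_mul_index, ← index_eq_card]
    exact lt_mul_of_one_lt_left (Nat.pos_of_ne_zero index_ne_zero_of_finite)
      ((one_lt_card_iff_ne_bot N).2 h2)

/-- version for classes closed under normal subgroups: reduction to non-abelian simple groups. -/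
theorem pcl_ind_simple (P : ∀ (G : Type u) [Group G] [Finite G], Prop)
    (hq : ∀ (G : Type u) [Group G] [Finite G] (N : Subgroup G) [N.Normal], P G →
      PiGrp π N ∨ PiGrp πᶜ N → P (G ⧸ N))
    (hs : ∀ (G : Type u) [Group G] [Finite G] (N : Subgroup G), N.Normal → P G → P N)
    (hb : ∀ (G : Type u) [Group G] [Finite G] [IsSimpleGroup G], ¬ IsMulCommutative G → P G →
      Hmg π G → (∀ M : Subgroup G, M ≠ ⊤ → P M → PCl π M) → PCl π (⊤ : Subgroup G))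
    (G : Type u) [Group G] [Finite G] (hP : P G) (h : Hmg π G) : PCl π (⊤ : Subgroup G) := by
  refine pcl_ind P hq (fun G _ _ hP h h0 ih => ?_) G hP h
  by_cases hc : IsMulCommutative G
  · have a : Ab (⊤ : Subgroup G) := ab_iff_forall.2 fun x _ y _ => hc.is_comm.comm x y
    exact ⟨_, a.nil.pcore_hall πᶜ, pcore_nml _ _⟩
  haveI : Nontrivial G := not_subsingleton_iff_nontrivial.1 fun _ =>
    hc ⟨⟨fun a b => Subsingleton.elim _ _⟩⟩
  haveI : IsSimpleGroup G := ⟨fun N hN => by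
    by_cases e : N = ⊤
    · exact Or.inr e
    · exact Or.inl (h0.eq_bot hN (ih N e (hs G N hN hP)))⟩
  exact hb G hc hP h ih

theorem EPi.nml (h : EPi π G) {N : Subgroup G} (hN : N.Normal) : EPi π N := by
  intro H hH
  obtain ⟨Q, h1, h2⟩ := h (H.map N.subtype) (hH.map _)
  have h3 := h1.inf_nml (nml_top_iff.2 hN)
  refine ⟨(Q ⊓ N).subgroupOf N, hall_top_iff.2 ((hall_iff_subgroupOf h3.le).1 h3), fun x hx => ?_⟩
  exact ⟨h2 ⟨x, hx, rfl⟩, x.2⟩

theorem exists_lift_pi {N : Subgroup G} [N.Normal] (hN : PiGrp π N ∨ PiGrp πᶜ N)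
    {H : Subgroup (G ⧸ N)} (hH : PiGrp π H) :
    ∃ K : Subgroup G, PiGrp π K ∧ K.map (QuotientGroup.mk' N) = H := by
  rcases hN with hN | hN
  · exact ⟨_, piGrp_comap_mk hN hH, H1.map_comap_mk N H⟩
  have hh : Hall πᶜ N (H.comap (QuotientGroup.mk' N)) := by
    refine ⟨le_comap_mk N H, hN, ?_⟩
    have := card_mul_relIndex (le_comap_mk N H)
    rw [card_comap_mk] at this
    rw [Nat.eq_of_mul_eq_mul_left Nat.card_pos this, compl_compl]; exact hH
  obtain ⟨L, l1, -⟩ := hh.exists_compl (le_top.trans (nml_top N).nrm)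
  rw [compl_compl] at l1
  have := l1.map (f := QuotientGroup.mk' N)
  rw [H1.map_comap_mk] at this
  exact ⟨L, l1.pi, this.eq_of_piGrp hH⟩

theorem hall_map_mk {N : Subgroup G} [N.Normal] {Q : Subgroup G} (h : Hall π Q ⊤) :
    Hall π (Q.map (QuotientGroup.mk' N)) ⊤ := by
  have := h.map (f := QuotientGroup.mk' N)
  rwa [map_top_of_surjective _ (QuotientGroup.mk'_surjective N)] at this

theorem EPi.quo (h : EPi π G) {N : Subgroup G} [N.Normal] (hN : PiGrp π N ∨ PiGrp πᶜ N) :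
    EPi π (G ⧸ N) := by
  intro H hH
  obtain ⟨K, k1, rfl⟩ := exists_lift_pi hN hH
  obtain ⟨Q, h1, h2⟩ := h K k1
  exact ⟨_, hall_map_mk h1, map_mono h2⟩

theorem CPi.quo (h : CPi π G) (he : EPi π G) {N : Subgroup G} [N.Normal]
    (hN : PiGrp π N ∨ PiGrp πᶜ N) : CPi π (G ⧸ N) := by
  have key : ∀ R : Subgroup (G ⧸ N), Hall π R ⊤ →
      ∃ Q, Hall π Q ⊤ ∧ R = Q.map (QuotientGroup.mk' N) := by
    intro R hR
    obtain ⟨K, k1, rfl⟩ := exists_lift_pi hN hR.pi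
    obtain ⟨Q, h1, h2⟩ := he K k1
    exact ⟨Q, h1, (hR.max (h1.pi.map _) (map_mono h2) le_top).symm⟩
  intro Q R hQ hR
  obtain ⟨Q, h1, rfl⟩ := key Q hQ
  obtain ⟨R, h2, rfl⟩ := key R hR
  obtain ⟨g, rfl⟩ := h Q R h1 h2
  exact ⟨QuotientGroup.mk' N g, map_cj _ _ _⟩

theorem dpi_of (h : Cfsg.IsDPiGroup π G) : EPi π G ∧ CPi π G := by
  have hm : ∀ H : Subgroup G, PiGrp π H → ∃ Q, H ≤ Q ∧ Maximal (IsPiSubgroup π) Q := by
    intro H hH
    obtain ⟨Q, h1, h2, h3⟩ := exists_max (PiGrp π) hH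
    exact ⟨Q, h1, h2, fun K hK hle => (h3 K hK hle).le⟩
  refine ⟨fun H hH => ?_, fun Q R hQ hR => h Q R ⟨hQ.pi, fun K hK hle => (hQ.max hK hle le_top).le⟩
    ⟨hR.pi, fun K hK hle => (hR.max hK hle le_top).le⟩⟩
  obtain ⟨Q, h1, h2⟩ := hm H hH
  refine ⟨Q, hall_of_forall_syl le_top h2.1 fun p _ hπ _ => ?_, h1⟩
  obtain ⟨P, hP⟩ := exists_syl p (⊤ : Subgroup G)
  obtain ⟨R, r1, r2⟩ := hm P (hP.pi.pi hπ)
  obtain ⟨g, rfl⟩ := h R Q r2 h2
  exact ⟨cj g P, hP.cj_mem trivial, map_mono r1⟩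

/-- `X` is transitive on the Hall π-subgroups containing `T`. -/
def HTr (π : Set ℕ) {G : Type*} [Group G] (X T : Subgroup G) : Prop :=
  ∀ Q R : Subgroup G, Hall π Q ⊤ → Hall π R ⊤ → T ≤ Q → T ≤ R → ∃ g ∈ X, R = cj g Q

theorem HTr.core (he : EPi π G) {T O : Subgroup G} (h : HTr π N(T) T) (hT : PiGrp π T)
    (hO : Hall πᶜ O N(T)) (hn : O ⊴ N(T)) : HTr π O T := by
  intro Q R hQ hR h1 h2
  obtain ⟨S, s1, s2⟩ := hO.exists_compl hn.nrm
  rw [compl_compl] at s1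
  obtain ⟨Q', q1, q2⟩ := he _ (hT.sup s1.pi s1.le)
  obtain ⟨n, hn1, rfl⟩ := h Q' Q q1 hQ (le_sup_left.trans q2) h1
  obtain ⟨m, hm, rfl⟩ := h _ R hQ hR h1 h2
  obtain ⟨o, ho, s, hs, rfl⟩ := (hO.sd' hn.nrm (s1.cj_mem hn1)).mulEq.mul _ hm
  refine ⟨o, ho, ?_⟩
  rw [← cj_cj, cj_of_mem (cj_mono n (le_sup_right.trans q2) hs)]

theorem htr_nrm (he : EPi π G) (hc : CPi π G) (hh : Hmg π G) {p : ℕ} (hp : p ∈ π)
    (hcl : ∀ T : Subgroup G, PGrp p T → T ≠ ⊥ → PCl π N(T)) (T : Subgroup G) (hT : PGrp p T)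
    (h0 : T ≠ ⊥) : HTr π N(T) T := by
  induction' hn : T.index using Nat.strong_induction_on with n ih generalizing T
  have ih' : ∀ U : Subgroup G, PGrp p U → T < U → HTr π N(T) U := by
    intro U hU hlt
    have u0 := ne_bot_of_le hlt.le h0
    obtain ⟨O, o1, o2⟩ := hcl U hU u0
    have := (ih _ (by rw [← hn]; exact index_strictAnti hlt) U hU u0 rfl).core he (hU.pi hp) o1 o2
    intro Q R hQ hR h1 h2
    obtain ⟨g, hg, e⟩ := this Q R hQ hR h1 h2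
    exact ⟨g, cen_le_nrm _ (cen_anti hlt.le (hh.le_cen (hU.pi hp) o1.pi o1.le hg)), e⟩
  intro Q R hQ hR h1 h2
  obtain ⟨P₁, a1, a2⟩ := hT.exists_syl h1
  obtain ⟨P₂, b1, b2⟩ := hT.exists_syl h2
  have a3 := hQ.subHall_syl hp a1
  have b3 := hR.subHall_syl hp b1
  rcases a2.eq_or_lt with e | a2
  · obtain ⟨g, rfl⟩ := hc Q R hQ hR
    subst e
    obtain ⟨k, hk, e⟩ := (a1.cj g).syl_trans (a3.subl h2 le_top)
    refine ⟨k * g, cj_eq_self.1 (by rw [← cj_cj, ← e]), ?_⟩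
    rw [← cj_cj, cj_of_mem hk]
  have b2' : T < P₂ := lt_of_le_of_ne b2 fun e => by
    have := card_lt a2
    rw [e, b3.card_eq a3] at this
    exact lt_irrefl _ this
  have c1 := a1.pi.lt_subnorm a2
  have c2 := b1.pi.lt_subnorm b2'
  obtain ⟨S, s1, s2⟩ := (a1.pi.inf_left N(T)).exists_syl inf_le_right
  obtain ⟨m, hm, s3⟩ := s1.syl_subJ (b1.pi.inf_left N(T)) inf_le_right
  obtain ⟨Q', q1, q2⟩ := he S (s1.pi.pi hp)
  obtain ⟨a, ha, rfl⟩ := ih' _ (a1.pi.inf_left N(T)) c1 Q Q' hQ q1 (inf_le_left.trans a1.le)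
    (s2.trans q2)
  obtain ⟨b, hb, rfl⟩ := ih' _ (b1.pi.inf_left N(T)) c2 _ R (q1.cj_mem (mem_top m)) hR
    (s3.trans (map_mono q2)) (inf_le_left.trans b1.le)
  exact ⟨b * (m * a), mul_mem hb (mul_mem hm ha), by rw [cj_cj, cj_cj, mul_assoc]⟩

/-- A π-homogeneous `D_π`-group whose π-local subgroups are π'-closed is π'-closed. -/
theorem pcl_of_dpi (he : EPi π G) (hc : CPi π G) (hh : Hmg π G)
    (hcl : ∀ p ∈ π, ∀ T : Subgroup G, PGrp p T → T ≠ ⊥ → PCl π N(T)) :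
    PCl π (⊤ : Subgroup G) := by
  obtain ⟨Q, hQ, -⟩ := he ⊥ (piGrp_bot π)
  have hi : PiNat π (C(Q).relIndex N(Q)) := by
    intro q hq hd
    by_contra hπ
    obtain ⟨P, hP⟩ := exists_syl q N(Q)
    exact (hP.relIndex_of_le (hh.le_cen hQ.pi (hP.pi.pi hπ) hP.le)) q hq hd rfl
  obtain ⟨K, k1, k2, k3⟩ := S0877.result Q (by
      have := hQ.coprime; rwa [relIndex_top_right] at this) (by
    intro x hx y hy hxy
    obtain ⟨g, rfl⟩ := isConj_iff.1 hxy
    by_cases h1 : x = 1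
    · exact ⟨1, Q.one_mem, by rw [h1]; group⟩
    obtain ⟨p, hp, hd⟩ := Nat.exists_prime_and_dvd (mt orderOf_eq_one_iff.1 h1)
    have hπ := hQ.pi.piElt hx p hp hd
    have t1 : PGrp p ⟪constt {p} x⟫ := (piElt_constt _ _).zpowers
    have t2 : ⟪constt {p} x⟫ ≠ ⊥ := fun e => by
      have : PiElt {p}ᶜ x := constt_eq_one_iff.1 (zpowers_eq_bot.1 e)
      exact this p hp hd rfl
    have t3 : ⟪constt {p} x⟫ ≤ ⟪x⟫ := zpowers_le.2 (constt_mem _ (mem_zpowers x))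
    have hx' : x ∈ cj g⁻¹ Q := by rw [mem_cj, inv_inv]; exact hy
    obtain ⟨O, o1, o2⟩ := hcl p hπ _ t1 t2
    obtain ⟨o, ho, e⟩ := (htr_nrm he hc hh hπ (hcl p hπ) _ t1 t2).core he (t1.pi hπ) o1 o2 Q _ hQ
      (hQ.cj_mem (mem_top g⁻¹)) (t3.trans (zpowers_le.2 hx)) (t3.trans (zpowers_le.2 hx'))
    have x1 : x ∈ N(O) := o2.nrm ((ab_zpowers x).norms t3 (mem_zpowers x))
    have x2 : x⁻¹ * (o⁻¹ * x * o) = 1 := by
      refine eq_one_of_mem_inf (hQ.pi.inf_eq_bot o1.pi) (mul_mem (inv_mem hx) ?_) ?_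
      · rw [e, mem_cj] at hx'; exact hx'
      · have := mul_mem (conj_mem' x1 (inv_mem ho)) ho
        simpa only [mul_assoc] using this
    have x3 : g * o ∈ N(Q) := cj_eq_self.1 (by rw [← cj_cj, ← e, cj_cj_inv])
    obtain ⟨q, hq, d, hd, e'⟩ := ((hQ.subl (le_nrm Q) le_top).mulEq_of_relIndex (cen_le_nrm Q)
      hi).mul _ x3
    refine ⟨q, hq, ?_⟩
    have e1 : g = q * d * o⁻¹ := by rw [← e']; group
    have e2 : o⁻¹ * x * o = x := by rw [← mul_right_inj x⁻¹, x2, inv_mul_cancel]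
    calc q * x * q⁻¹ = q * (x * d) * d⁻¹ * q⁻¹ := by group
      _ = q * d * (o⁻¹ * x * o) * d⁻¹ * q⁻¹ := by rw [mem_cen.1 hd x hx, e2]; group
      _ = _ := by rw [e1]; group) (by
    intro E _ _ _ hd
    obtain ⟨R, r1, r2⟩ := he E fun q hq h => hQ.pi q hq (h.trans hd)
    obtain ⟨g, rfl⟩ := hc R Q r1 hQ
    exact ⟨g, map_mono r2⟩)
  have s : SD K Q ⊤ := ⟨le_top.trans (nml_top K).nrm, k2, k3⟩
  exact ⟨K, s.compl_hall_left' hQ, nml_top K⟩

end Cfsg.Agent.H27
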