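import Mathlib
import Cfsg.Agent.H27.Homog
import Cfsg.Agent.H13.SzEasy
import Cfsg.Agent.H13.SzModels

/-! π-homogeneous Suzuki groups; π-homogeneous `3'`-groups. -/

set_option autoImplicit false

namespace Cfsg.Agent.H27

open Subgroup Cfsg.Agent.FT

universe u

variable {π : Set ℕ} {G : Type*} [Group G] [Finite G]

theorem piElt_compl_two (h2 : 2 ∉ π) {t : G} (ht : orderOf t = 2) : PiElt πᶜ t :=
  fun p hp hd => by
    rw [ht] at hd
    rwa [(Nat.prime_dvd_prime_iff_eq hp Nat.prime_two).1 hd]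

theorem Hmg.sz_odd {F : Type*} [Field F] (S : H13.SzData G F) (h : Hmg π G) (h2 : 2 ∉ π) :
    PiGrp πᶜ (⊤ : Subgroup G) := by
  intro p hp hd hπ
  rw [card_top] at hd
  haveI := Fact.mk hp
  obtain ⟨g, hg⟩ := exists_prime_orderOf_dvd_card' p hd
  have g1 : g ≠ 1 := fun e => hp.ne_one (by rw [← hg, e, orderOf_one])
  have ho : Odd p := hp.odd_of_ne_two fun e => h2 (e ▸ hπ)
  have T := S.isTorus_centralizer g1 ho (by rw [← hg, pow_orderOf_eq_one])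
  have hd2 : 2 ∣ #N(C[g]) := by
    rcases T.card with ⟨-, e⟩ | ⟨-, e⟩
    · exact ⟨_, e⟩
    · exact ⟨2 * #C[g], e.trans (by ring)⟩
  obtain ⟨t, ht, ot⟩ := exists_elt_of_prime_dvd Nat.prime_two hd2
  have c : Cyc C[g] := T.isCyclic
  have gp : g ∈ O[{p}](C[g]) := (c.ab.nil.pcore_hall {p}).mem_pcore (self_mem_cen1 g)
    (pElt_of_orderOf hp (hg.trans (pow_one p).symm))
  have h3 := h _ ((pcore_pi {p} C[g]).pi hπ) t (nrm_le_nrm_pcore _ _ ht) (piElt_compl_two h2 ot)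
  exact Nat.not_even_iff_odd.2 T.order.odd (even_iff_two_dvd.2
    (ot ▸ orderOf_dvd_card' (cen_le_cen1 gp h3)))

theorem Hmg.sz_even {F : Type*} [Field F] (S : H13.SzData G F) (h : Hmg π G) (h2 : 2 ∈ π)
    (he : EPi π G) : PiGrp π (⊤ : Subgroup G) := by
  have pU : PGrp 2 S.U := pGrp_of_isPGroup Nat.prime_two S.isPGroup_U
  have pH : PiGrp π S.H := by
    refine piGrp_iff_forall.2 fun y hy => ?_
    have h1 : constt πᶜ y ∈ S.H := constt_mem _ hy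
    have h3 := h _ (pU.pi h2) _ (by rw [S.normalizer_U]; exact S.H_le_stabilizer h1)
      (piElt_constt _ _)
    have h4 := S.centralizer_le_UAt (S.UAt_inf.ge (S.u_mem_U 0 1)) S.u_one_ne_one
      (cen_le_cen1 (S.u_mem_U 0 1) h3)
    rw [S.UAt_inf] at h4
    have := (piElt_constt πᶜ y).eq_one_of_mem' (pU.pi h2) h4
    rwa [constt_eq_one_iff, compl_compl] at this
  have pN : PiGrp π N(S.H) := fun p hp hd => by
    rw [S.card_normalizer_H, ← S.card_H] at hd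
    rcases hp.dvd_mul.1 hd with e | e
    · rwa [(Nat.prime_dvd_prime_iff_eq hp Nat.prime_two).1 e]
    · exact pH p hp e
  obtain ⟨Q, q1, q2⟩ := he _ pN
  obtain ⟨P, hP⟩ := exists_syl 2 Q
  obtain ⟨T, hT⟩ := (syl_top_iff Nat.prime_two).1 (q1.subHall_syl h2 hP)
  obtain ⟨k, hk⟩ := S.exists_conj_U_eq_sylow T
  rw [hT, S.conj_U_eq_map] at hk
  have h3 : ∃ g ∈ Q, g • k • S.inf ≠ k • S.inf := by
    by_contra hc
    push Not at hc
    obtain ⟨l, hl⟩ := S.exists_h_ne_one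
    have hw := hc S.w (q2 (S.mem_normalizer_H.2 (Or.inr ⟨1, by rw [map_one, one_mul]⟩)))
    rcases S.fix_of_mem_H (S.h_mem_H l) hl (hc _ (q2 (le_nrm _ (S.h_mem_H l)))) with e | e
    · rw [e, S.w_smul_inf] at hw; exact S.pt_ne_inf 0 0 hw
    · rw [e, S.w_smul_zero] at hw; exact S.pt_ne_inf 0 0 hw.symm
  obtain ⟨g, hg, h3⟩ := h3
  have h4 : cj k⁻¹ Q = ⊤ := S.eq_top_of_U_le (cj_le_iff.1 (hk.le.trans hP.le))
    (g := k⁻¹ * g * k) (by rw [mem_cj]; simpa [mul_assoc] using hg)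
    (by rw [mul_smul, mul_smul, Ne, inv_smul_eq_iff]; exact h3)
  rw [← cj_eq_top.1 h4]; exact q1.pi

/-- simple non-abelian `3'`-groups are Suzuki groups. -/
def ThreeSz : Prop := ∀ (G : Type u) [Group G] [Finite G] [IsSimpleGroup G],
  ¬ IsMulCommutative G → ¬ 3 ∣ Nat.card G → Lie.IsoSuzuki G

theorem pcl_three_odd (h3 : ThreeSz.{u}) (h2 : 2 ∉ π) (G : Type u) [Group G] [Finite G]
    (hG : ¬ 3 ∣ Nat.card G) (h : Hmg π G) : PCl π (⊤ : Subgroup G) := by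
  refine pcl_ind_simple (fun G _ _ => ¬ 3 ∣ Nat.card G)
    (fun G _ _ N _ a _ b => a (b.trans (card_quotient_dvd_card N)))
    (fun G _ _ N _ a b => a (b.trans (card_subgroup_dvd_card N))) (fun G _ _ _ a b c _ => ?_) G hG h
  obtain ⟨F, _, ⟨S⟩⟩ := H13.exists_szData_of_isoSuzuki (h3 G a b)
  exact pcl_of_pi' (c.sz_odd S h2)

theorem pcl_three_epi (h3 : ThreeSz.{u}) (G : Type u) [Group G] [Finite G]
    (hG : ¬ 3 ∣ Nat.card G) (he : EPi π G) (h : Hmg π G) : PCl π (⊤ : Subgroup G) := by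
  by_cases h2 : 2 ∈ π
  swap
  · exact pcl_three_odd h3 h2 G hG h
  refine pcl_ind_simple (fun G _ _ => ¬ 3 ∣ Nat.card G ∧ EPi π G)
    (fun G _ _ N _ a b => ⟨fun c => a.1 (c.trans (card_quotient_dvd_card N)), a.2.quo b⟩)
    (fun G _ _ N n a => ⟨fun b => a.1 (b.trans (card_subgroup_dvd_card N)), a.2.nml n⟩)
    (fun G _ _ _ a b c _ => ?_) G ⟨hG, he⟩ h
  obtain ⟨F, _, ⟨S⟩⟩ := H13.exists_szData_of_isoSuzuki (h3 G a b.1)
  exact pcl_of_pi (c.sz_even S h2 b.2)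

theorem pcl_of_proper (G : Type u) [Group G] [Finite G] (he : EPi π G) (hc : CPi π G)
    (hM : ∀ M : Subgroup G, M ≠ ⊤ → PCl π M) (h : Hmg π G) : PCl π (⊤ : Subgroup G) := by
  refine pcl_ind (fun G _ _ => EPi π G ∧ CPi π G ∧ ∀ M : Subgroup G, M ≠ ⊤ → PCl π M)
    (fun G _ _ N _ a b => ⟨a.1.quo b, a.2.1.quo a.1 b, fun M hM => ?_⟩)
    (fun G _ _ a b c _ => pcl_of_dpi a.1 a.2.1 b fun p hp T t1 t2 =>
      a.2.2 _ (c.nrm_ne (t1.pi hp) t2)) G ⟨he, hc, hM⟩ h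
  rw [← H1.map_comap_mk N M]
  refine (a.2.2 _ fun e => hM ?_).map _
  rw [← H1.map_comap_mk N M, e, map_top_of_surjective _ (QuotientGroup.mk'_surjective N)]

end Cfsg.Agent.H27
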