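import Mathlib
import Cfsg.Agent.H27.HomogSz
import Cfsg.Agent.JR.Loc

/-! π-homogeneous groups `PSL₂(q)`. -/

set_option autoImplicit false

namespace Cfsg.Agent.H27

open Subgroup Cfsg.Agent.FT Cfsg.Agent.GW H10 MulAction
open scoped MatrixGroups

variable {π : Set ℕ} {G : Type*} [Group G] [Finite G]

theorem Hmg.amb {M : Subgroup G} (h : Hmg π M) {H : Subgroup G} (hH : PiGrp π H) (hle : H ≤ M)
    {y : G} (hy : y ∈ M) (hn : y ∈ N(H)) (hp : PiElt πᶜ y) : y ∈ C(H) := by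
  have := h (H.subgroupOf M) (fun p hp hd => hH p hp (by rwa [card_so hle] at hd)) ⟨y, hy⟩
    (mem_nrm.2 fun x hx => conj_mem (H := H) hn hx) ((piElt_of_inj M.subtype_injective).1 hp)
  exact mem_cen.2 fun x hx => congrArg Subtype.val (mem_cen.1 this ⟨x, hle hx⟩ hx)

/-- a nontrivial π-element of odd order inverted by an element of order at most two -/
def OddInv (π : Set ℕ) (G : Type*) [Group G] : Prop :=
  ∃ y s : G, y ≠ 1 ∧ PiElt π y ∧ Odd (orderOf y) ∧ s * s = 1 ∧ s * y * s⁻¹ = y⁻¹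

omit [Finite G] in
theorem OddInv.map {G' : Type*} [Group G'] (h : OddInv π G') {f : G' →* G}
    (hf : Function.Injective f) : OddInv π G := by
  obtain ⟨y, s, h1, h2, h3, h4, h5⟩ := h
  exact ⟨f y, f s, fun e => h1 (hf (e.trans f.map_one.symm)), (piElt_of_inj hf).2 h2,
    by rwa [orderOf_injective f hf], by rw [← map_mul, h4, map_one],
    by rw [← map_inv, ← map_mul, ← map_mul, h5, map_inv]⟩

omit [Finite G] in
theorem eq_one_of_odd_inv {y : G} (h : Odd (orderOf y)) (e : y = y⁻¹) : y = 1 := by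
  have : orderOf y ∣ 2 := orderOf_dvd_of_pow_eq_one (by rw [sq]; nth_rw 1 [e]; exact inv_mul_cancel y)
  rcases (Nat.dvd_prime Nat.prime_two).1 this with e | e
  · exact orderOf_eq_one_iff.1 e
  · rw [e] at h; exact absurd h (by decide)

theorem Hmg.not_oddInv (h : Hmg π G) (h2 : 2 ∉ π) : ¬ OddInv π G := by
  rintro ⟨y, s, h1, h3, h4, h5, h6⟩
  have : s ∈ C(⟪y⟫) := h _ h3.zpowers s (mem_nrm.2 fun x ⟨n, hn⟩ => by
      rw [← hn, ← conj_zpow, h6]; exact zpow_mem (inv_mem (mem_zpowers y)) n)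
    fun p hp hd hπ => h2 (by
      rwa [← (Nat.prime_dvd_prime_iff_eq hp Nat.prime_two).1
        (hd.trans (orderOf_dvd_of_pow_eq_one ((sq s).trans h5)))])
  refine h1 (eq_one_of_odd_inv h4 ?_)
  rw [← h6, ← mem_cen.1 this y (mem_zpowers y), mul_inv_cancel_right]

section psl
variable {F : Type*} [Field F] [Finite F] {p : ℕ} [hp : Fact p.Prime] [CharP F p]

theorem psl_real {y : PGL(2, F)} (h : y ^ p ≠ 1) :
    ∃ s ∈ pslSub F, s * s = 1 ∧ s * y * s⁻¹ = y⁻¹ := by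
  obtain ⟨z, z', e, he, hy⟩ := JR.psl_two h
  obtain ⟨s, hs, h1, h2⟩ := he.exists_swap
  exact ⟨s, hs, (lineAct_pgl F p).swap_mul_self he.1 h1 h2,
    (lineAct_pgl F p).swap_inverts he.1 h1 h2 hy.1 hy.2⟩

theorem psl_oddInv (h : Hmg π (pslSub F)) (h4 : 4 ≤ Nat.card F) {r : ℕ} (hr : r.Prime) (h2 : r ≠ 2)
    (hπ : r ∈ π) (hd : r ∣ #(pslSub F)) (hq : 2 ∉ π ∨ (p = r → Nat.card F % 4 = 3)) :
    OddInv π (pslSub F) := by
  have key : ∀ y ∈ pslSub F, y ^ p ≠ 1 → PiElt π y → Odd (orderOf y) → OddInv π (pslSub F) := by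
    intro y hy h1 h3 h5
    obtain ⟨s, hs, s1, s2⟩ := psl_real h1
    exact ⟨⟨y, hy⟩, ⟨s, hs⟩, fun e => h1 (by rw [show y = 1 from congrArg Subtype.val e, one_pow]),
      (piElt_of_inj (pslSub F).subtype_injective).1 h3, by rwa [← orderOf_coe], Subtype.ext s1,
      Subtype.ext s2⟩
  by_cases e : p = r
  swap
  · obtain ⟨y, hy, oy⟩ := exists_elt_of_prime_dvd hr hd
    refine key y hy (fun e' => e ?_) ((piElt_of_orderOf_prime hr oy).2 hπ) (oy ▸ hr.odd_of_ne_two h2)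
    exact ((Nat.prime_dvd_prime_iff_eq hr hp.1).1 (oy ▸ orderOf_dvd_of_pow_eq_one e')).symm
  subst e
  classical
  haveI := Fintype.ofFinite F
  obtain ⟨b, hb⟩ : ∃ b : Fˣ, b ^ 2 ≠ 1 := by
    by_contra hc
    push Not at hc
    have := (IsCyclic.card_pow_eq_one_le (α := Fˣ) (n := 2) (by norm_num))
    rw [Finset.filter_true_of_mem fun b _ => hc b, Finset.card_univ, Fintype.card_units,
      ← Nat.card_eq_fintype_card] at this
    omega
  have hU : PGrp p ((lineAct_pgl F p).U (rat (inf F))) :=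
    pGrp_of_isPGroup hr ((lineAct_pgl F p).isPGroup_U _)
  have hy : aff (b ^ 2) 0 ∈ pslSub F := (aff_mem_pslSub_iff _ _).2 ⟨b, by simp [sq]⟩
  have hc : ∀ a : Fˣ, aff a 0 ∈ C((lineAct_pgl F p).U (rat (inf F))) → a = 1 := fun a ha => by
    have := mem_cen.1 ha (aff 1 1) (mem_U_inf_iff.2 ⟨1, rfl⟩)
    rw [aff_mul, aff_mul] at this
    exact Units.ext (by simpa using (aff_inj this).2.symm)
  have hn : aff (b ^ 2) 0 ∈ N((lineAct_pgl F p).U (rat (inf F))) := mem_nrm.2 fun x hx => by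
    have := (lineAct_pgl F p).conj_mem_U hx (aff (b ^ 2) 0)
    rwa [smul_rat_eq_iff.2 (aff_smul_inf _ _)] at this
  have h5 : PiElt π (aff (b ^ 2) (0 : F)) := by
    have h6 := h.amb (hU.pi hπ) (U_le_pslSub _) (constt_mem πᶜ hy) (constt_mem πᶜ hn)
      (piElt_constt _ _)
    obtain ⟨n, hn⟩ := (Submonoid.mem_powers_iff _ _).1 (mem_powers_iff_mem_zpowers.2
      (constt_mem πᶜ (mem_zpowers (aff (b ^ 2) (0 : F)))))
    rw [← hn, aff_zero_pow] at h6
    rw [aff_zero_pow, hc _ h6, aff_one] at hn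
    have := constt_eq_one_iff.1 hn.symm
    rwa [compl_compl] at this
  refine key _ hy (fun e => hb (aff_eq_of_pow_expChar e)) h5 ?_
  rcases hq with hq | hq
  · exact Nat.not_even_iff_odd.1 fun e => hq (h5 2 Nat.prime_two e.two_dvd)
  · have h7 := hq rfl
    refine Odd.of_dvd_nat (n := (Nat.card F - 1) / 2) (Nat.odd_iff.2 (by omega))
      (orderOf_dvd_of_pow_eq_one ?_)
    rw [aff_zero_pow, ← pow_mul, show 2 * ((Nat.card F - 1) / 2) = Nat.card Fˣ by
      rw [Nat.card_units]; omega, pow_card_eq_one', aff_one]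

omit hp in
theorem psl_three (h : Hmg π (pslSub F)) (h2 : 2 ∈ π) (hq : Nat.card F % 8 = 3 ∨ Nat.card F % 8 = 5) :
    3 ∈ π ∧ 3 ∣ #(pslSub F) := by
  obtain ⟨u, v, x, k⟩ := (JR.psl_l2 hq).exists_kl
  refine ⟨?_, k.ox ▸ orderOf_dvd_card' k.xL⟩
  by_contra h3
  refine k.ncen (h.amb (fun q hq hd => ?_) k.le k.xL k.nrm
    ((piElt_of_orderOf_prime Nat.prime_three k.ox).2 h3))
  rw [k.p.isKleinFour.card_four] at hd
  rwa [(Nat.prime_dvd_prime_iff_eq hq Nat.prime_two).1 (hq.dvd_of_dvd_pow (n := 2) hd)]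

end psl

theorem Hmg.psl_odd (h : Hmg π G) (h2 : 2 ∉ π) {F : Type*} [Field F] [Finite F]
    (h4 : 4 ≤ Nat.card F) (e : G ≃* pslSub F) : PiGrp πᶜ (⊤ : Subgroup G) := by
  intro r hr hd hπ
  obtain ⟨p, hp⟩ := CharP.exists F
  haveI : Fact p.Prime := ⟨CharP.char_is_prime F p⟩
  have h' := h.of_inj (f := e.symm.toMonoidHom) e.symm.injective
  exact h'.not_oddInv h2 (psl_oddInv (p := p) h' h4 hr (fun e => h2 (e ▸ hπ)) hπ
    (by rwa [card_top, Nat.card_congr e.toEquiv] at hd) (Or.inl h2))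

theorem Hmg.psl_even (h : Hmg π G) (h2 : 2 ∈ π) {F : Type*} [Field F] [Finite F]
    (h4 : 4 ≤ Nat.card F) (hq : Nat.card F % 8 = 3 ∨ Nat.card F % 8 = 5) (e : G ≃* pslSub F) :
    OddInv π G := by
  obtain ⟨p, hp⟩ := CharP.exists F
  haveI : Fact p.Prime := ⟨CharP.char_is_prime F p⟩
  have h' := h.of_inj (f := e.symm.toMonoidHom) e.symm.injective
  obtain ⟨a, b⟩ := psl_three h' h2 hq
  refine (psl_oddInv (p := p) h' h4 Nat.prime_three (by norm_num) a b (Or.inr fun e => ?_)).map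
    (f := e.symm.toMonoidHom) e.symm.injective
  subst e
  haveI := Fintype.ofFinite F
  obtain ⟨n, -, hn⟩ := FiniteField.card F 3
  rw [← Nat.card_eq_fintype_card] at hn
  have : ∀ n : ℕ, 3 ^ n % 8 = 1 ∨ 3 ^ n % 8 = 3 := fun n => by
    induction n with
    | zero => simp
    | succ k ih => rw [pow_succ]; omega
  have := this n
  omega

end Cfsg.Agent.H27
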