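import Mathlib
import Cfsg.Agent.H27.HomogL2
import Cfsg.Agent.GO.Fs
import Cfsg.Agent.H5.GF8

/-! π-homogeneous groups all of whose π-subgroups are `2`-closed. -/

set_option autoImplicit false

namespace Cfsg.Agent.H27

open Cfsg Subgroup Cfsg.Agent.FT Cfsg.Agent.GW Cfsg.Agent.GO

universe u

/-- every π-subgroup is `2`-closed -/
def TwoCl (π : Set ℕ) (G : Type*) [Group G] : Prop :=
  ∀ H : Subgroup G, PiGrp π H → ∃ P, Syl 2 P H ∧ P ⊴ H

variable {π : Set ℕ} {G : Type*} [Group G] [Finite G] {G' : Type*} [Group G'] [Finite G']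

theorem nml_map {K M : Subgroup G} (h : K ⊴ M) (f : G →* G') : K.map f ⊴ M.map f :=
  ⟨map_mono h.le, (map_mono h.nrm).trans (le_normalizer_map f)⟩

theorem TwoCl.sub (h : TwoCl π G) (M : Subgroup G) : TwoCl π M := by
  intro H hH
  obtain ⟨P, h1, h2⟩ := h _ (hH.map M.subtype)
  obtain ⟨Q, hQ⟩ := exists_syl 2 H
  have e : Q.map M.subtype = P := h1.uniq_of_nml h2.nrm (hQ.map _)
  refine ⟨Q, hQ, hQ.le, le_nrm_iff.2 fun g hg x hx => ?_⟩
  obtain ⟨y, hy, e'⟩ := e.ge (h2.conj_mem ⟨g, hg, rfl⟩ (e.le ⟨x, hx, rfl⟩))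
  rwa [← show y = g * x * g⁻¹ from Subtype.ext e']

theorem TwoCl.quo (h : TwoCl π G) {N : Subgroup G} [N.Normal] (hN : PiGrp π N ∨ PiGrp πᶜ N) :
    TwoCl π (G ⧸ N) := by
  intro H hH
  obtain ⟨K, k1, rfl⟩ := exists_lift_pi hN hH
  obtain ⟨P, h1, h2⟩ := h K k1
  exact ⟨_, h1.map _, nml_map h2 _⟩

theorem TwoCl.not_oddInv (h : TwoCl π G) (h2 : 2 ∈ π) : ¬ OddInv π G := by
  rintro ⟨y, s, h1, h3, h4, h5, h6⟩
  have ps : PiElt {2} s := fun p hp hd =>
    (Nat.prime_dvd_prime_iff_eq hp Nat.prime_two).1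
      (hd.trans (orderOf_dvd_of_pow_eq_one ((sq s).trans h5)))
  have hn : s ∈ N(⟪y⟫) := mem_nrm.2 fun x ⟨n, hn⟩ => by
    rw [← hn, ← conj_zpow, h6]; exact zpow_mem (inv_mem (mem_zpowers y)) n
  obtain ⟨P, p1, p2⟩ := h _ (h3.zpowers.sup (ps.pi h2).zpowers (zpowers_le.2 hn))
  have sP := p1.mem_of_nml p2.nrm (mem_sup_right (mem_zpowers s)) ps
  have := mul_mem (p2.conj_mem (mem_sup_left (mem_zpowers y)) sP) (inv_mem sP)
  rw [show y * s * y⁻¹ * s⁻¹ = y * (s * y * s⁻¹)⁻¹ by group, h6, inv_inv] at this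
  have o : PiElt {2}ᶜ y := (p'elt_iff_coprime Nat.prime_two).2 (Nat.coprime_two_right.2 h4)
  exact h1 (eq_one_of_odd_inv h4 (eq_inv_of_mul_eq_one_left
    ((o.mul o rfl).eq_one_of_mem' p1.pi this)))

theorem sol_p' {H : Subgroup G} (h : PiGrp {2}ᶜ H) : Sol H :=
  sol_odd (Nat.not_even_iff_odd.1 fun e => h 2 Nat.prime_two e.two_dvd rfl)

theorem s4_odd : ∀ x : Equiv.Perm (Fin 4), x ≠ 1 → x * x = 1 ∨ x * x * (x * x) = 1 ∨
    ∃ g : Equiv.Perm (Fin 4), x * (g * x * g⁻¹) ≠ 1 ∧ x * (g * x * g⁻¹) * (x * (g * x * g⁻¹)) = 1 := by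
  decide +kernel

theorem TwoCl.two_len (h : TwoCl π G) (h2 : 2 ∈ π) (hc : PCl π (⊤ : Subgroup G)) :
    Group.IsSolvable G ∧ ∀ f : G →* Equiv.Perm (Fin 4), ¬ Function.Surjective f := by
  obtain ⟨K, k1, k2⟩ := hc
  obtain ⟨H, h1, s⟩ := k1.exists_compl k2.nrm
  rw [compl_compl] at h1
  obtain ⟨P, p1, p2⟩ := h H h1.pi
  obtain ⟨R, r1, r2⟩ := p1.exists_compl p2.nrm
  have oK : PiGrp {2}ᶜ K := k1.pi.p'_of_mem h2
  refine ⟨FT.sol_top.1 (s.sol (sol_p' oK) (r2.sol p1.pi.sol (sol_p' r1.pi))),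
    fun f hf => ?_⟩
  have e := map_top_of_surjective f hf
  have n1 := e ▸ nml_map k2 f
  have o1 := oK.map f
  have k0 : K.map f = ⊥ := by
    have two : ∀ x ∈ K.map f, x * x = 1 → x = 1 := fun x hx e =>
      (o1.piElt hx).eq_one fun p hp hd => by
        simpa using (Nat.prime_dvd_prime_iff_eq hp Nat.prime_two).1
          (hd.trans (orderOf_dvd_of_pow_eq_one ((sq x).trans e)))
    refine eq_bot_iff.2 fun x hx => by_contra fun h1 => ?_
    rcases s4_odd x h1 with e | e | ⟨g, e1, e2⟩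
    · exact h1 (two x hx e)
    · exact h1 (two x hx (two _ (mul_mem hx hx) e))
    · exact e1 (two _ (mul_mem hx (n1.conj_mem trivial hx)) e2)
  have e2 : H.map f = ⊤ := by rw [← e, ← s.sup, Subgroup.map_sup, k0, bot_sup_eq]
  have q1 : Syl 2 _ _ := e2 ▸ p1.map f
  have q2 := e2 ▸ nml_map p2 f
  have sw : ∀ a b : Fin 4, Equiv.swap a b ∈ P.map f := fun a b =>
    q1.mem_of_nml q2.nrm trivial fun p hp hd => (Nat.prime_dvd_prime_iff_eq hp Nat.prime_two).1
      (hd.trans (orderOf_dvd_of_pow_eq_one ((sq _).trans (Equiv.swap_mul_self a b))))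
  have := q1.pi.piElt (mul_mem (sw 0 1) (sw 1 2)) 3 Nat.prime_three
    (by rw [orderOf_eq_prime (p := 3) (by decide) (by decide)])
  exact absurd this (by decide)

theorem pcl_twoCl (h2 : 2 ∈ π) (G : Type u) [Group G] [Finite G] (hG : TwoCl π G) (h : Hmg π G) :
    PCl π (⊤ : Subgroup G) := by
  refine pcl_ind_simple (fun G _ _ => TwoCl π G) (fun G _ _ N _ a b => a.quo b)
    (fun G _ _ N _ a => a.sub N) (fun G _ _ _ nab a b ih => ?_) G hG h
  exfalso
  have key : ∀ M : Subgroup G, M ≠ ⊤ →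
      Group.IsSolvable M ∧ ∀ f : M →* Equiv.Perm (Fin 4), ¬ Function.Surjective f := fun M hM =>
    (a.sub M).two_len h2 (pcl_iff.2 (ih M hM (a.sub M)))
  obtain ⟨S⟩ : Nonempty (Sylow 2 G) := inferInstance
  have hS := syl_top Nat.prime_two S
  obtain ⟨a1, a2, a3, -⟩ := H5c.sc_main (G := G) (fun K R _ hc => by
    by_cases hK : K = ⊤
    · subst hK
      haveI : IsSimpleGroup (⊤ : Subgroup G) := topEquiv.isSimpleGroup
      have n : (pCore 2 ((⊤ : Subgroup G) ⧸ R.subgroupOf ⊤)).Normal := @normal_of_characteristic _ _ _ H2.pCore_characteristic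
      have e : pCore 2 ((⊤ : Subgroup G) ⧸ R.subgroupOf ⊤) = ⊤ := by
        rw [← H1.map_comap_mk (R.subgroupOf ⊤) (pCore 2 _)] at hc ⊢
        rcases (n.comap (QuotientGroup.mk' _)).eq_bot_or_eq_top with e | e <;> rw [e] at hc ⊢
        · rw [Subgroup.map_bot, cen_bot] at hc
          rw [Subgroup.map_bot]
          exact top_le_iff.1 hc
        · exact map_top_of_surjective _ (QuotientGroup.mk'_surjective _)
      have p : PGrp 2 (⊤ : Subgroup ((⊤ : Subgroup G) ⧸ R.subgroupOf ⊤)) :=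
        e ▸ pGrp_of_isPGroup Nat.prime_two H2.pCore_isPGroup
      refine ⟨fun i => ?_, H5c.kg_of_sol (FT.sol_top.1 p.sol)⟩
      obtain ⟨L, f, hf⟩ := H18.involves_iff.1 i
      have := card_dvd_of_surjective f hf
      rw [Nat.card_perm, Nat.card_fin] at this
      exact absurd (p.mono (le_top : L ≤ ⊤) 3 Nat.prime_three ((by decide : 3 ∣ (4).factorial).trans this))
        (by decide)
    · haveI := (key K hK).1
      refine ⟨fun i => ?_, H5c.kg_of_sol inferInstance⟩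
      obtain ⟨L, f, hf⟩ := H18.involves_iff.1
        (H18.Involves.trans i (H18.involves_of_surjective _ (QuotientGroup.mk'_surjective _)))
      have e := L.equivMapOfInjective _ K.subtype_injective
      exact (key (L.map K.subtype) fun e => hK (top_le_iff.1 (e.ge.trans (map_subtype_le L)))).2
        (f.comp e.symm.toMonoidHom) (hf.comp e.symm.surjective)) S rfl
  refine a.not_oddInv h2 ?_
  rcases gs_simple fs nab hS a2.ab a3 (ne_bot_of_le (le_orbs _ _)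
    (hS.pi.Ohm_center_ne_bot (syl_ne nab hS))) with c | c | c
  · obtain ⟨Z, R, fr⟩ := c.top.frame hS
    obtain ⟨k, hk, s, -, k1, k2, s1, s2, -⟩ := c.top.gen (as_top nab) fr
    refine ⟨k, s, k1, ?_, k2, s1.sq, s2⟩
    have := c.top.cenT (as_top nab) fr
      ⟨trivial, b _ (hS.pi.pi h2) _ (constt_mem πᶜ hk.2) (piElt_constt _ _)⟩
    have := constt_eq_one_iff.1 ((piElt_constt πᶜ k).eq_one_of_mem' ((hS.pi.pi h2).mono fr.ZT) this)
    rwa [compl_compl] at this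
  · obtain ⟨F, _, _, ⟨h1, h3⟩, ⟨e⟩⟩ := c.psl
    rw [← Nat.card_eq_fintype_card] at h1 h3
    exact b.psl_even h2 (by omega) h1 (e.trans (H10.pslEquiv F))
  · obtain ⟨t, -, ht⟩ := hS.pi.exists_elt (syl_ne nab hS)
    obtain ⟨-, L, l1, l2, -⟩ := c.loc t ht
    have hL : L ≠ ⊤ := fun e => nsol_top nab (by
      have n : ⟪t⟫ ⊴ ⊤ := ⟨le_top, norms_zpowers_of_cen1 (e.ge.trans l1.le)⟩
      rcases (nml_top_iff.1 n).eq_bot_or_eq_top with e' | e'
      · exact absurd (zpowers_eq_bot.1 e') (Invo.ne ht)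
      · exact e' ▸ sol_zpowers t)
    haveI : IsSimpleGroup L := l2.elim (·.simple) (·.simple)
    exact (H5c.not_sol_of_simple (l2.elim (·.nab) (·.nab)) (key L hL).1).elim

end Cfsg.Agent.H27
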