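import Mathlib

/-! Products of two regular unipotent matrices (Lev), part 1: the choice of the pivot. -/

set_option autoImplicit false
set_option linter.unusedSectionVars false
set_option linter.unusedVariables false

namespace Cfsg.Agent.H27.Lev

open Module LinearMap Submodule

universe u v

variable {K : Type u} [Field K] {V : Type v} [AddCommGroup V] [Module K V] [FiniteDimensional K V]
  {A : End K V} {c x : V} {r φ : Dual K V}

def Big (K : Type u) : Prop := ∀ a b c : K, ∃ t, t ≠ a ∧ t ≠ b ∧ t ≠ c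

theorem uniq (P : K → Prop) (h : ∀ s t, P s → P t → s = t) : ∃ s, ∀ t, t ≠ s → ¬ P t := by
  by_cases e : ∃ s, P s
  · obtain ⟨s, hs⟩ := e
    exact ⟨s, fun t ht h' => ht (h t s h' hs)⟩
  · exact ⟨0, fun t _ h' => e ⟨t, h'⟩⟩

theorem av_step (h4 : Big K) (Z : Submodule K V) (φ : Dual K V) {v v₁ v₂ : V} {a a₁ a₂ : K} (h : v ∉ Z ∨ φ v ≠ a)
    (h1 : φ v₁ ≠ a₁) (h2 : φ v₂ ≠ a₂) : ∃ ψ : Dual K V, (∀ z ∈ Z, ψ z = φ z) ∧ ψ v ≠ a ∧ ψ v₁ ≠ a₁ ∧ ψ v₂ ≠ a₂ := by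
  by_cases e : φ v = a
  swap
  · exact ⟨φ, fun _ _ => rfl, e, h1, h2⟩
  obtain ⟨f, hf, hZ⟩ := Z.exists_dual_map_eq_bot_of_notMem (h.resolve_right (not_not.2 e)) inferInstance
  have k : ∀ w b, φ w ≠ b → ∃ s, ∀ t, t ≠ s → ¬ φ w + t * f w = b := fun w b hb => uniq _ fun s t hs ht => by
    by_contra hst
    have : f w = 0 := by
      have : (s - t) * f w = 0 := by linear_combination hs - ht
      exact (mul_eq_zero.1 this).resolve_left (sub_ne_zero.2 hst)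
    exact hb (by simpa [this] using hs)
  obtain ⟨s1, k1⟩ := k _ _ h1
  obtain ⟨s2, k2⟩ := k _ _ h2
  obtain ⟨t, t0, t1, t2⟩ := h4 0 s1 s2
  refine ⟨φ + t • f, fun z hz => ?_, ?_, k1 t t1, k2 t t2⟩
  · have : f z = 0 := (Submodule.mem_bot K).1 (hZ ▸ mem_map_of_mem hz)
    simp [this]
  · simp [e, t0, hf]

theorem av (h4 : Big K) (Z : Submodule K V) (φ : Dual K V) {v₁ v₂ v₃ : V} {a₁ a₂ a₃ : K} (h1 : v₁ ∉ Z ∨ φ v₁ ≠ a₁)
    (h2 : v₂ ∉ Z ∨ φ v₂ ≠ a₂) (h3 : v₃ ∉ Z ∨ φ v₃ ≠ a₃) :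
    ∃ ψ : Dual K V, (∀ z ∈ Z, ψ z = φ z) ∧ ψ v₁ ≠ a₁ ∧ ψ v₂ ≠ a₂ ∧ ψ v₃ ≠ a₃ := by
  have k : ∀ {ψ : Dual K V} {v a}, (∀ z ∈ Z, ψ z = φ z) → (v ∉ Z ∨ φ v ≠ a) → v ∉ Z ∨ ψ v ≠ a := fun {ψ v a} h h' => by
    by_cases e : v ∈ Z
    · rw [h v e]; exact h'
    · exact Or.inl e
  obtain ⟨ψ1, a1, b1, -, -⟩ := av_step h4 Z φ h1 (v₁ := 0) (a₁ := 1) (v₂ := 0) (a₂ := 1) (by simp) (by simp)
  obtain ⟨ψ2, a2, b2, c2, -⟩ := av_step h4 Z ψ1 (k a1 h2) b1 b1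
  obtain ⟨ψ3, a3, b3, c3, d3⟩ := av_step h4 Z ψ2 (k (fun z hz => (a2 z hz).trans (a1 z hz)) h3) c2 b2
  exact ⟨ψ3, fun z hz => (a3 z hz).trans ((a2 z hz).trans (a1 z hz)), c3, d3, b3⟩

theorem one_t {U : Submodule K V} (hx : x ∉ U) (w : V) : ∃ s : K, ∀ t, t ≠ s → x + t • w ∉ U :=
  uniq _ fun s t hs ht => by
    by_contra hst
    have h1 : (s - t) • w ∈ U := by simpa [sub_smul] using U.sub_mem hs ht
    exact hx (by simpa using U.sub_mem hs (U.smul_mem s ((U.smul_mem_iff (sub_ne_zero.2 hst)).1 h1)))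

theorem sub_step (h4 : Big K) {U U₁ U₂ : Submodule K V} (h : U ≠ ⊤) (h1 : x ∉ U₁) (h2 : x ∉ U₂) :
    ∃ y, y ∉ U ∧ y ∉ U₁ ∧ y ∉ U₂ := by
  by_cases e : x ∈ U
  swap
  · exact ⟨x, e, h1, h2⟩
  obtain ⟨w, hw⟩ : ∃ w, w ∉ U := by simpa [eq_top_iff'] using h
  obtain ⟨s1, k1⟩ := one_t h1 w
  obtain ⟨s2, k2⟩ := one_t h2 w
  obtain ⟨t, t0, t1, t2⟩ := h4 0 s1 s2
  exact ⟨x + t • w, fun h' => hw ((U.smul_mem_iff t0).1 ((U.add_mem_iff_right e).1 h')), k1 t t1, k2 t t2⟩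

theorem sub3 (h4 : Big K) {U₁ U₂ U₃ : Submodule K V} (h1 : U₁ ≠ ⊤) (h2 : U₂ ≠ ⊤) (h3 : U₃ ≠ ⊤) :
    ∃ y, y ∉ U₁ ∧ y ∉ U₂ ∧ y ∉ U₃ := by
  obtain ⟨w, hw⟩ : ∃ w, w ∉ U₃ := by simpa [eq_top_iff'] using h3
  obtain ⟨y, a, b, -⟩ := sub_step h4 h2 hw hw
  exact sub_step h4 h1 a b

theorem rk (nt : ∀ w z, A ≠ transvection w z) (z : V) : ∃ v, A v - v ∉ K ∙ z := by
  by_contra h
  simp only [not_exists, not_not] at h
  simp only [mem_span_singleton] at h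
  by_cases hz : z = 0
  · refine nt 0 0 (LinearMap.ext fun v => ?_)
    obtain ⟨t, ht⟩ := h v
    rw [hz, smul_zero, eq_comm, sub_eq_zero] at ht
    simp [ht]
  obtain ⟨f, hf⟩ := Projective.exists_dual_eq_one K hz
  refine nt (f ∘ₗ (A - 1)) z (LinearMap.ext fun v => ?_)
  obtain ⟨t, ht⟩ := h v
  rw [transvection.apply, LinearMap.comp_apply, LinearMap.sub_apply, End.one_apply, ← ht, map_smul, hf, smul_eq_mul,
    mul_one, ht, add_sub_cancel]

theorem exists_noneig (ns : ∀ l : K, A ≠ l • 1) : ∃ x, A x ∉ K ∙ x := by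
  by_contra h
  simp only [not_exists, not_not] at h
  obtain ⟨l, hl⟩ := LinearMap.exists_eq_smul_id_of_forall_notLinearIndependent (f := A) fun v hv => by
    obtain ⟨t, ht⟩ := mem_span_singleton.1 (h v)
    simpa using (LinearIndependent.pair_iff.1 hv t (-1) (by simp [ht])).2
  exact ns l hl

theorem exists_x (h4 : Big K) (ns : ∀ l : K, A ≠ l • 1) (nt : ∀ w z, A ≠ transvection w z) (c : V) (hr : r ≠ 0) :
    ∃ x, r x ≠ 0 ∧ A x - x ∉ K ∙ c ∧ A x ∉ K ∙ x ∧ (span K {x, A x} = ⊤ ∨ ∃ v, A v - v ∉ span K {x, A x}) := by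
  have h1 : ker r ≠ ⊤ := fun e => hr (ker_eq_top.1 e)
  have h2 : (K ∙ c).comap (A - 1) ≠ ⊤ := fun e => by
    obtain ⟨v, hv⟩ := rk nt c
    exact hv (e.ge (mem_top : v ∈ ⊤))
  by_cases h3 : range (A - 1) = ⊤
  swap
  · obtain ⟨x, a1, a2, a3⟩ := sub3 h4 h1 h2 h3
    have a4 : A x - x ∈ range (A - 1) := ⟨x, rfl⟩
    refine ⟨x, a1, a2, fun h => ?_, Or.inr ?_⟩
    · obtain ⟨t, ht⟩ := mem_span_singleton.1 h
      have e0 : A x - x = (t - 1) • x := by rw [← ht]; module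
      rw [e0] at a4
      by_cases e : t - 1 = 0
      · exact a2 (show A x - x ∈ K ∙ c by rw [e0, e, zero_smul]; exact zero_mem _)
      · exact a3 ((smul_mem_iff _ e).1 a4)
    · obtain ⟨v, hv⟩ := rk nt (A x - x)
      refine ⟨v, fun h => hv ?_⟩
      obtain ⟨a, b, e⟩ := mem_span_pair.1 h
      have e' : A v - v = (a + b) • x + b • (A x - x) := by rw [← e]; module
      by_cases e0 : a + b = 0
      · rw [e', e0, zero_smul, zero_add]; exact smul_mem _ _ (mem_span_singleton_self _)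
      · have a5 : A v - v ∈ range (A - 1) := ⟨v, rfl⟩
        rw [e', Submodule.add_mem_iff_left _ (smul_mem _ _ a4), smul_mem_iff _ e0] at a5
        exact (a3 a5).elim
  suffices h : ∃ x, r x ≠ 0 ∧ A x - x ∉ K ∙ c ∧ A x ∉ K ∙ x by
    obtain ⟨x, a1, a2, a3⟩ := h
    refine ⟨x, a1, a2, a3, or_iff_not_imp_left.2 fun h => ?_⟩
    obtain ⟨w, hw⟩ : ∃ w, w ∉ span K {x, A x} := by simpa [eq_top_iff'] using h
    obtain ⟨v, rfl⟩ := h3.ge (mem_top : w ∈ ⊤)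
    exact ⟨v, hw⟩
  obtain ⟨w, a1, a2, -⟩ := sub3 h4 h1 h2 h2
  by_cases e : A w ∈ K ∙ w
  swap
  · exact ⟨w, a1, a2, e⟩
  obtain ⟨l, hl⟩ := mem_span_singleton.1 e
  obtain ⟨x, hx⟩ := exists_noneig ns
  replace a1 : r w ≠ 0 := a1
  obtain ⟨u, k, hu, rfl⟩ : ∃ u k, r u = 0 ∧ x = u + k • w :=
    ⟨x - (r x / r w) • w, r x / r w, by simp [a1], by simp⟩
  obtain ⟨s1, k1⟩ := one_t a2 u
  obtain ⟨s2, k2⟩ := uniq (fun t : K => t ≠ 0 ∧ A (w + t • u) ∈ K ∙ (w + t • u)) fun s t ⟨s0, hs⟩ ⟨t0, ht⟩ => by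
    have k : ∀ t : K, A (w + t • u) ∈ K ∙ (w + t • u) → ∃ m : K, t • A u = (m - l) • w + (m * t) • u := fun t ht => by
      obtain ⟨m, hm⟩ := mem_span_singleton.1 ht
      rw [map_add, map_smul, ← hl] at hm
      exact ⟨m, by linear_combination (norm := module) (-1 : K) • hm⟩
    obtain ⟨m, hm⟩ := k s hs
    obtain ⟨m', hm'⟩ := k t ht
    have u0 : u ≠ 0 := by
      rintro rfl
      exact hx (by rw [zero_add, map_smul, ← hl, smul_comm]; exact smul_mem _ _ (mem_span_singleton_self _))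
    have e1 : (t * (m - l) - s * (m' - l)) • w + (s * t * (m - m')) • u = 0 := by
      linear_combination (norm := module) s • hm' - t • hm
    have e2 : t * (m - l) - s * (m' - l) = 0 := by simpa [hu, a1] using congrArg r e1
    rw [e2, zero_smul, zero_add, smul_eq_zero, mul_eq_zero, sub_eq_zero] at e1
    obtain rfl : m = m' := by simpa [s0, t0, u0] using e1
    by_contra hst
    obtain rfl : m = l := by
      have : (t - s) * (m - l) = 0 := by linear_combination e2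
      exact sub_eq_zero.1 ((mul_eq_zero.1 this).resolve_left (sub_ne_zero.2 (Ne.symm hst)))
    have e3 : A u = m • u := smul_right_injective V s0 (by simp only [hm]; module)
    exact hx (mem_span_singleton.2 ⟨m, by rw [map_add, map_smul, ← hl, e3]; module⟩)
  obtain ⟨t, t0, t1, t2⟩ := h4 0 s1 s2
  exact ⟨w + t • u, by simpa [hu] using a1, k1 t t1, fun h => k2 t t2 ⟨t0, h⟩⟩

def Good (A : End K V) : Prop := finrank K V ≤ 1 ∨ ((∀ l : K, A ≠ l • 1) ∧ ∀ w z, A ≠ transvection w z)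

theorem exists_pivot (h4 : Big K) (hA : LinearMap.det A = 1) (ns : ∀ l : K, A ≠ l • 1)
    (nt : ∀ w z, A ≠ transvection w z) (c : V) (hr : r ≠ 0) :
    ∃ (x : V) (φ : Dual K V), φ x = 1 ∧ φ (A x) = 1 ∧ r x ≠ 0 ∧ (c ≠ 0 → φ c ≠ 0) ∧ A x ≠ x ∧
      (∃ h, φ h = 0 ∧ φ (A h) ≠ 0) ∧
      ∀ A' : End K (ker φ), (∀ h, (A' h : V) = A h - φ (A h) • A x) → LinearMap.det A' = 1 → Good A' := by
  obtain ⟨x, x1, x2, x3, x4⟩ := exists_x h4 ns nt c hr
  have hi : Function.Injective A := ((Module.End.isUnit_iff A).1 ((isUnit_iff_isUnit_det A).2 (by simp [hA]))).1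
  set Z := span K {x, A x} with hZ
  have zx : x ∈ Z := subset_span (by simp)
  have zA : A x ∈ Z := subset_span (by simp)
  have zy : A x - x ∈ Z := sub_mem zA zx
  have y0 : A x ≠ x := fun e => x3 (e.symm ▸ mem_span_singleton_self x)
  obtain ⟨φ₀, p1, p2⟩ : ∃ φ₀ : Dual K V, φ₀ x = 1 ∧ φ₀ (A x) = 1 := by
    obtain ⟨f, hf, h⟩ := (K ∙ (A x - x)).exists_dual_map_eq_bot_of_notMem (x := x) (fun h => by
      obtain ⟨t, ht⟩ := mem_span_singleton.1 h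
      by_cases t0 : t = 0
      · exact x1 (by rw [← ht, t0]; simp)
      · exact x3 (mem_span_singleton.2 ⟨1 + t⁻¹, smul_right_injective V t0 (by
          simp only [smul_smul, mul_add, mul_inv_cancel₀ t0]
          linear_combination (norm := module) (-1 : K) • ht)⟩)) inferInstance
    have : f (A x - x) = 0 := (Submodule.mem_bot K).1 (h ▸ mem_map_of_mem (mem_span_singleton_self _))
    rw [map_sub, sub_eq_zero] at this
    exact ⟨(f x)⁻¹ • f, by simp [hf], by simp [this, hf]⟩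
  have F : ∀ φ : Dual K V, φ x = 1 → φ (A x) = 1 → ∀ v ∈ Z, φ v = 0 → v ∈ K ∙ (A x - x) := fun φ q1 q2 v hv h => by
    obtain ⟨a, b, rfl⟩ := mem_span_pair.1 hv
    have : a = -b := by simpa [q1, q2, add_eq_zero_iff_eq_neg] using h
    exact mem_span_singleton.2 ⟨b, by rw [this]; module⟩
  obtain ⟨c', c1, c2⟩ : ∃ c', (c' ∉ Z ∨ φ₀ c' ≠ 0) ∧ (c ≠ 0 → c' = c) := by
    by_cases c0 : c = 0
    · exact ⟨x, Or.inr (by simp [p1]), fun h => (h c0).elim⟩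
    refine ⟨c, or_iff_not_imp_left.2 fun h e => ?_, fun _ => rfl⟩
    obtain ⟨t, ht⟩ := mem_span_singleton.1 (F φ₀ p1 p2 c (not_not.1 h) e)
    have t0 : t ≠ 0 := fun e => c0 (by rw [← ht, e, zero_smul])
    exact x2 (mem_span_singleton.2 ⟨t⁻¹, by rw [← ht, smul_smul, inv_mul_cancel₀ t0, one_smul]⟩)
  have tv : ∀ {φ : Dual K V} {w z} {A' : End K (ker φ)}, LinearMap.det A' = 1 → A' = transvection w z →
      w z = 0 ∧ ∀ h, (A' h : V) - h = w h • z := fun {φ w z A'} h e => by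
    subst e
    exact ⟨by simpa using h, fun h => by simp [transvection.apply]⟩
  by_cases hD : A (A x) ∈ Z
  swap
  · obtain ⟨s, hs⟩ := uniq (fun s : K => ∃ k : K, (A - 1) (A (A x) - (s + 1) • A x + x) = k • A x)
      fun s t ⟨k, hk⟩ ⟨k', hk'⟩ => by
        by_contra hst
        refine hD ((smul_mem_iff _ (sub_ne_zero.2 hst)).1 ?_)
        have : (s - t) • A (A x) = (k' - k + s - t) • A x := by
          simp only [map_add, map_sub, map_smul, LinearMap.sub_apply, End.one_apply] at hk hk'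
          linear_combination (norm := module) hk' - hk
        rw [this]; exact smul_mem _ _ zA
    obtain ⟨φ, q0, q3, q4, q5⟩ := av h4 Z φ₀ c1 (a₂ := 1) (a₃ := s) (Or.inl hD) (Or.inl hD)
    have q1 := (q0 x zx).trans p1
    have q2 := (q0 _ zA).trans p2
    have hy : A x - x ∈ ker φ := by simp [q1, q2]
    refine ⟨x, φ, q1, q2, x1, fun h => c2 h ▸ q3, y0, ⟨_, hy, by simpa [q2, sub_eq_zero] using q4⟩,
      fun A' hA' hd => Or.inr ⟨fun l e => hD ?_, fun w z e => hs _ q5 ?_⟩⟩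
    · have := hA' ⟨_, hy⟩
      rw [e] at this
      simp only [LinearMap.smul_apply, End.one_apply, SetLike.val_smul, map_sub] at this
      rw [show A (A x) = l • (A x - x) + A x + (φ (A (A x)) - φ (A x)) • A x by rw [this]; module]
      exact add_mem (add_mem (smul_mem _ _ zy) zA) (smul_mem _ _ zA)
    · obtain ⟨t1, t2⟩ := tv hd e
      have e1 := t2 ⟨_, hy⟩
      have e2 := t2 (w ⟨_, hy⟩ • z)
      rw [hA', map_smul w, t1, smul_zero, zero_smul, SetLike.val_smul, ← e1, hA'] at e2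
      simp only [map_sub A (A x), map_sub φ (A (A x)), q2] at e2
      refine ⟨_, Eq.trans ?_ (sub_eq_zero.1 (Eq.trans (sub_right_comm _ _ _) e2))⟩
      rw [LinearMap.sub_apply, End.one_apply]
      congr 2 <;> module
  obtain ⟨a, b, hab⟩ := mem_span_pair.1 hD
  have a0 : a ≠ 0 := by
    rintro rfl
    rw [zero_smul, zero_add, ← map_smul] at hab
    exact x3 (mem_span_singleton.2 ⟨b, hi hab⟩)
  obtain ⟨v₀, v1, v2⟩ : ∃ v₀, (A v₀ - v₀ ∉ Z ∨ φ₀ (A v₀ - v₀) ≠ 0) ∧ (Z ≠ ⊤ → A v₀ - v₀ ∉ Z) := by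
    rcases x4 with h | ⟨v, hv⟩
    · obtain ⟨v, hv⟩ := rk nt (A x - x)
      exact ⟨v, Or.inr fun e => hv (F φ₀ p1 p2 _ (h.ge trivial) e), fun h' => (h' h).elim⟩
    · exact ⟨v, Or.inl hv, fun _ => hv⟩
  obtain ⟨v₁, α, w1, w2⟩ : ∃ v₁ α, (a • v₁ ∉ Z ∨ φ₀ (a • v₁) ≠ α) ∧
      ((∃ v ∉ Z, A v + a • v ∈ Z) → ∃ β : K, A v₁ + a • v₁ = α • x + β • A x) := by
    by_cases h : ∃ v ∉ Z, A v + a • v ∈ Z
    · obtain ⟨v, h1, h2⟩ := h
      obtain ⟨α, β, e⟩ := mem_span_pair.1 h2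
      exact ⟨v, α, Or.inl fun h => h1 ((smul_mem_iff _ a0).1 h), fun _ => ⟨β, e.symm⟩⟩
    · exact ⟨0, 1, Or.inr (by simp), fun h' => (h h').elim⟩
  obtain ⟨φ, q0, q3, q4, q5⟩ := av h4 Z φ₀ c1 v1 w1
  have q1 := (q0 x zx).trans p1
  have q2 := (q0 _ zA).trans p2
  have hy : A x - x ∈ ker φ := by simp [q1, q2]
  have pm : ∀ v, v - φ v • x ∈ ker φ := fun v => by simp [q1]
  refine ⟨x, φ, q1, q2, x1, fun h => c2 h ▸ q3, y0, ⟨_, pm v₀, by simpa [q2] using q4⟩, fun A' hA' hd => ?_⟩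
  by_cases hZt : Z = ⊤
  · refine Or.inl ((finrank_le_one_iff).2 ⟨⟨_, hy⟩, fun w => ?_⟩)
    obtain ⟨t, ht⟩ := mem_span_singleton.1 (F φ q1 q2 w (hZt.ge trivial) w.2)
    exact ⟨t, Subtype.ext ht⟩
  have ey : (A' ⟨_, hy⟩ : V) = -a • (A x - x) := by
    rw [hA']; simp only [map_sub, ← hab, map_add, map_smul, q1, q2, smul_eq_mul]; module
  have k0 : (A' ⟨_, pm v₀⟩ : V) - (v₀ - φ v₀ • x) ∉ Z := fun h => v2 hZt (by
    rw [hA'] at h
    convert add_mem (add_mem h (smul_mem _ (φ (A (v₀ - φ v₀ • x))) zA)) (smul_mem _ (φ v₀) zy) using 1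
    simp only [map_sub A, map_smul A]; module)
  have k1 : (∃ v ∉ Z, A v + a • v ∈ Z) → (A' ⟨_, pm v₁⟩ : V) + a • (v₁ - φ v₁ • x) ∈ Z ∧
      (A' ⟨_, pm v₁⟩ : V) + a • (v₁ - φ v₁ • x) ≠ 0 := fun h => by
    obtain ⟨β, e⟩ := w2 h
    have e' : (A' ⟨_, pm v₁⟩ : V) + a • (v₁ - φ v₁ • x) =
        (α - a * φ v₁) • x + (β - φ v₁ - φ (A (v₁ - φ v₁ • x))) • A x := by
      rw [hA']; simp only [map_sub A, map_smul A]
      linear_combination (norm := module) e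
    rw [e']
    refine ⟨add_mem (smul_mem _ _ zx) (smul_mem _ _ zA), fun h0 => ?_⟩
    generalize β - φ v₁ - φ (A (v₁ - φ v₁ • x)) = κ at h0
    by_cases κ0 : κ = 0
    · rw [κ0, zero_smul, add_zero, smul_eq_zero, sub_eq_zero] at h0
      exact h0.elim (fun h => q5 (by simp [h])) fun h => x1 (by simp [h])
    · exact x3 (mem_span_singleton.2 ⟨-(κ⁻¹ * (α - a * φ v₁)), smul_right_injective V κ0 (by
        simp only [smul_smul, mul_neg, mul_inv_cancel_left₀ κ0]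
        linear_combination (norm := module) (-1 : K) • h0)⟩)
  have k2 : ∀ h : ker φ, (A' h : V) + a • (h : V) ∈ Z → A h + a • (h : V) ∈ Z := fun h hh => by
    rw [hA'] at hh
    convert add_mem hh (smul_mem _ (φ (A h)) zA) using 1; module
  have y1 : A x - x ≠ 0 := sub_ne_zero.2 y0
  refine Or.inr ⟨fun l e => ?_, fun w z e => ?_⟩
  · have e1 : ∀ h, (A' h : V) = l • (h : V) := fun h => by rw [e]; rfl
    obtain rfl : l = -a := smul_left_injective K y1 ((e1 ⟨_, hy⟩).symm.trans ey)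
    obtain ⟨v, hv⟩ : ∃ w, w ∉ Z := by simpa [eq_top_iff'] using hZt
    refine (k1 ⟨_, fun h => hv (by simpa using add_mem h (smul_mem _ (φ v) zx)), k2 ⟨_, pm v⟩ ?_⟩).2 ?_
    · rw [e1]; simp
    · rw [e1]; simp
  · obtain ⟨t1, t2⟩ := tv hd e
    have z0 : (z : V) ∉ Z := fun h => k0 (by rw [t2 ⟨_, pm v₀⟩]; exact smul_mem _ _ h)
    have k3 : ∀ h : ker φ, (A' h : V) - h ∈ Z → (A' h : V) - h = 0 := fun h hh => by
      rw [t2] at hh ⊢
      rw [not_not.1 fun e => z0 ((smul_mem_iff _ e).1 hh), zero_smul]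
    have e1 := k3 ⟨_, hy⟩ (by rw [ey]; exact sub_mem (smul_mem _ _ zy) zy)
    rw [ey, show -a • (A x - x) - ((⟨_, hy⟩ : ker φ) : V) = (-a - 1) • (A x - x) by module, smul_eq_zero,
      sub_eq_zero, neg_eq_iff_eq_neg] at e1
    obtain rfl := e1.resolve_right y1
    have := k1 ⟨z, z0, k2 z (by rw [neg_one_smul, ← sub_eq_add_neg, t2, t1, zero_smul]; exact zero_mem _)⟩
    rw [neg_one_smul, ← sub_eq_add_neg] at this
    exact this.2 (k3 ⟨_, pm v₁⟩ this.1)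

end Cfsg.Agent.H27.Lev
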