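import Mathlib
import Cfsg.Agent.H27.Lev1

/-! Products of two regular unipotent matrices (Lev), part 2. -/

set_option autoImplicit false
set_option linter.unusedSectionVars false
set_option linter.unusedVariables false

namespace Cfsg.Agent.H27.Lev

open Module LinearMap Submodule

universe u v

variable {K : Type u} [Field K] {V : Type v} [AddCommGroup V] [Module K V] [FiniteDimensional K V]
  {A : End K V} {c x : V} {r φ : Dual K V}

def pj (h : φ x = 1) : V →ₗ[K] ker φ := (LinearMap.id - φ.smulRight x).codRestrict _ fun v => by simp [h]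

theorem pj_coe (h : φ x = 1) (v : V) : (pj h v : V) = v - φ v • x := rfl

theorem pj_add (h : φ x = 1) (w : ker φ) (t : K) : pj h (w + t • x) = w :=
  Subtype.ext (by simp [pj_coe, h, mem_ker.1 w.2])

theorem pj_ker (h : φ x = 1) (w : ker φ) : pj h w = w := by simpa using pj_add h w 0

def eB (h : φ x = 1) (B : End K (ker φ)) (u : V) : End K V := (ker φ).subtype ∘ₗ B ∘ₗ pj h + φ.smulRight u

def eC (h : φ x = 1) (C : End K (ker φ)) (γ : Dual K (ker φ)) : End K V :=
  (ker φ).subtype ∘ₗ C ∘ₗ pj h + (φ + γ ∘ₗ pj h).smulRight x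

theorem eB_apply (h : φ x = 1) (B : End K (ker φ)) (u v : V) : eB h B u v = B (pj h v) + φ v • u := rfl

theorem eC_apply (h : φ x = 1) (C : End K (ker φ)) (γ : Dual K (ker φ)) (v : V) :
    eC h C γ v = C (pj h v) + (φ v + γ (pj h v)) • x := rfl

theorem eC_pow (h : φ x = 1) (C : End K (ker φ)) (γ : Dual K (ker φ)) (k : ℕ) (v : V) :
    ((eC h C γ - 1) ^ (k + 1)) v = ((C - 1) ^ (k + 1)) (pj h v) + γ (((C - 1) ^ k) (pj h v)) • x := by
  have k0 : ∀ v, (eC h C γ - 1) v = (C - 1) (pj h v) + γ (pj h v) • x := fun v => by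
    simp only [LinearMap.sub_apply, End.one_apply, eC_apply, AddSubgroupClass.coe_sub, pj_coe]; module
  induction k with
  | zero => simpa using k0 v
  | succ k ih => rw [pow_succ', End.mul_apply, ih, k0, pj_add, pow_succ' _ (k + 1), End.mul_apply]

theorem eB_pow (h : φ x = 1) (B : End K (ker φ)) (y : ker φ) (k : ℕ) (v : V) :
    ((eB h B (x + y) - 1) ^ (k + 1)) v = ((B - 1) ^ k) ((B - 1) (pj h v) + φ v • y) := by
  have k0 : ∀ v, (eB h B (x + y) - 1) v = ((B - 1) (pj h v) + φ v • y : ker φ) := fun v => by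
    simp only [LinearMap.sub_apply, End.one_apply, eB_apply, AddSubgroupClass.coe_sub, pj_coe, Submodule.coe_add,
      SetLike.val_smul]; module
  induction k with
  | zero => simpa using k0 v
  | succ k ih =>
    rw [pow_succ', End.mul_apply, ih, k0, pj_ker, mem_ker.1 (Subtype.prop _), zero_smul, add_zero, pow_succ' _ k,
      End.mul_apply]

theorem eC_nil (h : φ x = 1) {C : End K (ker φ)} (γ : Dual K (ker φ)) {k : ℕ} (h0 : (C - 1) ^ k = 0) :
    (eC h C γ - 1) ^ (k + 1) = 0 := LinearMap.ext fun v => by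
  rw [eC_pow, pow_succ' (C - 1), h0]; simp

theorem main (h4 : Big K) (n : ℕ) : ∀ (V : Type v) [AddCommGroup V] [Module K V] [FiniteDimensional K V],
    finrank K V = n + 1 → ∀ A : End K V, LinearMap.det A = 1 → Good A → ∀ (c : V) (r : Dual K V), c ≠ 0 → r ≠ 0 →
      ∃ B C : End K V, A = B * C ∧ (B - 1) ^ (n + 1) = 0 ∧ ((B - 1) ^ n) c ≠ 0 ∧ (C - 1) ^ (n + 1) = 0 ∧
        ∃ v, r (((C - 1) ^ n) v) ≠ 0 := by
  induction n with
  | zero =>
    intro V _ _ _ hV A hA _ c r hc hr
    obtain ⟨l, rfl⟩ := (LinearMap.existsUnique_eq_smul_id_of_finrank_eq_one hV A).exists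
    obtain rfl : l = 1 := by simpa [hV] using hA
    exact ⟨1, 1, by simp [← End.one_eq_id], by simp, by simpa using hc, by simp, by simpa using DFunLike.ne_iff.1 hr⟩
  | succ n ih =>
    intro V _ _ _ hV A hA hG c r hc hr
    obtain ⟨ns, nt⟩ := hG.resolve_left (by omega)
    obtain ⟨x, φ, q1, q2, q3, q4, q5, ⟨h₀, q6, q7⟩, q8⟩ := exists_pivot h4 hA ns nt c hr
    have φ0 : φ ≠ 0 := fun e => by simp [e] at q1
    have hH := Module.Dual.finrank_ker_add_one_of_ne_zero φ0
    let A' : End K (ker φ) := pj q1 ∘ₗ (A - (φ ∘ₗ A).smulRight (A x)) ∘ₗ (ker φ).subtype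
    have hA' : ∀ h, (A' h : V) = A h - φ (A h) • A x := fun h => by simp [A', pj_coe, q2]; module
    let y : ker φ := ⟨A x - x, by simp [q1, q2]⟩
    let r' : Dual K (ker φ) := φ ∘ₗ A ∘ₗ (ker φ).subtype
    have e0 : ∀ B C : End K (ker φ), A' = B * C → A = eB q1 B (x + y) * eC q1 C r' := fun B C e =>
      LinearMap.ext fun v => by
        rw [End.mul_apply, eC_apply, eB_apply, pj_add, ← End.mul_apply, ← e, hA']
        simp only [map_add, map_smul, q1, mem_ker.1 (Subtype.prop _), y, r', LinearMap.comp_apply, subtype_apply,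
          pj_coe, map_sub A, smul_eq_mul]
        module
    have hd : LinearMap.det A' = 1 := by
      have e1 : eC q1 1 r' = transvection (r' ∘ₗ pj q1) x := LinearMap.ext fun v => by
        simp only [eC_apply, transvection.apply, End.one_apply, pj_coe, LinearMap.comp_apply]; module
      have e2 : ker φ ≤ (ker φ).comap (eB q1 A' (x + y)) := fun v hv => by
        simp [eB_apply, mem_ker.1 hv, mem_ker.1 (Subtype.prop _)]
      have e3 : (eB q1 A' (x + y)).restrict e2 = A' := LinearMap.ext fun w => Subtype.ext (by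
        simp [eB_apply, pj_ker, mem_ker.1 (Subtype.prop _)])
      have e4 : (ker φ).mapQ (ker φ) (eB q1 A' (x + y)) e2 = LinearMap.id := by
        ext v
        refine (Submodule.Quotient.eq _).2 ?_
        simp [eB_apply, mem_ker.1 (Subtype.prop _), q1]
      have e5 : pj q1 x = 0 := by simpa using pj_add q1 0 1
      rw [e0 A' 1 (mul_one _).symm, map_mul, e1, det_eq_det_mul_det _ _ e2, e3, e4] at hA
      simpa [e5] using hA
    obtain ⟨B, C, b1, b2, b3, b4, v, b5⟩ := ih (ker φ) (by omega) A' hd (q8 A' hA' hd) y r'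
      (fun e => q5 (sub_eq_zero.1 (congrArg Subtype.val e))) (DFunLike.ne_iff.2 ⟨⟨h₀, q6⟩, q7⟩)
    refine ⟨_, _, e0 B C b1, LinearMap.ext fun v => by simp [eB_pow, b2], ?_, eC_nil q1 r' b4, v, ?_⟩
    · rw [eB_pow, map_add, ← End.mul_apply, ← pow_succ, b2]
      simpa [q4 hc] using b3
    · rw [eC_pow, b4, pj_ker]
      simpa [q3] using b5

theorem unip (h4 : Big K) (n : ℕ) : ∀ (V : Type v) [AddCommGroup V] [Module K V] [FiniteDimensional K V],
    finrank K V = n + 1 → ∀ A : End K V, IsNilpotent (A - 1) →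
      ∃ B C : End K V, A = B * C ∧ (B - 1) ^ (n + 1) = 0 ∧ (B - 1) ^ n ≠ 0 ∧ (C - 1) ^ (n + 1) = 0 ∧ (C - 1) ^ n ≠ 0 := by
  induction n with
  | zero =>
    intro V _ _ _ hV A hA
    have := Module.nontrivial_of_finrank_eq_succ hV
    obtain ⟨l, e⟩ := (LinearMap.existsUnique_eq_smul_id_of_finrank_eq_one hV (A - 1)).exists
    obtain ⟨k, hk⟩ := hA
    rw [e, ← End.one_eq_id, smul_pow, one_pow, smul_eq_zero] at hk
    rw [eq_zero_of_pow_eq_zero (hk.resolve_right one_ne_zero), zero_smul, sub_eq_zero] at e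
    exact ⟨1, 1, by simp [e], by simp, by simp, by simp, by simp⟩
  | succ n ih =>
    intro V _ _ _ hV A hA
    have := Module.nontrivial_of_finrank_eq_succ hV
    obtain ⟨x, hx, x0⟩ : ∃ x ∈ ker (A - 1), x ≠ 0 := (Submodule.ne_bot_iff _).1 fun e =>
      hA.not_isUnit ((LinearMap.isUnit_iff_ker_eq_bot _).2 e)
    replace hx : A x = x := sub_eq_zero.1 hx
    obtain ⟨φ, q1⟩ := Projective.exists_dual_eq_one K x0
    have φ0 : φ ≠ 0 := fun e => by simp [e] at q1
    have hH := Module.Dual.finrank_ker_add_one_of_ne_zero φ0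
    let A' : End K (ker φ) := pj q1 ∘ₗ A ∘ₗ (ker φ).subtype
    let r' : Dual K (ker φ) := φ ∘ₗ A ∘ₗ (ker φ).subtype
    have e0 : A = eC q1 A' r' := LinearMap.ext fun v => by
      rw [eC_apply]
      simp only [A', r', LinearMap.comp_apply, subtype_apply, pj_coe, map_sub A, map_smul A, hx, map_sub φ, map_smul φ, q1,
        smul_eq_mul]
      module
    obtain ⟨B, C, b1, b2, b3, b4, b5⟩ := ih (ker φ) (by omega) A' (by
      obtain ⟨k, hk⟩ := hA
      refine ⟨k + 1, LinearMap.ext fun w => ?_⟩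
      have := eC_pow q1 A' r' k w
      rw [← e0, pow_succ', hk, mul_zero, LinearMap.zero_apply] at this
      simpa [pj_ker] using (congrArg (pj q1) this).trans (pj_add _ _ _) |>.symm)
    obtain ⟨u, hu⟩ := DFunLike.ne_iff.1 b3
    obtain ⟨w, hw⟩ := DFunLike.ne_iff.1 b5
    obtain ⟨β, -, c1, c2, -⟩ := av h4 ⊥ (0 : Dual K (ker φ)) (v₁ := ((B - 1) ^ n) u) (v₂ := ((C - 1) ^ n) w)
      (v₃ := ((C - 1) ^ n) w) (a₁ := 0) (a₂ := r' (((C - 1) ^ n) w)) (a₃ := 0)
      (Or.inl (by simpa using hu)) (Or.inl (by simpa using hw)) (Or.inl (by simpa using hw))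
    refine ⟨eC q1 B β, eC q1 C (r' - β ∘ₗ C), e0.trans (LinearMap.ext fun v => ?_), eC_nil q1 _ b2,
      DFunLike.ne_iff.2 ⟨(u : V), ?_⟩, eC_nil q1 _ b4, DFunLike.ne_iff.2 ⟨(w : V), ?_⟩⟩
    · rw [End.mul_apply, eC_apply q1 C, eC_apply q1 B, pj_add, eC_apply, b1]
      simp only [map_add, map_smul, q1, mem_ker.1 (Subtype.prop _), LinearMap.sub_apply, LinearMap.comp_apply,
        End.mul_apply, smul_eq_mul]
      module
    · rw [eC_pow, b2, pj_ker]
      simpa [x0] using c1
    · have : C (((C - 1) ^ n) w) = ((C - 1) ^ n) w := by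
        have := congrArg (· w) b4
        simpa [pow_succ', sub_eq_zero] using this
      rw [eC_pow, b4, pj_ker]
      simpa [x0, this, sub_eq_zero] using c2.symm

theorem all (h4 : Big K) {n : ℕ} (hV : finrank K V = n + 1) (hA : LinearMap.det A = 1) (ns : ∀ l : K, A ≠ l • 1) :
    ∃ B C : End K V, A = B * C ∧ (B - 1) ^ (n + 1) = 0 ∧ (B - 1) ^ n ≠ 0 ∧ (C - 1) ^ (n + 1) = 0 ∧ (C - 1) ^ n ≠ 0 := by
  by_cases nt : ∀ w z, A ≠ transvection w z
  · have := Module.nontrivial_of_finrank_eq_succ hV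
    obtain ⟨c, hc⟩ := exists_ne (0 : V)
    obtain ⟨r, hr⟩ := Projective.exists_dual_ne_zero K hc
    obtain ⟨B, C, b1, b2, b3, b4, v, b5⟩ := main h4 n V hV A hA (Or.inr ⟨ns, nt⟩) c r hc (DFunLike.ne_iff.2 ⟨c, hr⟩)
    exact ⟨B, C, b1, b2, fun e => b3 (by simp [e]), b4, fun e => b5 (by simp [e])⟩
  · simp only [not_forall, not_not] at nt
    obtain ⟨w, z, rfl⟩ := nt
    have : w z = 0 := by simpa using hA
    exact unip h4 n V hV _ ⟨2, LinearMap.ext fun v => by simp [pow_two, transvection.apply, this]⟩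

theorem conj_J {n : ℕ} {B J : Matrix (Fin (n + 1)) (Fin (n + 1)) K}
    (hJ : ∀ i j, J i j = if i = j then 1 else if j.val = i.val + 1 then 1 else 0)
    (h0 : (B - 1) ^ (n + 1) = 0) (h1 : (B - 1) ^ n ≠ 0) : ∃ X : Matrix (Fin (n + 1)) (Fin (n + 1)) K, IsUnit X ∧ B * X = X * J := by
  set N := B - 1 with hN
  obtain ⟨v, hv⟩ : ∃ v, (N ^ n).mulVec v ≠ 0 := by
    by_contra h
    simp only [not_exists, not_not] at h
    exact h1 (Matrix.ext_iff_mulVec.2 fun v => by simp [h v])
  have z : ∀ k, n < k → N ^ k = 0 := fun k hk => pow_eq_zero_of_le hk h0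
  refine ⟨Matrix.of fun i j => (N ^ (n - j)).mulVec v i, ?_, ?_⟩
  · rw [← Matrix.linearIndependent_cols_iff_isUnit, Fintype.linearIndependent_iff]
    intro g hg j
    induction j using WellFoundedGT.induction with
    | ind j ih =>
      have e : ∀ i : Fin (n + 1), (Matrix.of fun i (j : Fin (n + 1)) => (N ^ (n - j)).mulVec v i).col i =
        (N ^ (n - i)).mulVec v := fun i => rfl
      have h := congrArg (N ^ (j : ℕ)).mulVec hg
      simp only [e, Matrix.mulVec_sum, Matrix.mulVec_smul, Matrix.mulVec_mulVec, ← pow_add, Matrix.mulVec_zero] at h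
      rw [Finset.sum_eq_single j (fun i _ hi => ?_) (by simp), show (j : ℕ) + (n - j) = n by omega] at h
      · exact (smul_eq_zero.1 h).resolve_right hv
      · rcases lt_or_gt_of_ne hi with h | h
        · rw [z _ (by omega)]; simp
        · rw [ih i h, zero_smul]
  · ext i j
    have e : (B * Matrix.of fun i (j : Fin (n + 1)) => (N ^ (n - j)).mulVec v i) i j =
        (N ^ (n - j)).mulVec v i + (N ^ (n - j + 1)).mulVec v i := by
      rw [pow_succ', ← Matrix.mulVec_mulVec, hN, Matrix.sub_mulVec, Matrix.one_mulVec, Pi.sub_apply, add_sub_cancel]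
      rfl
    rw [e, Matrix.mul_apply]
    have e2 : ∀ k, J k j = (if k = j then 1 else 0) + if j.val = k.val + 1 then 1 else 0 := fun k => by
      rw [hJ]; split_ifs <;> simp <;> omega
    simp only [e2, mul_add, Finset.sum_add_distrib, mul_ite, mul_one, mul_zero, Finset.sum_ite_eq', Finset.mem_univ,
      if_true, Matrix.of_apply]
    congr 1
    induction j using Fin.cases with
    | zero => simp [h0]
    | succ j =>
      rw [Finset.sum_eq_single j.castSucc (fun k _ hk => if_neg fun e => hk (Fin.ext (by simpa using e.symm))) (by simp),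
        if_pos (by simp), show n - (j.succ : ℕ) + 1 = n - (j.castSucc : ℕ) by simp; omega]

end Cfsg.Agent.H27.Lev
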