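import Mathlib
import Cfsg.Agent.H27.Mt0
import Cfsg.Agent.H21.Cit11
import Cfsg.Agent.H1.XCit2
import Cfsg.Agent.GW.KF1
import Cfsg.Agent.H7.BR0
import Cfsg.Agent.H10.SL
import Cfsg.Agent.H10.Congr
import Cfsg.Agent.BS.BInd0
import Cfsg.Agent.S3050

/-! Non-solvable CN-groups: reduction to Martineau's theorem. -/

set_option autoImplicit false
set_option linter.unusedSectionVars false

namespace Cfsg.Agent.H27.Mt

open Subgroup Cfsg.Agent.FT Cfsg.Agent.GW Cfsg.Agent.H21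
open scoped MatrixGroups

universe u
variable {G : Type u} [Group G] [Finite G]

theorem top_solA {Q S : Subgroup G} (hN : N(Q) = ⊤) (hQ : Sol Q) (hS : Syl 2 S ⊤) (hle : S ≤ Q) :
    Group.IsSolvable G := by
  haveI : Q.Normal := nml_top_iff.1 ⟨le_top, hN.ge⟩
  have h1 : Odd (Nat.card (G ⧸ Q)) := by
    have h2 : ¬ 2 ∣ S.index := by
      obtain ⟨P, rfl⟩ := (syl_top_iff Nat.prime_two).1 hS
      exact P.not_dvd_index
    have h3 := index_dvd_of_le hle
    rw [← Nat.not_even_iff_odd, even_iff_two_dvd]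
    exact fun h => h2 (h.trans h3)
  haveI := odd_order_solvable h1
  haveI : Group.IsSolvable Q := hQ
  exact Group.isSolvable_of_ker_le_range Q.subtype (QuotientGroup.mk' Q) (by simp)

theorem top_solB {S : Subgroup G} (hc : ∀ t : G, Invo t → Sol C[t]) (hS : Syl 2 S ⊤)
    (hu : ∀ s ∈ S, Invo s → ∀ t ∈ S, Invo t → s = t) : Group.IsSolvable G := by
  by_cases h2 : 2 ∣ Nat.card G
  swap
  · exact odd_order_solvable (by rwa [← Nat.not_even_iff_odd, even_iff_two_dvd])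
  obtain ⟨z, -, hz⟩ := exists_invo (H := (⊤ : Subgroup G)) (by rwa [card_top'])
  have hr : ¬ H13.R1.Rank2 G := by
    rintro ⟨x, y, x1, y1, hne, x2, y2, c⟩
    obtain ⟨g, -, hg⟩ := hS.syl_Jsub (pGrp_pair x2 y2 ((e2_of_sq x2).mul (e2_of_sq y2) c)) le_top
    have := hu _ (hg (conj_mem_cj.2 (mem_sup_right (mem_zpowers x)))) ((invo_of x2 x1).conj g) _
      (hg (conj_mem_cj.2 (mem_pair x2))) ((invo_of y2 y1).conj g)
    exact hne (by simpa using this)
  haveI := BS.normal_oddCore (G := G)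
  haveI : Group.IsSolvable (oddCore G) := odd_order_solvable (by
    rw [← Nat.not_even_iff_odd, even_iff_two_dvd]
    exact fun h => BS.pi_oddCore (G := G) 2 Nat.prime_two h rfl)
  haveI : Group.IsSolvable C[z] := hc z hz
  haveI : Group.IsSolvable (G ⧸ oddCore G) := by
    refine Group.isSolvable_of_surjective (f := (QuotientGroup.mk' (oddCore G)).comp (C[z]).subtype) fun q => ?_
    obtain ⟨g, rfl⟩ := QuotientGroup.mk_surjective q
    obtain ⟨o, ho, c, hc, rfl⟩ := BS.exists_oddCore_mul hr hz g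
    exact ⟨⟨c, hc⟩, by simp [(QuotientGroup.eq_one_iff o).2 ho]⟩
  exact Group.isSolvable_of_ker_le_range (oddCore G).subtype (QuotientGroup.mk' (oddCore G)) (by simp)

theorem top_idx {M : Subgroup G} (h : CIT G) (hM : M.index = 2) {F : Type} [Field F] [Fintype F]
    (h7 : 7 ≤ Fintype.card F) (hp : (Fintype.card F).Prime) (e : M ≃* PSL(2, F)) (hi : ∀ t, Invo t → t ∈ M) :
    False := by
  haveI := normal_of_index_eq_two hM
  haveI : Fact (Nat.Prime 3) := ⟨Nat.prime_three⟩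
  have h3 : 3 ∣ Nat.card M := by
    rw [Nat.card_congr e.toEquiv]
    have h1 := H10.card_PSL_two (F := F)
    have h2 : 3 ∣ Fintype.card F * (Fintype.card F - 1) * (Fintype.card F + 1) := by
      obtain ⟨n, hn⟩ : ∃ n, Fintype.card F = n + 1 := ⟨Fintype.card F - 1, by omega⟩
      rw [hn, Nat.add_sub_cancel]
      rcases (by omega : n % 3 = 0 ∨ (n + 1) % 3 = 0 ∨ (n + 1 + 1) % 3 = 0) with a | a | a
      · exact (Dvd.dvd.mul_left (Nat.dvd_of_mod_eq_zero a) _).mul_right _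
      · exact (Dvd.dvd.mul_right (Nat.dvd_of_mod_eq_zero a) _).mul_right _
      · exact Dvd.dvd.mul_left (Nat.dvd_of_mod_eq_zero a) _
    rw [← h1] at h2
    refine (Nat.Coprime.dvd_of_dvd_mul_left ?_ h2)
    exact Nat.Coprime.coprime_dvd_right (Nat.gcd_dvd_left _ _) (by norm_num)
  obtain ⟨P⟩ : Nonempty (Sylow 3 M) := inferInstance
  have hP1 : (P : Subgroup M) ≠ ⊥ := P.ne_bot_of_dvd_card h3
  haveI : Nontrivial (P : Subgroup M) := (nontrivial_iff_ne_bot _).2 hP1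
  haveI := P.isPGroup'.center_nontrivial
  have hz3 : 3 ∣ Nat.card (center (P : Subgroup M)) := by
    obtain ⟨k, hk⟩ := IsPGroup.iff_card.1 (P.isPGroup'.to_subgroup (center (P : Subgroup M)))
    have := Finite.one_lt_card (α := center (P : Subgroup M))
    rw [hk] at this ⊢
    exact dvd_pow_self 3 (by rintro rfl; simp at this)
  obtain ⟨z, hz⟩ := exists_prime_orderOf_dvd_card' 3 hz3
  have hz' : orderOf ((z : (P : Subgroup M)) : M) = 3 := by rw [orderOf_coe, orderOf_coe, hz]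
  have hcyc : Cyc (P : Subgroup M) := by
    refine cyc_psl e (g := ((z : (P : Subgroup M)) : M)) (fun h => by simp [h] at hz') ?_ (fun a ha => ?_)
      (fun a ha h2 => Or.inl ?_)
    · rw [hz', Nat.card_eq_fintype_card, Nat.coprime_primes Nat.prime_three hp]; omega
    · exact mem_cen1.2 (congrArg Subtype.val (mem_center_iff.1 z.2 ⟨a, ha⟩))
    · obtain ⟨k, hk⟩ := P.isPGroup' ⟨a, ha⟩
      have hk' : a ^ 3 ^ k = 1 := by simpa using congrArg Subtype.val hk
      have := pow_gcd_eq_one.2 ⟨(by rw [sq]; exact h2 : a ^ 2 = 1), hk'⟩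
      rwa [Nat.Coprime.gcd_eq_one (Nat.Coprime.pow_right _ (by norm_num)), pow_one] at this
  have hF := Sylow.normalizer_sup_eq_top P
  obtain ⟨g, hg, gM⟩ : ∃ g ∈ normalizer (((P : Subgroup M).map M.subtype : Subgroup G) : Set G), g ∉ M := by
    by_contra hc
    push Not at hc
    have : M = ⊤ := top_le_iff.1 (hF ▸ sup_le hc le_rfl)
    simp [this] at hM
  obtain ⟨x, x3, xP⟩ : ∃ x : G, orderOf x = 3 ∧ x ∈ (P : Subgroup M).map M.subtype :=
    ⟨_, (orderOf_coe _).trans hz', ⟨_, (z : (P : Subgroup M)).2, rfl⟩⟩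
  have hc' : Cyc ((P : Subgroup M).map M.subtype) := by
    haveI : IsCyclic (P : Subgroup M) := hcyc
    exact isCyclic_of_surjective _ ((P : Subgroup M).equivMapOfInjective M.subtype M.subtype_injective).surjective
  obtain ⟨r, hr⟩ := hc'.exists_conj_pow hg
  have hr' := hr x xP
  have x0 : x ^ 3 = 1 := x3 ▸ pow_orderOf_eq_one x
  have x1 : x ≠ 1 := fun e => by simp [e] at x3
  have g2 : E2 g := (h.e2_or_od g).resolve_right fun o => gM (o.mem_of_index hM)
  have c : g * g * x = x * (g * g) := by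
    have e1 : g * g * x * (g * g)⁻¹ = x ^ (r * r) := by
      calc g * g * x * (g * g)⁻¹ = g * (g * x * g⁻¹) * g⁻¹ := by group
        _ = x ^ (r * r) := by rw [hr', ← conj_pow, hr', pow_mul]
    have e2 : ¬ 3 ∣ r := fun d => x1 (by
      have : x ^ r = 1 := orderOf_dvd_iff_pow_eq_one.1 (x3 ▸ d)
      rw [this] at hr'
      simpa using hr')
    obtain ⟨k, hk⟩ : ∃ k, r * r = 3 * k + 1 := ⟨r * r / 3, by
      have : r * r % 3 = 1 := by
        rw [Nat.mul_mod]
        rcases (by omega : r % 3 = 1 ∨ r % 3 = 2) with a | a <;> rw [a]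
      omega⟩
    rw [hk, pow_succ, pow_mul, x0, one_pow, one_mul] at e1
    exact mul_inv_eq_iff_eq_mul.1 e1
  have := h.eq_one' (g2.mul g2 rfl) (od_of_cube (x3 ▸ pow_orderOf_eq_one x)) x1 c.symm
  exact gM (hi g (invo_of this fun e => gM (e ▸ one_mem M)))

/-- the conclusion of the theorem -/
def Concl (G : Type u) [Group G] : Prop :=
    (IsSimpleGroup G ∧ ¬ IsMulCommutative G) ∨
    (∃ (N : Subgroup G), N.Normal ∧ N.index = 2 ∧ ∃ (F : Type) (_ : Field F) (_ : Fintype F), Fintype.card F = 9 ∧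
        Nonempty (N ≃* Matrix.ProjectiveSpecialLinearGroup (Fin 2) F)) ∨
    (∃ (N : Subgroup G) (_ : N.Normal), N ≠ ⊥ ∧ IsPGroup 2 N ∧ IsMulCommutative N ∧ (∀ x ∈ N, x * x = 1) ∧
        ((∃ (F : Type) (_ : Field F) (_ : Fintype F), CharP F 2 ∧ 4 ≤ Fintype.card F ∧
            Nonempty (G ⧸ N ≃* Matrix.ProjectiveSpecialLinearGroup (Fin 2) F)) ∨ Cfsg.IsSuzuki (G ⧸ N)))

theorem top_zt (hG : ¬ Group.IsSolvable G) (h : CIT G) (t : TI2 G) : IsZT G := by
  obtain ⟨S, hS⟩ := exists_syl 2 (⊤ : Subgroup G)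
  rcases h.ti_cases t hS with e | e | e
  · exact absurd (top_solA e hS.pi.sol hS le_rfl) hG
  · exact absurd (top_solB (fun t ht => (h t ht).sol) hS e) hG
  · exact e

theorem top_main (hG : ¬ Group.IsSolvable G) (hCN : IsCNGroup G)
    (hSz : ∀ (N : Subgroup G) [N.Normal] (F : Type) [Field F] (_ : H13.SzData (G ⧸ N) F), IsPGroup 2 N → Fp N →
      ∀ x ∈ N, x * x = 1) : Concl G := by
  have nab : ¬ IsMulCommutative G := fun h => hG (Group.isSolvable_of_comm fun a b => h.1.1 a b)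
  by_cases h : CIT G
  swap
  · obtain ⟨Q, hQ, -, S, hle, hS, h1⟩ := exists_ncc hCN h
    by_cases hu : ∀ s ∈ S, Invo s → ∀ t ∈ S, Invo t → s = t
    · exact absurd (top_solB (fun t ht => by
        haveI := hCN t ht.ne
        exact (inferInstance : Group.IsSolvable (centralizer ({t} : Set G)))) hS hu) hG
    push Not at hu
    obtain ⟨s, hs, s2, t, ht, t2, hne⟩ := hu
    exact Or.inl ⟨(hQ.isZT (hle hs) s2 (hle ht) t2 hne fun e => hG (top_solA e hQ.nil.sol hS hle)).1, nab⟩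
  by_cases hO : O[{2}]((⊤ : Subgroup G)) = ⊥
  · rcases h.cases hO with e | ⟨F, _, _, h7, -, ⟨e⟩⟩ | ⟨M, hM, ⟨F, _, _, h7, h9 | ⟨hp, -⟩, ⟨e⟩⟩, hi⟩ | ⟨F, _, _, -, ⟨e⟩⟩
    · exact Or.inl ⟨(top_zt hG h e).1, nab⟩
    · haveI := H10.isSimpleGroup_PSL_fin (F := F) (n := 2) le_rfl fun _ => by
        rw [Nat.card_eq_fintype_card]; omega
      exact Or.inl ⟨e.isSimpleGroup, nab⟩
    · exact Or.inr (Or.inl ⟨M, normal_of_index_eq_two hM, hM, F, _, _, h9, ⟨e⟩⟩)
    · exact (top_idx h hM h7 hp e hi).elim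
    · haveI := H10.isSimpleGroup_PSL_fin (F := F) (n := 3) (by norm_num) fun h => by omega
      exact Or.inl ⟨e.isSimpleGroup, nab⟩
  set N := O[{2}]((⊤ : Subgroup G)) with hN
  have hP : PGrp 2 N := pcore_pi _ _
  have hn : N(N) = ⊤ := top_le_iff.1 (pcore_nrm _ _)
  haveI hNn : N.Normal := nml_top_iff.1 ⟨le_top, hn.ge⟩
  have hP' : IsPGroup 2 N := (pGrp_iff Nat.prime_two).1 hP
  have e0 : G ⧸ N ≃* Quo N := by
    refine (QuotientGroup.congr (N.subgroupOf N(N)) N ((MulEquiv.subgroupCongr hn).trans topEquiv) ?_).symm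
    ext x
    simp only [mem_map, mem_subgroupOf]
    exact ⟨by rintro ⟨y, hy, rfl⟩; exact hy, fun hx => ⟨⟨x, hn ▸ mem_top x⟩, hx, rfl⟩⟩
  have hq : ¬ Group.IsSolvable (Quo N) := fun hs => hG (by
    haveI : Group.IsSolvable (G ⧸ N) := Group.isSolvable_of_surjective (f := e0.symm.toMonoidHom) e0.symm.surjective
    haveI : Group.IsSolvable N := hP.sol
    exact Group.isSolvable_of_ker_le_range N.subtype (QuotientGroup.mk' N) (by simp))
  have hf : Fp N := fun x ho x1 n hn c => by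
    have := h.fpf hP (od_iff.2 ho) x1
    exact (mem_bot.1 (this ▸ (⟨hn, mem_cen1.2 c.symm⟩ : n ∈ N ⊓ C[x])))
  have comm (hs : ∀ x ∈ N, x * x = 1) : IsMulCommutative N := (abelem_of_sq hs).ab
  obtain ⟨h0, ⟨F, _, _, ⟨n, h2, hc⟩, ⟨e⟩⟩ | h1⟩ := (top_zt hq (h.quo hP) (h.ti_quo' hO)).of_equiv e0
  · have hc' : Nat.card F = 2 ^ n := Nat.card_eq_fintype_card.trans hc
    haveI := H13.charP_two_of_card hc'
    have h4 : 4 ≤ Fintype.card F := hc ▸ Nat.pow_le_pow_right two_pos h2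
    obtain ⟨e1⟩ := H7.psl_sl_of_even (K := F) (by rw [hc']; exact (Nat.even_pow.2 ⟨even_two, by omega⟩))
    have h3 : 3 ∣ Nat.card G := by
      refine Dvd.dvd.trans ?_ (card_quotient_dvd_card N)
      rw [Nat.card_congr e.toEquiv]
      have h1 := H10.card_PSL_two (F := F)
      have h2 : 3 ∣ Fintype.card F * (Fintype.card F - 1) * (Fintype.card F + 1) := by
        obtain ⟨n, hn⟩ : ∃ n, Fintype.card F = n + 1 := ⟨Fintype.card F - 1, by omega⟩
        rw [hn, Nat.add_sub_cancel]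
        rcases (by omega : n % 3 = 0 ∨ (n + 1) % 3 = 0 ∨ (n + 1 + 1) % 3 = 0) with a | a | a
        · exact (Dvd.dvd.mul_left (Nat.dvd_of_mod_eq_zero a) _).mul_right _
        · exact (Dvd.dvd.mul_right (Nat.dvd_of_mod_eq_zero a) _).mul_right _
        · exact Dvd.dvd.mul_left (Nat.dvd_of_mod_eq_zero a) _
      rw [← h1] at h2
      refine (Nat.Coprime.dvd_of_dvd_mul_left ?_ h2)
      exact Nat.Coprime.coprime_dvd_right (Nat.gcd_dvd_left _ _) (by norm_num)
    haveI : Fact (Nat.Prime 3) := ⟨Nat.prime_three⟩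
    obtain ⟨x, hx⟩ := exists_prime_orderOf_dvd_card' 3 h3
    have hel := (S3050.result N hP' n h2 F hc (e.trans e1) x hx fun q hq c =>
      hf x (by rw [hx]; decide) (fun e => by simp [e] at hx) q hq (mul_inv_eq_iff_eq_mul.1 c)).1
    have hs : ∀ x ∈ N, x * x = 1 := fun x hx => by rw [← sq]; exact hel.2 x hx
    exact Or.inr (Or.inr ⟨N, hNn, hO, hP', comm hs, hs, Or.inl ⟨F, _, _, ‹_›, h4, ⟨e⟩⟩⟩)
  · have h1' := h1
    obtain ⟨F, _, _, m, m1, m2, e⟩ := h1'
    obtain ⟨F', _, S, -⟩ := HX.Szm.data (G := G ⧸ N) ⟨F, _, _, m2, e⟩ m1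
    have hs := hSz N F' S hP' hf
    exact Or.inr (Or.inr ⟨N, hNn, hO, hP', comm hs, hs, Or.inr (BS.isSuzuki_of_iso' h1)⟩)

end Cfsg.Agent.H27.Mt
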