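import Mathlib
import Cfsg.Agent.FT.Map
import Cfsg.Agent.FT.Cyc
import Cfsg.Agent.H10.SL2b
import Cfsg.Agent.H10.Congr

/-! Elements lying in a unique Sylow subgroup ("picky" elements); the case of `PSL₂(q)`. -/

set_option autoImplicit false

namespace Cfsg.Agent.H27

open Subgroup Cfsg.Agent.FT Cfsg.Agent.H10 Matrix MulAction
open scoped MatrixGroups

/-- some element of `M` lies in exactly one Sylow `p`-subgroup of `M` -/
def Pk {G : Type*} [Group G] (p : ℕ) (M : Subgroup G) : Prop :=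
  ∃ x P, Syl p P M ∧ x ∈ P ∧ ∀ Q, Syl p Q M → x ∈ Q → Q = P

section
variable {G : Type*} [Group G] [Finite G] {p : ℕ}

theorem red_iff [hp : Fact p.Prime] :
    (∃ Q : Sylow p G, ∀ x : G, (∃ k : ℕ, orderOf x = p ^ k) → ∃ P : Sylow p G, P ≠ Q ∧ x ∈ P) ↔
      ¬ Pk p (⊤ : Subgroup G) := by
  constructor
  · rintro ⟨Q, hQ⟩ ⟨x, P, hP, hx, h⟩
    obtain ⟨g, -, e⟩ := hP.syl_trans (syl_top hp.out Q)
    have hx' : g * x * g⁻¹ ∈ (Q : Subgroup G) := e ▸ conj_mem_cj.2 hx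
    obtain ⟨R, hR, hxR⟩ := hQ (g * x * g⁻¹) (by
      obtain ⟨k, hk⟩ := IsPGroup.iff_orderOf.1 Q.isPGroup' ⟨_, hx'⟩
      exact ⟨k, by rw [← hk, orderOf_mk]⟩)
    refine hR (Sylow.ext ?_)
    have := h (cj g⁻¹ R) ((syl_top hp.out R).cj_mem trivial) (mem_cj.2 (by rw [inv_inv]; exact hxR))
    rw [e, ← this, cj_cj_inv]
  · intro h
    obtain ⟨Q⟩ : Nonempty (Sylow p G) := inferInstance
    refine ⟨Q, fun x ⟨k, hk⟩ => ?_⟩
    by_contra hn
    push Not at hn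
    have h1 : ∀ R, Syl p R ⊤ → x ∈ R → R = Q := fun R hR hx => by
      obtain ⟨T, rfl⟩ := (syl_top_iff hp.out).1 hR
      by_contra hne
      exact hn T (fun e => hne (by rw [e])) hx
    have hx : PGrp p ⟪x⟫ := ((pElt_iff hp.out).2 ⟨k, by rw [← hk, pow_orderOf_eq_one]⟩).zpowers
    obtain ⟨R, hR, hxR⟩ := hx.exists_syl le_top
    exact h ⟨x, R, hR, hxR (mem_zpowers x), fun T hT hx' => by
      rw [h1 T hT hx', h1 R hR (hxR (mem_zpowers x))]⟩

theorem pk_of_cyc {M P : Subgroup G} (hP : Syl p P M) (hc : Cyc P) : Pk p M := by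
  obtain ⟨x, rfl⟩ := cyc_iff.1 hc
  exact ⟨x, _, hP, mem_zpowers x, fun Q hQ hx => hP.max hQ.pi (zpowers_le.2 hx) hQ.le⟩

theorem pk_map {G' : Type*} [Group G'] [Finite G'] (f : G →* G') (hf : f.ker ≤ center G) :
    Pk p (⊤ : Subgroup G) ↔ Pk p f.range := by
  have hm : ∀ P, Syl p P ⊤ → Syl p (P.map f) f.range := fun P hP => by
    rw [MonoidHom.range_eq_map]; exact hP.map f
  have h1 : ∀ P, Syl p P ⊤ → ∀ x, PiElt {p} x → f x ∈ P.map f → x ∈ P := by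
    rintro P hP x hx ⟨y, hy, e⟩
    have hz : y⁻¹ * x ∈ center G := hf (by rw [MonoidHom.mem_ker, map_mul, map_inv, e, inv_mul_cancel])
    have hn : x ∈ N(P) := by
      have := mul_mem (le_nrm P hy) (cen_le_nrm P (center_le_centralizer _ hz))
      rwa [mul_inv_cancel_left] at this
    exact hP.le_of_norm hx.zpowers le_top (zpowers_le.2 hn) (mem_zpowers x)
  have h2 : ∀ P Q, Syl p P ⊤ → Syl p Q ⊤ → P.map f = Q.map f → P = Q := fun P Q hP hQ e =>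
    (hP.max hQ.pi (fun x hx => h1 Q hQ x (hP.pi.piElt hx) (e ▸ mem_map_of_mem f hx)) le_top).symm
  have h3 : ∀ R, Syl p R f.range → ∃ P, Syl p P ⊤ ∧ P.map f = R := fun R hR => by
    obtain ⟨P, hP⟩ := exists_syl p (⊤ : Subgroup G)
    obtain ⟨_, ⟨g, rfl⟩, e⟩ := (hm P hP).syl_trans hR
    exact ⟨cj g P, hP.cj_mem trivial, by rw [e, map_cj]⟩
  constructor
  · rintro ⟨x, P, hP, hx, h⟩
    refine ⟨f x, P.map f, hm P hP, mem_map_of_mem f hx, fun R hR hxR => ?_⟩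
    obtain ⟨Q, hQ, rfl⟩ := h3 R hR
    rw [h Q hQ (h1 Q hQ x (hP.pi.piElt hx) hxR)]
  · rintro ⟨y, R, hR, hy, h⟩
    obtain ⟨P, hP, rfl⟩ := h3 R hR
    obtain ⟨x, hx, rfl⟩ := hy
    exact ⟨x, P, hP, hx, fun Q hQ hxQ => h2 Q P hQ hP (h _ (hm Q hQ) (mem_map_of_mem f hxQ))⟩

end

variable {F : Type*} [Field F] [Finite F]

theorem pk_char {p : ℕ} [hp : Fact p.Prime] [CharP F p] : Pk p (pslSub F) := by
  have h := lineAct_pgl F p
  have hq : 1 < Nat.card F := Finite.one_lt_card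
  have hU : PGrp p (h.U (rat (inf F))) := (pGrp_iff hp.out).2 (h.isPGroup_U _)
  have hS : Syl p (h.U (rat (inf F))) (pslSub F) := by
    refine syl_of_not_dvd (U_le_pslSub _) hU fun hd => ?_
    have e1 := card_mul_relIndex (U_le_pslSub (p := p) (rat (inf F)))
    have e2 := card_pslSub (F := F)
    rw [← e1, card_U_rat, mul_left_comm, mul_assoc] at e2
    have e3 := Nat.eq_of_mul_eq_mul_left (by omega) e2
    have h1 : p ∣ (Nat.card F - 1) * (Nat.card F + 1) := e3 ▸ hd.mul_left _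
    have h2 : p ∣ Nat.card F := dvd_card_field p
    rcases (Nat.Prime.dvd_mul hp.out).1 h1 with h3 | h3
    · exact hp.out.one_lt.ne' (Nat.dvd_one.1 (by
        have := Nat.dvd_sub h2 h3
        rwa [show Nat.card F - (Nat.card F - 1) = 1 by omega] at this))
    · exact hp.out.one_lt.ne' (Nat.dvd_one.1 ((Nat.dvd_add_right h2).1 h3))
  obtain ⟨t, ht, ht1⟩ := FT.exists_ne_one (ne_bot_of_one_lt_card (H := h.U (rat (inf F))) (by rw [card_U_rat]; exact hq))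
  refine ⟨t, _, hS, ht, fun Q hQ htQ => ?_⟩
  obtain ⟨z, hz⟩ := h.exists_le_U hp.out ((pGrp_iff hp.out).1 hQ.pi)
  have e := h.fix_unique ht1 (h.mem_U.1 ht).2 (h.mem_U.1 ht).1 (h.mem_U.1 (hz htQ)).1
  rw [← e] at hz
  exact (hQ.max hU hz hS.le).symm

theorem odd_relIndex_pair (hq : Odd (Nat.card F)) {z z' : PLbar F} {e : ℕ} (he : IsTorusPair z z' e) (h4 : 4 ∣ e) :
    #(pslSub F ⊓ pairStab _ z z') = e ∧ ¬ 2 ∣ (pslSub F ⊓ pairStab _ z z').relIndex (pslSub F) := by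
  have e1 := he.card_inf_pairStab (M := pslSub F) le_rfl
  have e2 := he.card_psl_inf_torus
  have e3 := card_pslSub (F := F)
  rw [gcd_two_eq_two hq] at e2 e3
  have e4 : #(pslSub F ⊓ pairStab _ z z') = e := e1.trans e2
  refine ⟨e4, fun ⟨m, hm⟩ => ?_⟩
  have e5 := card_mul_relIndex (inf_le_left : pslSub F ⊓ pairStab _ z z' ≤ _)
  rw [← e5, e4, hm] at e3
  have hq1 : 1 < Nat.card F := Finite.one_lt_card
  have hc : Nat.Coprime 4 (Nat.card F) := (Nat.coprime_two_left.2 hq).pow_left 2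
  rcases he.e_eq with h | h
  · rw [← h] at e3
    have e6 : e * (4 * m) = e * (Nat.card F * (Nat.card F + 1)) := by linarith
    have := hc.dvd_of_dvd_mul_left (Nat.eq_of_mul_eq_mul_left (by omega) e6 ▸ dvd_mul_right 4 m)
    omega
  · rw [← h] at e3
    have e6 : e * (4 * m) = e * (Nat.card F * (Nat.card F - 1)) := by linarith
    have := hc.dvd_of_dvd_mul_left (Nat.eq_of_mul_eq_mul_left (by omega) e6 ▸ dvd_mul_right 4 m)
    omega

theorem pk_two_of (hq : Odd (Nat.card F)) {z z' : PLbar F} {k : ℕ} (he : IsTorusPair z z' (2 ^ (k + 2))) :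
    Pk 2 (pslSub F) := by
  obtain ⟨r, h⟩ := exists_lineAct F
  obtain ⟨e1, e2⟩ := odd_relIndex_pair hq he ⟨2 ^ k, by ring⟩
  have hS : Syl 2 (pslSub F ⊓ pairStab _ z z') (pslSub F) :=
    syl_of_not_dvd inf_le_left (by show PiNat _ _; rw [e1]; exact piNat_self_pow Nat.prime_two _) e2
  have e3 := he.card_psl_inf_torus
  rw [gcd_two_eq_two hq] at e3
  have hc : Cyc (pslSub F ⊓ torus _ z z') := h.isCyclic_of_le_torus he.1 inf_le_right
  obtain ⟨c, hc1, hc2, hc3⟩ := hc.exists_gen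
  have hc0 : c ≠ 1 := by
    rintro rfl
    rw [← hc3, orderOf_one, pow_succ, pow_succ] at e3
    omega
  refine ⟨c, _, hS, ⟨hc1.1, torus_le_pairStab _ _ hc1.2⟩, fun Q hQ hcQ => (hQ.max hS.pi (le_inf hQ.le ?_) hS.le).symm⟩
  have hle : ⟪c⟫ ≤ Q := zpowers_le.2 hcQ
  have hi : (⟪c⟫).relIndex Q = 2 := by
    have := card_mul_relIndex hle
    rw [hQ.card_eq hS, e1, ← e3, ← hc2, mul_comm 2] at this
    rw [← hc2]
    exact Nat.eq_of_mul_eq_mul_left (card_pos _) this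
  have hn := hQ.pi.nml_of_relIndex Nat.prime_two hle hi
  intro g hg
  refine h.mem_pairStab_of_conj he.1 hc0 hc1.2 ?_
  have := hn.conj_mem hg (mem_zpowers c)
  rw [← hc2] at this
  exact this.2

theorem pow_of_pk_two (hq : Odd (Nat.card F)) (hk : Pk 2 (pslSub F)) :
    ∃ k, Nat.card F - 1 = 2 ^ k ∨ Nat.card F + 1 = 2 ^ k := by
  obtain ⟨r, hr⟩ := CharP.exists F
  haveI := Fact.mk (CharP.char_is_prime F r)
  have h := lineAct_pgl F r
  have hq1 : 1 < Nat.card F := Finite.one_lt_card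
  obtain ⟨x, P, hP, hx, hu, hx1⟩ : ∃ x P, Syl 2 P (pslSub F) ∧ x ∈ P ∧ (∀ Q, Syl 2 Q (pslSub F) → x ∈ Q → Q = P) ∧
      x ≠ 1 := by
    obtain ⟨x, P, hP, hx, hu⟩ := hk
    by_cases hx1 : x = 1
    · subst hx1
      have hP1 : P ≠ ⊥ := by
        rw [Ne, hP.syl_eq_bot_iff Nat.prime_two, not_not]
        have e3 := card_pslSub (F := F)
        rw [gcd_two_eq_two hq] at e3
        obtain ⟨m, hm⟩ := hq
        rw [hm, Nat.add_sub_cancel] at e3
        exact ⟨(2 * m + 1) * m * (m + 1), by nlinarith⟩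
      obtain ⟨y, hy, hy1⟩ := FT.exists_ne_one hP1
      exact ⟨y, P, hP, hy, fun Q hQ _ => hu Q hQ (one_mem _), hy1⟩
    · exact ⟨x, P, hP, hx, hu, hx1⟩
  have hxe : PiElt {2} x := hP.pi.piElt hx
  have hr2 : r ≠ 2 := by
    rintro rfl
    exact (Nat.not_even_iff_odd.2 hq) (even_iff_two_dvd.2 (dvd_card_field 2))
  have hxr : x ^ r ≠ 1 := fun e =>
    hx1 (hxe.eq_one ((pElt_of_pow_eq_one Fact.out e).pi hr2))
  obtain ⟨z, z', e, he, hxt⟩ := exists_isTorusPair_of_pow_ne hxr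
  have e3 := he.card_psl_inf_torus
  rw [gcd_two_eq_two hq] at e3
  have hxT : x ∈ pslSub F ⊓ torus _ z z' := ⟨hP.le hx, hxt⟩
  have h2 : 2 ∣ #(pslSub F ⊓ torus _ z z') := by
    obtain ⟨s, hs, hd⟩ := Nat.exists_prime_and_dvd (mt orderOf_eq_one_iff.1 hx1)
    have : s = 2 := hxe s hs hd
    exact (this ▸ hd).trans (orderOf_dvd_card' hxT)
  obtain ⟨e1, e2⟩ := odd_relIndex_pair hq he (by omega)
  set D := pslSub F ⊓ pairStab _ z z' with hD
  have hTD : pslSub F ⊓ torus _ z z' ≤ D := inf_le_inf_left _ (torus_le_pairStab _ _)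
  have hc : Cyc (pslSub F ⊓ torus _ z z') := h.isCyclic_of_le_torus he.1 inf_le_right
  have hTn : pslSub F ⊓ torus _ z z' ⊴ D :=
    ⟨hTD, le_nrm_iff.2 fun g hg y hy => ⟨(pslSub F).mul_mem ((pslSub F).mul_mem hg.1 hy.1) ((pslSub F).inv_mem hg.1), conj_mem_torus hy.2 hg.2⟩⟩
  have hxn : ⟪x⟫ ⊴ D := hc.nml_sub (zpowers_le.2 hxT) hTn
  have hu' : ∀ Q, Syl 2 Q D → Q = P := fun Q hQ =>
    hu Q (hQ.of_relIndex inf_le_left ((p'nat_iff Nat.prime_two).2 e2)) (hQ.ge_of_nml hxe.zpowers hxn (mem_zpowers x))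
  obtain ⟨Q, hQ⟩ := exists_syl 2 D
  have hQn : D ≤ N(Q) := fun g hg => cj_eq_self.1 ((hu' _ (hQ.cj_mem hg)).trans (hu' Q hQ).symm)
  have hpi : PiNat {2} e := by
    intro s hs hd
    by_contra hs2
    have hd' : s ∣ #(pslSub F ⊓ torus _ z z') :=
      ((Nat.coprime_primes hs Nat.prime_two).2 hs2).dvd_of_dvd_mul_left (e3 ▸ hd)
    obtain ⟨y, hy, hyo⟩ := exists_elt_of_prime_dvd hs hd'
    obtain ⟨t, ht, h1, h3⟩ := he.exists_swap
    have htD : t ∈ D := ⟨ht, mem_pairStab.2 (Or.inr ⟨h1, h3⟩)⟩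
    have htQ : t ∈ Q := hQ.mem_of_nml hQn htD (pElt_of_pow_eq_one Nat.prime_two
      (by rw [pow_two]; exact h.swap_mul_self he.1 h1 h3))
    have h4 := h.swap_inverts he.1 h1 h3 (mem_torus.1 hy.2).1 (mem_torus.1 hy.2).2
    have h5 : y * y ∈ Q := by
      have := mul_mem (conj_mem (hQn (hTD hy)) htQ) (inv_mem htQ)
      rwa [show y * t * y⁻¹ * t⁻¹ = y * (t * y * t⁻¹)⁻¹ by group, h4, inv_inv] at this
    have h6 : PiElt {2}ᶜ y := (piElt_of_orderOf_prime hs hyo).2 hs2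
    have h7 : y ^ 2 = 1 := by
      rw [pow_two]
      exact (hQ.pi.piElt h5).eq_one (h6.mul h6 rfl)
    exact hs2 ((Nat.prime_dvd_prime_iff_eq hs Nat.prime_two).1 (hyo ▸ orderOf_dvd_of_pow_eq_one h7))
  obtain ⟨k, hk⟩ : ∃ k, e = 2 ^ k := ⟨_, Nat.eq_prime_pow_of_unique_prime_dvd (e1 ▸ card_ne_zero D) fun hs hd => hpi _ hs hd⟩
  exact ⟨k, hk ▸ he.e_eq.imp Eq.symm Eq.symm⟩

theorem pk_psl (p : ℕ) [hp : Fact p.Prime] : ¬ Pk p (pslSub F) ↔
    (p = 2 ∧ (¬ ∃ k : ℕ, Nat.card F + 1 = 2 ^ k) ∧ (¬ ∃ k : ℕ, Nat.card F = 2 ^ k) ∧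
      ¬ ∃ k : ℕ, Nat.card F = 2 ^ k + 1) := by
  obtain ⟨r, hr⟩ := CharP.exists F
  haveI := Fact.mk (CharP.char_is_prime F r)
  have hq1 : 1 < Nat.card F := Finite.one_lt_card
  obtain ⟨n, hn⟩ : ∃ n, Nat.card F = r ^ n := by
    haveI := Fintype.ofFinite F
    obtain ⟨n, -, hn⟩ := FiniteField.card F r
    exact ⟨n, by rw [Nat.card_eq_fintype_card, hn]⟩
  by_cases hpr : p = r
  · subst hpr
    exact iff_of_false (not_not.2 pk_char) (by rintro ⟨rfl, -, h, -⟩; exact h ⟨n, hn⟩)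
  by_cases hp2 : p = 2
  swap
  · obtain ⟨P, hP⟩ := exists_syl p (pslSub F)
    exact iff_of_false (not_not.2 (pk_of_cyc hP (pgl_isCyclic_of_isPGroup hpr hp2 ((pGrp_iff hp.out).1 hP.pi))))
      fun h => hp2 h.1
  subst hp2
  have hq : Odd (Nat.card F) := hn ▸ ((Fact.out : r.Prime).odd_of_ne_two (Ne.symm hpr)).pow
  have hq' := Nat.odd_iff.1 hq
  constructor
  · intro h
    have h1 : ¬ ∃ k : ℕ, Nat.card F + 1 = 2 ^ k := by
      rintro ⟨k, hk⟩
      obtain ⟨z, z', -, he⟩ := exists_isTorusPair_nonsplit F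
      rcases k with _ | _ | k
      · omega
      · omega
      · exact h (pk_two_of hq (hk ▸ he))
    refine ⟨rfl, h1, ?_, ?_⟩
    · rintro ⟨k, hk⟩
      rcases k with _ | k
      · omega
      · rw [pow_succ] at hk; omega
    · rintro ⟨k, hk⟩
      rcases k with _ | _ | k
      · omega
      · exact h1 ⟨2, by omega⟩
      · have he := exists_isTorusPair_split F
        rw [hk, Nat.add_sub_cancel] at he
        exact h (pk_two_of hq he)
  · rintro ⟨-, h1, -, h3⟩ h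
    obtain ⟨k, hk | hk⟩ := pow_of_pk_two hq h
    · exact h3 ⟨k, by omega⟩
    · exact h1 ⟨k, hk⟩

end Cfsg.Agent.H27
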